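import Groth.Agent.Sga3.H778.NeutralPts
import Groth.Agent.Sga3B.BcPts
import Groth.Agent.Sga3C.ActBase

/-!
# Base change of group schemes and of the union of the fibrewise neutral components

* `bcEquiv_symm_left`, `unit_bc`: points and unit section of a base change;
* `neutralSet_bc`: the union of the neutral components commutes with base change.
-/

set_option autoImplicit false

universe u

open CategoryTheory MonoidalCategory CartesianMonoidalCategory MonObj GrpObj AlgebraicGeometry Limits

namespace K203.Basic

open Groth.Agent.Sga3B.BcPts Groth.Agent.Sga3.H778.NeutralPts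

variable {S S' : Scheme.{u}} (f : S' ⟶ S)

lemma bcEquiv_symm_left {T : Over S'} {X : Over S} (y : T ⟶ Red.bc f X) :
    ((bcEquiv f T X).symm y).left = y.left ≫ pullback.fst X.hom f := by
  rw [bcEquiv, Adjunction.homEquiv_counit, Over.mapPullbackAdj_counit_app, Over.comp_left]
  rfl

/-- The unit section of a base change. -/
lemma unit_bc (G : Over S) [GrpObj G] :
    (η[Red.bc f G] : 𝟙_ _ ⟶ Red.bc f G).left ≫ pullback.fst G.hom f =
      f ≫ (η[G] : 𝟙_ (Over S) ⟶ G).left := by
  have h1 : (bcMulEquiv f (𝟙_ _) G).symm η[Red.bc f G] = 1 := by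
    rw [one_eq_one, map_one]
  have h2 := bcEquiv_symm_left f η[Red.bc f G]
  rw [← h2]
  have h3 : (1 : (Over.map f).obj (𝟙_ (Over S')) ⟶ G) = toUnit _ ≫ η[G] := rfl
  have h4 : (bcEquiv f (𝟙_ _) G).symm η[Red.bc f G] = toUnit _ ≫ η[G] := h1.trans h3
  rw [h4, Over.comp_left]
  congr 1

/-- The union of the fibrewise neutral components commutes with base change. -/
theorem neutralSet_bc (G : Over S) [GrpObj G] :
    SGA3x.neutralSet (Red.bc f G) = (pullback.fst G.hom f).base ⁻¹' SGA3x.neutralSet G := by
  rw [neutralSet_eq, neutralSet_eq]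
  exact Groth.Agent.Flat2D.RatPointConn.sectionComponents_baseChange G.hom (unitSec G)
    (unitSec_hom G) (Red.bc f G).hom (pullback.fst G.hom f) f (IsPullback.of_hasPullback G.hom f)
    (unitSec (Red.bc f G)) (unitSec_hom (Red.bc f G)) (unit_bc f G)

end K203.Basic
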