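import Groth.Agent.SGA3.K203.Pts
import Groth.Agent.Sga3.H809.Transfer
import Groth.Agent.Sga3.H785.GalDesc
import Groth.Agent.Sga3.H793.MultPart
import Groth.Agent.S4128

/-!
# Extensions of multiplicative type groups by unipotent groups: passage to an algebraically closed field, descent

* `isUnipotent_bc`, `isUnipotent_of_injective`;
* `exists_retraction_closed`: splitting over an algebraically closed extension;
* `exists_desc`: descent of a bialgebra map.
-/

set_option autoImplicit false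

universe u

open TensorProduct WithConv

namespace K203.Desc

open K203.Pts Groth.Agent.Books.DynBasic Groth.Agent.Sga3.H809.Transfer Groth.Agent.Sga3A.MTBasis

variable {k : Type u} [Field k]

theorem isUnipotent_of_injective {A B : Type u} [CommRing A] [Bialgebra k A] [CommRing B]
    [Bialgebra k B] (φ : B →ₐc[k] A) (hφ : Function.Injective φ) (h : HopfRep.IsUnipotent k A) :
    HopfRep.IsUnipotent k B := by
  rw [Groth.Agent.Sga3.H793.UnipPart2.isUnipotent_iff_soc] at h ⊢
  intro b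
  obtain ⟨n, hn⟩ := h (φ b)
  exact ⟨n, Groth.Agent.Sga3.H793.UnipPart2.mem_soc_of_map φ hφ n b hn⟩

theorem isUnipotent_of_surjective {A B : Type u} [CommRing A] [Bialgebra k A] [CommRing B]
    [Bialgebra k B] (φ : A →ₐc[k] B) (hφ : Function.Surjective φ) (h : HopfRep.IsUnipotent k A) :
    HopfRep.IsUnipotent k B := by
  rw [Groth.Agent.Sga3.H793.UnipPart2.isUnipotent_iff_soc] at h ⊢
  intro b
  obtain ⟨a, rfl⟩ := hφ b
  obtain ⟨n, hn⟩ := h a
  exact ⟨n, Groth.Agent.Sga3.H793.UnipPart2.map_mem_soc φ n a hn⟩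

theorem isUnipotent_bc {A : Type u} [CommRing A] [HopfAlgebra k A] (K : Type u) [Field K]
    [Algebra k K] (h : HopfRep.IsUnipotent k A) : HopfRep.IsUnipotent K (K ⊗[k] A) := by
  rw [Groth.Agent.Sga3.H793.UnipPart2.isUnipotent_iff_soc]
  intro x
  exact Groth.Agent.Sga3A.ComodUnip.exists_mem_soc_baseChange K h x

section bc

variable {A B : Type u} [CommRing A] [HopfAlgebra k A] [CommRing B] [HopfAlgebra k B]
variable (K : Type u) [Field K] [Algebra k K]

/-- The kernel of the base change of a quotient map. -/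
lemma ker_bcHom_mk (J : Ideal A) [J.IsHopfIdeal k] :
    RingHom.ker (bcHom K (Bialgebra.Quotient.mkBialgHom (R := k) J)) =
      J.map (Algebra.TensorProduct.includeRight : A →ₐ[k] K ⊗[k] A) := by
  have h1 := Algebra.TensorProduct.lTensor_ker (A := K) (Ideal.Quotient.mkₐ k J)
    (Ideal.Quotient.mkₐ_surjective k J)
  have h2 : RingHom.ker (Ideal.Quotient.mkₐ k J) = J := Ideal.mk_ker
  rw [h2] at h1
  rw [← h1]
  rfl

/-- The kernel ideal of a base change. -/
lemma kerIdeal_bcHom (ψ : B →ₐc[k] A) :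
    kerIdeal (bcHom K ψ) =
      (kerIdeal ψ).map (Algebra.TensorProduct.includeRight : A →ₐ[k] K ⊗[k] A) := by
  apply le_antisymm
  · rw [kerIdeal, Ideal.map_le_iff_le_comap]
    intro x hx
    have h1 : CoalgebraStruct.counit (R := K) x = 0 := hx
    -- `x` is in the ideal generated by the augmentation ideal of `B`
    have h2 : ∀ y : K ⊗[k] B, bcHom K ψ (y - algebraMap K (K ⊗[k] B)
        (CoalgebraStruct.counit (R := K) y)) ∈
        (kerIdeal ψ).map (Algebra.TensorProduct.includeRight : A →ₐ[k] K ⊗[k] A) := by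
      intro y
      induction y with
      | zero => simp
      | add x y hx hy =>
        have h3 : x + y - algebraMap K (K ⊗[k] B) (CoalgebraStruct.counit (R := K) (x + y)) =
            (x - algebraMap K (K ⊗[k] B) (CoalgebraStruct.counit (R := K) x)) +
            (y - algebraMap K (K ⊗[k] B) (CoalgebraStruct.counit (R := K) y)) := by
          rw [map_add, map_add]; ring
        rw [h3, map_add]
        exact Ideal.add_mem _ hx hy
      | tmul c b =>
        have h3 : c ⊗ₜ[k] b - algebraMap K (K ⊗[k] B) (CoalgebraStruct.counit (R := K) (c ⊗ₜ[k] b)) =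
            c • ((1 : K) ⊗ₜ[k] (b - algebraMap k B (CoalgebraStruct.counit (R := k) b))) := by
          rw [TensorProduct.counit_tmul, CommSemiring.counit_apply, TensorProduct.tmul_sub,
            smul_sub, TensorProduct.smul_tmul', smul_eq_mul, mul_one,
            TensorProduct.smul_tmul', smul_eq_mul, mul_one,
            Algebra.algebraMap_eq_smul_one (A := B), TensorProduct.tmul_smul,
            Algebra.algebraMap_eq_smul_one, Algebra.TensorProduct.one_def,
            TensorProduct.smul_tmul', smul_eq_mul, Algebra.smul_def]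
          simp [TensorProduct.smul_tmul', Algebra.smul_def]
        rw [h3, map_smul, Algebra.smul_def]
        refine Ideal.mul_mem_left _ _ ?_
        rw [bcHom_tmul]
        refine Ideal.mem_map_of_mem (Algebra.TensorProduct.includeRight : A →ₐ[k] K ⊗[k] A) ?_
        refine Ideal.mem_map_of_mem (ψ : B →+* A) ?_
        rw [RingHom.mem_ker, map_sub, AlgHom.commutes]
        exact sub_self _
    have h3 := h2 x
    rw [h1, map_zero, sub_zero] at h3
    exact h3
  · rw [Ideal.map_le_iff_le_comap, kerIdeal, Ideal.map_le_iff_le_comap]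
    intro b hb
    refine Ideal.mem_map_of_mem (bcHom K ψ : K ⊗[k] B →+* K ⊗[k] A) (x := (1 : K) ⊗ₜ[k] b) ?_
    have h1 : CoalgebraStruct.counit (R := k) b = 0 := hb
    rw [RingHom.mem_ker]
    change CoalgebraStruct.counit (R := K) ((1 : K) ⊗ₜ[k] b) = 0
    rw [TensorProduct.counit_tmul, h1, zero_smul]

/-- Splitting over an algebraically closed extension. -/
theorem exists_retraction_closed [IsAlgClosed K] [Algebra.FiniteType k A] [Algebra.FiniteType k B]
    (hB : SGA3b.IsMultTypeConst k B) (ψ : B →ₐc[k] A) (hψ : Function.Injective ψ)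
    (J : Ideal A) [J.IsHopfIdeal k] (hJ : J = kerIdeal ψ) (hU : HopfRep.IsUnipotent k (A ⧸ J)) :
    ∃ R : (K ⊗[k] A) →ₐc[K] (K ⊗[k] B), R.comp (bcHom K ψ) = BialgHom.id K (K ⊗[k] B) := by
  obtain ⟨M, _, ⟨g⟩⟩ := Groth.Agent.Sga3.H785.GalDesc.exists_gbasis K hB
  let π : (K ⊗[k] A) →ₐc[K] (K ⊗[k] (A ⧸ J)) := bcHom K (Bialgebra.Quotient.mkBialgHom (R := k) J)
  have hπ : Function.Surjective π := bcHom_surjective K _ Ideal.Quotient.mk_surjective
  have hI : (RingHom.ker π).IsHopfIdeal K := Groth.Agent.Books.AffBridge2.isHopfIdeal_ker π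
  have hJ' : RingHom.ker π = Ideal.map (bcHom K ψ : (K ⊗[k] B) →+* (K ⊗[k] A))
      (RingHom.ker (Bialgebra.counitAlgHom K (K ⊗[k] B))) := by
    rw [ker_bcHom_mk]
    conv_lhs => rw [hJ]
    exact (kerIdeal_bcHom K ψ).symm
  let e := Groth.Agent.Books.AffBridge2.quotKerEquiv π hπ (RingHom.ker π) rfl
  have hU' : HopfRep.IsUnipotent K ((K ⊗[k] A) ⧸ RingHom.ker π) := by
    refine isUnipotent_of_injective (e : ((K ⊗[k] A) ⧸ RingHom.ker π) →ₐc[K] (K ⊗[k] (A ⧸ J)))
      e.injective ?_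
    exact isUnipotent_bc K hU
  exact Groth.Agent.S4128.result K (K ⊗[k] A) (K ⊗[k] B)
    (Groth.Agent.Sga3A.MTConst.isDiag_of_gbasis g) (bcHom K ψ) (bcHom_injective K ψ hψ)
    (RingHom.ker π) hJ' hU'

end bc

section desc

variable {A B : Type u} [CommRing A] [HopfAlgebra k A] [CommRing B] [HopfAlgebra k B]
variable (K : Type u) [Field K] [Algebra k K]

/-- the injection `C ⊗ C → (K ⊗ C) ⊗_K (K ⊗ C)` -/
noncomputable def ι₂ (C : Type u) [CommRing C] [Bialgebra k C] (z : C ⊗[k] C) :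
    (K ⊗[k] C) ⊗[K] (K ⊗[k] C) :=
  TensorProduct.AlgebraTensorModule.distribBaseChange k K C C ((1 : K) ⊗ₜ z)

lemma ι₂_injective (C : Type u) [CommRing C] [Bialgebra k C] :
    Function.Injective (ι₂ (k := k) K C) := by
  intro x y h
  exact one_tmul_injective (R := k) K (C ⊗[k] C) ((LinearEquiv.injective _) h)

lemma ι₂_add (C : Type u) [CommRing C] [Bialgebra k C] (x y : C ⊗[k] C) :
    ι₂ K C (x + y) = ι₂ K C x + ι₂ K C y := by
  rw [ι₂, TensorProduct.tmul_add, map_add]; rfl

lemma ι₂_tmul (C : Type u) [CommRing C] [Bialgebra k C] (x y : C) :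
    ι₂ (k := k) K C (x ⊗ₜ y) = ((1 : K) ⊗ₜ[k] x) ⊗ₜ[K] ((1 : K) ⊗ₜ[k] y) := by
  rw [ι₂]; simp

/-- Descent of a bialgebra map whose values on `A` lie in `B`. -/
theorem exists_desc (R : (K ⊗[k] A) →ₐc[K] (K ⊗[k] B))
    (hR : ∀ a : A, ∃ b : B, (1 : K) ⊗ₜ[k] b = R (1 ⊗ₜ a)) :
    ∃ r : A →ₐc[k] B, ∀ a, (1 : K) ⊗ₜ[k] r a = R (1 ⊗ₜ a) := by
  let i : B →ₐ[k] K ⊗[k] B := Algebra.TensorProduct.includeRight
  have hi : Function.Injective i := one_tmul_injective (R := k) K B
  let F : A →ₐ[k] K ⊗[k] B :=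
    ((R : (K ⊗[k] A) →ₐ[K] (K ⊗[k] B)).restrictScalars k).comp Algebra.TensorProduct.includeRight
  have hF : ∀ a, F a ∈ i.range := fun a => hR a
  let r₀ : A →ₐ[k] B := ((AlgEquiv.ofInjective i hi).symm : i.range →ₐ[k] B).comp
    (F.codRestrict i.range hF)
  have hr₀ : ∀ a, (1 : K) ⊗ₜ[k] r₀ a = R (1 ⊗ₜ a) := by
    intro a
    have h2 := (AlgEquiv.ofInjective i hi).apply_symm_apply (F.codRestrict i.range hF a)
    exact congrArg Subtype.val h2
  refine ⟨BialgHom.ofAlgHom r₀ ?_ ?_, hr₀⟩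
  · apply AlgHom.ext
    intro a
    have h1 : CoalgebraStruct.counit (R := K) (R (1 ⊗ₜ a)) =
        CoalgebraStruct.counit (R := K) ((1 : K) ⊗ₜ[k] a) := CoalgHomClass.counit_comp_apply R _
    rw [← hr₀] at h1
    have h2 : ∀ {B : Type u} [CommRing B] [Bialgebra k B] (b : B),
        CoalgebraStruct.counit (R := K) ((1 : K) ⊗ₜ[k] b) =
        algebraMap k K (CoalgebraStruct.counit (R := k) b) := by
      intro B _ _ b
      rw [TensorProduct.counit_tmul, Algebra.algebraMap_eq_smul_one, Bialgebra.counit_one]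
    rw [h2, h2] at h1
    exact (algebraMap k K).injective h1
  · apply AlgHom.ext
    intro a
    apply ι₂_injective K B
    have h1 : TensorProduct.map (R : (K ⊗[k] A) →ₗ[K] (K ⊗[k] B))
        (R : (K ⊗[k] A) →ₗ[K] (K ⊗[k] B)) (CoalgebraStruct.comul (R := K) ((1 : K) ⊗ₜ[k] a)) =
        CoalgebraStruct.comul (R := K) (R (1 ⊗ₜ a)) := CoalgHomClass.map_comp_comul_apply R _
    rw [← hr₀, comul_one_tmul, comul_one_tmul] at h1
    refine Eq.trans ?_ h1
    change ι₂ K B (TensorProduct.map r₀.toLinearMap r₀.toLinearMap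
      (CoalgebraStruct.comul (R := k) a)) =
      TensorProduct.map (R : (K ⊗[k] A) →ₗ[K] (K ⊗[k] B)) (R : (K ⊗[k] A) →ₗ[K] (K ⊗[k] B))
        (ι₂ K A (CoalgebraStruct.comul (R := k) a))
    generalize (CoalgebraStruct.comul (R := k) a : A ⊗[k] A) = z
    induction z with
    | zero =>
      rw [map_zero]
      simp [ι₂]
    | tmul u v =>
      rw [TensorProduct.map_tmul, ι₂_tmul, ι₂_tmul, TensorProduct.map_tmul]
      congr 1
      · exact hr₀ u
      · exact hr₀ v
    | add u v hu hv => rw [map_add, ι₂_add, ι₂_add, map_add, hu, hv]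

/-- Descent of a retraction. -/
theorem exists_retraction_of_desc (ψ : B →ₐc[k] A) (R : (K ⊗[k] A) →ₐc[K] (K ⊗[k] B))
    (hRψ : R.comp (bcHom K ψ) = BialgHom.id K (K ⊗[k] B))
    (hR : ∀ a : A, ∃ b : B, (1 : K) ⊗ₜ[k] b = R (1 ⊗ₜ a)) :
    ∃ r : A →ₐc[k] B, r.comp ψ = BialgHom.id k B := by
  obtain ⟨r, hr⟩ := exists_desc K R hR
  refine ⟨r, ?_⟩
  apply DFunLike.ext
  intro b
  apply one_tmul_injective (R := k) K B
  change (1 : K) ⊗ₜ[k] r (ψ b) = 1 ⊗ₜ b
  rw [hr]
  exact DFunLike.congr_fun hRψ (1 ⊗ₜ b)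

end desc

end K203.Desc
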