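import Groth.Agent.Sga3.H785.SplitPerf
import Groth.Agent.Sga3.H793.MultPart
import Groth.Agent.SGA3.K203.Desc

/-!
# The decomposition of commutative affine algebraic groups over a perfect field
-/

set_option autoImplicit false
universe u
open TensorProduct HopfRep

namespace K203.CommPerf

open Groth.Agent.Sga3A.MTBasis Groth.Agent.Sga3A.ComodBasic Groth.Agent.Sga3A.ComodUnip
open Groth.Agent.Sga3.H785.MatConj Groth.Agent.Sga3.H785.SplitClosed Groth.Agent.Sga3.H785
open Groth.Agent.Sga3.H809.Transfer (bcHom bcHom_tmul bcHom_injective)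

section closed

variable {K : Type u} [Field K] {A : Type u} [CommRing A] [HopfAlgebra K A]
  {D : Type u} [CommRing D] [Bialgebra K D] (π : A →ₐc[K] D)
  {M : Type u} [CommGroup M] (g : GBasis K D M)
  {C : Type u} [CommRing C] [HopfAlgebra K C] (ψ : C →ₐc[K] A) (hψ : Function.Injective ψ)
  (hR : ∀ x, δR π x = x ⊗ₜ 1 → ∃ c, (ψ : C →ₐ[K] A) c = x)
  (hR' : ∀ c, δR π (ψ c) = ψ c ⊗ₜ 1)
  (hS : ∀ c, ∃ n, (ψ : C →ₐ[K] A) c ∈ soc K A A n)
  (hspan : ∀ x : A, x ∈ Submodule.span K {y : A | ∃ (c : C) (γ : A),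
    IsGroupLikeElem K γ ∧ y = ψ c * γ})
  (hπ : Function.Surjective π)

include hR' hspan hπ in
lemma exists_groupLike (m : M) : ∃ γ : A, IsGroupLikeElem K γ ∧ π γ = g.b m := by
  classical
  let S : Set M := {m | ∃ γ : A, IsGroupLikeElem K γ ∧ π γ = g.b m}
  have h0 : ∀ c, π (ψ c) = algebraMap K D (CoalgebraStruct.counit (R := K) c) := by
    intro c
    have h1 := congrArg (fun z => TensorProduct.lid K D
      (LinearMap.rTensor D (CoalgebraStruct.counit (R := K) (A := A)) z)) (hR' c)
    simp only [δR_apply, LinearMap.rTensor_tmul, TensorProduct.lid_tmul] at h1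
    have h2 : ∀ z : A ⊗[K] A, TensorProduct.lid K D
        (LinearMap.rTensor D (CoalgebraStruct.counit (R := K) (A := A))
          (TensorProduct.map LinearMap.id (π : A →ₗ[K] D) z)) =
        π (TensorProduct.lid K A
          (LinearMap.rTensor A (CoalgebraStruct.counit (R := K) (A := A)) z)) := by
      intro z
      induction z with
      | zero => simp
      | tmul u v => simp
      | add u v hu hv => simp only [map_add, hu, hv]
    rw [h2, Coalgebra.rTensor_counit_comul] at h1
    simp only [TensorProduct.lid_tmul, one_smul] at h1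
    rw [h1, Algebra.algebraMap_eq_smul_one]
    congr 1
    exact CoalgHomClass.counit_comp_apply ψ c
  have h1 : ∀ x : A, π x ∈ Submodule.span K (g.b '' S) := by
    intro x
    have hx := hspan x
    induction hx using Submodule.span_induction with
    | mem y hy =>
      obtain ⟨c, γ, hγ, rfl⟩ := hy
      rw [map_mul, h0, ← Algebra.smul_def]
      refine Submodule.smul_mem _ _ (Submodule.subset_span ?_)
      obtain ⟨m', hm'⟩ := g.exists_eq (hγ.map π)
      exact ⟨m', ⟨γ, hγ, hm'⟩, hm'.symm⟩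
    | zero => rw [map_zero]; exact zero_mem _
    | add y z _ _ hy hz => rw [map_add]; exact add_mem hy hz
    | smul r y _ hy => rw [map_smul]; exact Submodule.smul_mem _ _ hy
  obtain ⟨x, hx⟩ := hπ (g.b m)
  have h2 := h1 x
  rw [hx, Module.Basis.mem_span_image] at h2
  exact h2 (by rw [Module.Basis.repr_self, Finsupp.support_single_ne_zero _ one_ne_zero]; simp)

include g hψ hR hR' hS hspan hπ in
/-- the retraction over an algebraically closed field -/
theorem exists_retraction :
    ∃ R : A →ₐc[K] C, ∀ (c : C) (γ : A), IsGroupLikeElem K γ → R (ψ c * γ) = c := by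
  classical
  have hj : Function.Injective (ψ : C →ₐ[K] A) := hψ
  have hex := exists_groupLike π g ψ hR' hspan hπ
  choose γ hγ hγm using hex
  let γh : M →* A :=
    { toFun := γ
      map_one' := groupLike_ext π (ψ : C →ₐ[K] A) hR hS (hγ 1) IsGroupLikeElem.one (by
        rw [hγm, g.one, map_one])
      map_mul' := fun m n => groupLike_ext π (ψ : C →ₐ[K] A) hR hS (hγ _) ((hγ m).mul (hγ n)) (by
        rw [hγm, g.mul, map_mul, hγm, hγm]) }
  let θ : D →ₐ[K] A := (MonoidAlgebra.lift K A M γh).comp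
    ((g.bialgEquiv.symm : D ≃ₐc[K] MonoidAlgebra K M) : D →ₐ[K] MonoidAlgebra K M)
  have hθ : ∀ m, θ (g.b m) = γ m := by
    intro m
    have h1 : g.bialgEquiv.symm (g.b m) = MonoidAlgebra.single m 1 := by
      rw [← g.bialgEquiv.apply_symm_apply (g.b m)]
      have h2 := g.bialgEquiv_single m 1
      rw [one_smul] at h2
      rw [← h2, BialgEquiv.symm_apply_apply, BialgEquiv.symm_apply_apply]
    change MonoidAlgebra.lift K A M γh (g.bialgEquiv.symm (g.b m)) = _
    rw [h1]
    simp [γh]
  let R' : A →ₐ[K] A := (Algebra.TensorProduct.lift (AlgHom.id K A)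
    ((HopfAlgebra.antipodeAlgHom K A).comp θ) (fun _ _ => Commute.all _ _)).comp (δR π)
  have hR'j : ∀ c, R' (ψ c) = ψ c := by
    intro c
    change Algebra.TensorProduct.lift (AlgHom.id K A)
      ((HopfAlgebra.antipodeAlgHom K A).comp θ) (fun _ _ => Commute.all _ _) (δR π (ψ c)) = _
    rw [hR', Algebra.TensorProduct.lift_tmul, map_one, mul_one]
    rfl
  have hR'γ : ∀ u, IsGroupLikeElem K u → R' u = 1 := by
    intro u hu
    obtain ⟨m, hm⟩ := g.exists_eq (hu.map π)
    have hu' : u = γ m := groupLike_ext π (ψ : C →ₐ[K] A) hR hS hu (hγ m) (by rw [hm, hγm])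
    change Algebra.TensorProduct.lift (AlgHom.id K A)
      ((HopfAlgebra.antipodeAlgHom K A).comp θ) (fun _ _ => Commute.all _ _) (δR π u) = _
    rw [δR_groupLike π hu, hm, Algebra.TensorProduct.lift_tmul]
    change u * HopfAlgebra.antipode K (θ (g.b m)) = 1
    rw [hθ, ← hu', hu.mul_antipode_cancel]
  have hR'' : ∀ x, R' x ∈ (ψ : C →ₐ[K] A).range := by
    intro x
    have hx := hspan x
    induction hx using Submodule.span_induction with
    | mem y hy =>
      obtain ⟨c, u, hu, rfl⟩ := hy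
      rw [map_mul, hR'j, hR'γ u hu, mul_one]
      exact ⟨c, rfl⟩
    | zero => rw [map_zero]; exact zero_mem _
    | add y z _ _ hy hz => rw [map_add]; exact add_mem hy hz
    | smul r y _ hy => rw [map_smul]; exact Subalgebra.smul_mem _ hy r
  let R : A →ₐ[K] C := ((AlgEquiv.ofInjective (ψ : C →ₐ[K] A) hj).symm :
    (ψ : C →ₐ[K] A).range →ₐ[K] C).comp (R'.codRestrict (ψ : C →ₐ[K] A).range hR'')
  have hRc : ∀ (c : C) (u : A), IsGroupLikeElem K u → R (ψ c * u) = c := by
    intro c u hu
    apply hj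
    have h1 : ∀ y : (ψ : C →ₐ[K] A).range,
        (ψ : C →ₐ[K] A) ((AlgEquiv.ofInjective (ψ : C →ₐ[K] A) hj).symm y) = y := fun y => by
      have h2 := (AlgEquiv.ofInjective (ψ : C →ₐ[K] A) hj).apply_symm_apply y
      exact congrArg Subtype.val h2
    refine (h1 _).trans ?_
    change R' (ψ c * u) = ψ c
    rw [map_mul, hR'j, hR'γ u hu, mul_one]
  refine ⟨BialgHom.ofAlgHom R ?_ ?_, hRc⟩
  · apply AlgHom.ext
    intro x
    change CoalgebraStruct.counit (R := K) (R x) = CoalgebraStruct.counit (R := K) x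
    have hx := hspan x
    induction hx using Submodule.span_induction with
    | mem y hy =>
      obtain ⟨c, γ, hγ, rfl⟩ := hy
      rw [hRc c γ hγ, Bialgebra.counit_mul, hγ.counit_eq_one, mul_one]
      exact (CoalgHomClass.counit_comp_apply ψ c).symm
    | zero => simp
    | add y z _ _ hy hz => simp only [map_add, hy, hz]
    | smul s y _ hy => simp only [map_smul, hy]
  · apply AlgHom.ext
    intro x
    change TensorProduct.map R.toLinearMap R.toLinearMap (CoalgebraStruct.comul (R := K) x) =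
      CoalgebraStruct.comul (R := K) (R x)
    have hx := hspan x
    induction hx using Submodule.span_induction with
    | mem y hy =>
      obtain ⟨c, γ, hγ, rfl⟩ := hy
      rw [hRc c γ hγ, Bialgebra.comul_mul, hγ.comul_eq_tmul_self,
        ← CoalgHomClass.map_comp_comul_apply ψ c]
      generalize (CoalgebraStruct.comul (R := K) c) = z
      induction z with
      | zero => simp
      | tmul u v =>
        rw [TensorProduct.map_tmul, Algebra.TensorProduct.tmul_mul_tmul, TensorProduct.map_tmul]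
        congr 1
        · exact (hRc u γ hγ)
        · exact (hRc v γ hγ)
      | add u v hu hv => rw [map_add, add_mul, map_add, hu, hv]
    | zero => simp
    | add y z _ _ hy hz => simp only [map_add, hy, hz]
    | smul s y _ hy => simp only [map_smul, hy]

end closed

section main

variable {k : Type u} [Field k] {A C : Type u} [CommRing A] [HopfAlgebra k A]
  [Algebra.FiniteType k A] [CommRing C] [HopfAlgebra k C]
  (hC : HopfRep.IsUnipotent k C)
  (ψ : C →ₐc[k] A) (hψ : Function.Injective ψ)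
  (J : Ideal A) [J.IsHopfIdeal k] (hJ : J = K203.Pts.kerIdeal ψ)
  (hH : SGA3b.IsMultTypeConst k (A ⧸ J))
  (K : Type u) [Field K] [Algebra k K] [IsAlgClosed K]
  (hspan : ∀ x : K ⊗[k] A, x ∈ Submodule.span K {y | ∃ (c : K ⊗[k] C) (γ : K ⊗[k] A),
      IsGroupLikeElem K γ ∧ y = bcHom K ψ c * γ})

include hC hψ hJ hH hspan in
theorem exists_retraction_bc : ∃ R : (K ⊗[k] A) →ₐc[K] (K ⊗[k] C),
    ∀ (c : K ⊗[k] C) (γ : K ⊗[k] A), IsGroupLikeElem K γ → R (bcHom K ψ c * γ) = c := by
  have : Algebra.FiniteType k (A ⧸ J) := inferInstance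
  obtain ⟨M, _, ⟨g⟩⟩ := GalDesc.exists_gbasis K hH
  let π : (K ⊗[k] A) →ₐc[K] (K ⊗[k] (A ⧸ J)) :=
    bcHom K (Bialgebra.Quotient.mkBialgHom (R := k) J)
  have hπ : Function.Surjective π :=
    Groth.Agent.Sga3.H809.Transfer.bcHom_surjective K _ Ideal.Quotient.mk_surjective
  have hker : RingHom.ker π = K203.Pts.kerIdeal (bcHom K ψ) := by
    rw [K203.Desc.ker_bcHom_mk, K203.Desc.kerIdeal_bcHom, ← hJ]
  have htriv : ∀ c : K ⊗[k] C, π (bcHom K ψ c) =
      algebraMap K (K ⊗[k] (A ⧸ J)) (CoalgebraStruct.counit (R := K) c) := by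
    intro c
    have h1 : (bcHom K ψ) (c - algebraMap K _ (CoalgebraStruct.counit (R := K) c)) ∈
        RingHom.ker π := by
      rw [hker, K203.Pts.kerIdeal]
      refine Ideal.mem_map_of_mem ((bcHom K ψ : (K ⊗[k] C) →ₐc[K] (K ⊗[k] A)) :
        (K ⊗[k] C) →+* (K ⊗[k] A)) ?_
      rw [RingHom.mem_ker, map_sub, AlgHom.commutes]
      exact sub_self _
    rw [RingHom.mem_ker, map_sub, map_sub, sub_eq_zero] at h1
    rw [h1]
    have h2 : (bcHom K ψ) (algebraMap K _ (CoalgebraStruct.counit (R := K) c)) =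
      algebraMap K _ (CoalgebraStruct.counit (R := K) c) := AlgHomClass.commutes (bcHom K ψ) _
    rw [h2]
    exact AlgHomClass.commutes π _
  have hker' : RingHom.ker ((π : (K ⊗[k] A) →ₐ[K] (K ⊗[k] (A ⧸ J)))) ≤
      SGA3.augIdealSpan K (K ⊗[k] A) (bcHom K ψ : (K ⊗[k] C) →ₐ[K] (K ⊗[k] A)).range := by
    have h1 : RingHom.ker ((π : (K ⊗[k] A) →ₐ[K] (K ⊗[k] (A ⧸ J)))) =
      K203.Pts.kerIdeal (bcHom K ψ) := hker
    rw [h1, K203.Pts.kerIdeal, Ideal.map_le_iff_le_comap]
    intro c hc
    refine Ideal.subset_span ⟨⟨c, rfl⟩, ?_⟩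
    have h3 : CoalgebraStruct.counit (R := K) c = 0 := hc
    exact (CoalgHomClass.counit_comp_apply (bcHom K ψ) c).trans h3
  have hS : ∀ c, ∃ n, (bcHom K ψ : (K ⊗[k] C) →ₐ[K] (K ⊗[k] A)) c ∈
      soc K (K ⊗[k] A) (K ⊗[k] A) n := by
    intro c
    obtain ⟨n, hn⟩ := exists_mem_soc_baseChange K hC c
    exact ⟨n, Groth.Agent.S2966.bialgHom_mem_soc (bcHom K ψ) n c hn⟩
  exact exists_retraction π g (bcHom K ψ) (bcHom_injective K ψ hψ)
    (fun x hx => SplitPerf.exists_of_coinv π (bcHom K ψ) hπ hker' x hx)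
    (SplitPerf.δR_of_trivial π (bcHom K ψ) htriv) hS hspan hπ

end main

section perf

variable {k : Type u} [Field k] {A C : Type u} [CommRing A] [HopfAlgebra k A]
  [Algebra.FiniteType k A] [CommRing C] [HopfAlgebra k C]
  (hC : HopfRep.IsUnipotent k C)
  (ψ : C →ₐc[k] A) (hψ : Function.Injective ψ)
  (J : Ideal A) [J.IsHopfIdeal k] (hJ : J = K203.Pts.kerIdeal ψ)
  (hH : SGA3b.IsMultTypeConst k (A ⧸ J))
  (hspan : ∀ x : AlgebraicClosure k ⊗[k] A, x ∈ Submodule.span (AlgebraicClosure k)
    {y | ∃ (c : AlgebraicClosure k ⊗[k] C) (γ : AlgebraicClosure k ⊗[k] A),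
      IsGroupLikeElem (AlgebraicClosure k) γ ∧ y = bcHom (AlgebraicClosure k) ψ c * γ})

include hC hψ hJ hH hspan in
theorem exists_retraction_perfect [PerfectField k] :
    ∃ r : A →ₐc[k] C, r.comp ψ = BialgHom.id k C := by
  obtain ⟨R, hR⟩ := exists_retraction_bc hC ψ hψ J hJ hH (AlgebraicClosure k) hspan
  have hgal : ∀ (σ : AlgebraicClosure k →ₐ[k] AlgebraicClosure k) (x : AlgebraicClosure k ⊗[k] A),
      bc C σ (R x) = R (bc A σ x) := by
    intro σ x
    have hx := hspan x
    induction hx using Submodule.span_induction with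
    | mem y hy =>
      obtain ⟨c, γ, hγ, rfl⟩ := hy
      have h1 : bc A σ (bcHom (AlgebraicClosure k) ψ c) = bcHom (AlgebraicClosure k) ψ (bc C σ c) :=
        SplitPerf.bc_bcHom _ ψ σ c
      rw [hR c γ hγ, map_mul, h1, hR _ _ (isGroupLikeElem_bc σ hγ)]
    | zero => simp
    | add y z _ _ hy hz => simp only [map_add, hy, hz]
    | smul s y _ hy => rw [map_smul, bc_smul, bc_smul, map_smul, hy]
  have hgal' : IsGalois k (AlgebraicClosure k) := inferInstance
  have hfix : ∀ a : A, ∃ c : C, (1 : AlgebraicClosure k) ⊗ₜ[k] c = R (1 ⊗ₜ a) := by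
    intro a
    apply GalDesc.exists_of_fixed
    intro σ
    rw [hgal, bc_tmul, map_one]
  refine K203.Desc.exists_retraction_of_desc (AlgebraicClosure k) ψ R ?_ hfix
  apply DFunLike.ext
  intro c
  change R (bcHom (AlgebraicClosure k) ψ c) = c
  rw [← mul_one (bcHom (AlgebraicClosure k) ψ c)]
  exact hR c 1 IsGroupLikeElem.one

include hC hspan in
/-- A unipotent subgroup contained in... : the ideal of every unipotent closed subgroup contains the
kernel of the retraction. -/
theorem ker_le (r : A →ₐc[k] C) (hr : r.comp ψ = BialgHom.id k C) (I : Ideal A) [I.IsHopfIdeal k]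
    (hI : HopfRep.IsUnipotent k (A ⧸ I)) (a : A) (ha : r a = 0) : a ∈ I := by
  let K := AlgebraicClosure k
  let q : (K ⊗[k] A) →ₐc[K] (K ⊗[k] (A ⧸ I)) := bcHom K (Bialgebra.Quotient.mkBialgHom (R := k) I)
  have h1 : ∀ x : K ⊗[k] A, q x = q (bcHom K ψ (bcHom K r x)) := by
    intro x
    have hx := hspan x
    induction hx using Submodule.span_induction with
    | mem y hy =>
      obtain ⟨c, γ, hγ, rfl⟩ := hy
      have h2 : bcHom K r γ = 1 :=
        SplitPerf.groupLike_eq_one _ hC _ (hγ.map (bcHom K r))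
      have h3 : q γ = 1 := SplitPerf.groupLike_eq_one _ hI _ (hγ.map q)
      have h4 : ∀ c, bcHom K r (bcHom K ψ c) = c := by
        intro c
        induction c with
        | zero => simp
        | tmul a y =>
          rw [bcHom_tmul, bcHom_tmul]
          congr 1
          exact DFunLike.congr_fun hr y
        | add x y hx hy => simp only [map_add, hx, hy]
      rw [map_mul, map_mul, h2, h3, mul_one, mul_one, h4]
    | zero => simp
    | add y z _ _ hy hz => simp only [map_add, ← hy, ← hz]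
    | smul s y _ hy => simp only [map_smul, ← hy]
  have h2 := h1 (1 ⊗ₜ a)
  rw [bcHom_tmul K r, ha, TensorProduct.tmul_zero, map_zero, map_zero] at h2
  have h3 : (1 : K) ⊗ₜ[k] (Ideal.Quotient.mk I a) = (1 : K) ⊗ₜ[k] (0 : A ⧸ I) := by
    rw [TensorProduct.tmul_zero]
    exact h2
  exact Ideal.Quotient.eq_zero_iff_mem.mp (one_tmul_injective (R := k) K (A ⧸ I) h3)

end perf

end K203.CommPerf
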