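import Groth.Agent.SGA3.K203.Loc
import Groth.Agent.S2756
import Groth.Agent.S2757
import Groth.Agent.S2758
import Groth.Agent.Sga3C.QuotQFAt
import Groth.Agent.Sga3C.FlatPt
import Groth.Agent.Smoothlim.SmoothLocusBC

/-!
# Properties at a point of the source and base change

For a cartesian square `f'` over `f` and a point `x` of the source of `f'` with image `g' x`:
`f'` is unramified (quasi-finite) at `x` iff `f` is at `g' x`; the same for flat, smooth,
étale if the base change morphism is flat at `f' x`.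
-/

set_option autoImplicit false

universe u

open CategoryTheory AlgebraicGeometry Limits

namespace K203.BC

open K203.Loc Groth.Agent.Sga3C.FlatPt

variable {X Y X' Y' : Scheme.{u}} {g' : X' ⟶ X} {f' : X' ⟶ Y'} {f : X ⟶ Y} {g : Y' ⟶ Y}

lemma near_pullback_iff {P : MorphismProperty Scheme.{u}} [IsZariskiLocalAtSource P]
    (h : IsPullback g' f' f g) (x : X') :
    Near P f' x ↔ Near P (pullback.snd f g) (h.isoPullback.hom x) :=
  near_isoInv f' (pullback.snd f g) h.isoPullback.hom (𝟙 Y') (by simp) x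

lemma fst_isoPullback (h : IsPullback g' f' f g) (x : X') :
    pullback.fst f g (h.isoPullback.hom x) = g' x := by
  rw [← Scheme.Hom.comp_apply, h.isoPullback_hom_fst]

lemma snd_isoPullback (h : IsPullback g' f' f g) (x : X') :
    pullback.snd f g (h.isoPullback.hom x) = f' x := by
  rw [← Scheme.Hom.comp_apply, h.isoPullback_hom_snd]

theorem unramified_iff (h : IsPullback g' f' f g) [LocallyOfFinitePresentation f] (x : X') :
    Near @FormallyUnramified f' x ↔ Near @FormallyUnramified f (g' x) := by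
  constructor
  · intro hx
    rw [near_pullback_iff h] at hx
    have h1 := Groth.Agent.S2756.result f g (h.isoPullback.hom x) hx
    rw [← fst_isoPullback h]
    exact h1
  · exact near_of_isPullback h x

theorem smooth_iff (h : IsPullback g' f' f g) [LocallyOfFinitePresentation f] (x : X')
    (hg : IsFlatAt g (f' x)) : Near @Smooth f' x ↔ Near @Smooth f (g' x) := by
  constructor
  · intro hx
    rw [near_pullback_iff h] at hx
    rw [← snd_isoPullback h, isFlatAt_iff_stalkMap] at hg
    have h1 := Groth.Agent.S2757.result f g (h.isoPullback.hom x) hg hx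
    rw [← fst_isoPullback h]
    exact h1
  · exact near_of_isPullback h x

theorem etale_iff (h : IsPullback g' f' f g) [LocallyOfFinitePresentation f] (x : X')
    (hg : IsFlatAt g (f' x)) : Near @Etale f' x ↔ Near @Etale f (g' x) := by
  constructor
  · intro hx
    rw [near_pullback_iff h] at hx
    rw [← snd_isoPullback h, isFlatAt_iff_stalkMap] at hg
    have h1 := Groth.Agent.S2758.result f g (h.isoPullback.hom x) hg hx
    rw [← fst_isoPullback h]
    exact h1
  · exact near_of_isPullback h x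

theorem qf_iff (h : IsPullback g' f' f g) [LocallyOfFiniteType f] (x : X') :
    f'.QuasiFiniteAt x ↔ f.QuasiFiniteAt (g' x) :=
  ⟨Groth.Agent.Sga3C.QuotQFAt.quasiFiniteAt_of_isPullback_descent h x,
    Groth.Agent.Sga3C.QuotQFAt.quasiFiniteAt_of_isPullback h x⟩

theorem flatAt_iff (h : IsPullback g' f' f g) (x : X') (hg : IsFlatAt g (f' x)) :
    IsFlatAt f' x ↔ IsFlatAt f (g' x) := by
  constructor
  · intro hx
    have h1 : IsFlatAt g' x := IsFlatAt.of_isPullback h.flip x hg
    have h2 : IsFlatAt (f' ≫ g) x := hx.comp hg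
    rw [← h.w] at h2
    exact IsFlatAt.of_comp h1 h2
  · exact IsFlatAt.of_isPullback h x

/-! ### Invariance under isomorphisms -/

lemma qf_isoInv : IsoInv (fun _ _ f x ↦ f.QuasiFiniteAt x) := by
  intro X Y X' Y' f f' e e' _ _ h x
  dsimp only
  rw [← Scheme.Hom.quasiFiniteAt_comp_iff_of_isOpenImmersion (f := e), h,
    Scheme.Hom.quasiFiniteAt_comp_iff]

lemma flatAt_isoInv : IsoInv (fun _ _ f x ↦ IsFlatAt f x) := by
  intro X Y X' Y' f f' e e' _ _ h x
  dsimp only
  have hsq : IsPullback e f f' e' := IsPullback.of_horiz_isIso ⟨h⟩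
  exact flatAt_iff hsq x (isFlatAt_of_flat e' _)

/-! ### Smoothness at a point -/

lemma near_smooth_iff [LocallyOfFinitePresentation f] (x : X) :
    Near @Smooth f x ↔ x ∈ f.smoothLocus := by
  constructor
  · rintro ⟨U, hx, hU⟩
    have h1 : U.ι ⁻¹ᵁ f.smoothLocus = (U.ι ≫ f).smoothLocus :=
      Scheme.Hom.preimage_smoothLocus_eq U.ι f
    have h3 : (U.ι ≫ f).smoothLocus = ⊤ := Scheme.Hom.smoothLocus_eq_top (U.ι ≫ f)
    rw [h3] at h1
    have h2 : (⟨x, hx⟩ : U) ∈ U.ι ⁻¹ᵁ f.smoothLocus := by rw [h1]; trivial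
    exact h2
  · intro hx
    refine ⟨f.smoothLocus, hx, ?_⟩
    rw [← Scheme.Hom.smoothLocus_eq_top_iff, ← Scheme.Hom.preimage_smoothLocus_eq]
    ext y
    simp

lemma near_etale_iff [LocallyOfFinitePresentation f] (x : X) :
    Near @Etale f x ↔ Near @Smooth f x ∧ Near @FormallyUnramified f x := by
  constructor
  · rintro ⟨U, hx, hU⟩
    exact ⟨⟨U, hx, inferInstance⟩, ⟨U, hx, inferInstance⟩⟩
  · rintro ⟨⟨U, hx, hU⟩, ⟨V, hxV, hV⟩⟩
    refine ⟨U ⊓ V, ⟨hx, hxV⟩, ?_⟩
    have h1 : Smooth ((U ⊓ V).ι ≫ f) := restrict inf_le_left hU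
    have h2 : FormallyUnramified ((U ⊓ V).ι ≫ f) := restrict inf_le_right hV
    rw [Etale.iff_flat_and_formallyUnramified]
    exact ⟨inferInstance, h2, inferInstance⟩

lemma flatAt_of_near_flat {x : X} (h : Near @Flat f x) : IsFlatAt f x := by
  obtain ⟨U, hx, hU⟩ := h
  have h1 : IsFlatAt (U.ι ≫ f) ⟨x, hx⟩ := isFlatAt_of_flat _ _
  exact IsFlatAt.of_comp (q := U.ι) (f := f) (t := ⟨x, hx⟩) (isFlatAt_of_flat _ _) h1

end K203.BC
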