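import Groth.Agent.SGA3.K203.Transl
import Groth.Agent.SGA3.K203.BC
import Groth.Agent.Sga3C.ActBase
import Groth.Agent.S1386

/-!
# The locus of the base over which a homomorphism of group schemes has a property

For a homomorphism `u : G ⟶ H` of `S`-group schemes and the properties quasi-finite, unramified,
flat, smooth, étale: the property holds at all points of a fibre `G_s` or at none, and it can be
tested on the morphism of fibres `u_s : G_s ⟶ H_s`.
-/

set_option autoImplicit false

universe u

open CategoryTheory MonoidalCategory CartesianMonoidalCategory MonObj GrpObj AlgebraicGeometry Limits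

namespace K203.FibHom

open K203.Loc K203.BC K203.Transl Groth.Agent.Sga3C Groth.Agent.Sga3C.HomogIrr
  Groth.Agent.Sga3C.FlatPt Groth.Agent.Sga3C.SchemImage

variable {S : Scheme.{u}} {G H : Over S}

/-- The morphism of fibres. -/
noncomputable abbrev fib (u : G ⟶ H) (s : S) :
    ((Over.pullback (S.fromSpecResidueField s)).obj G).left ⟶
      ((Over.pullback (S.fromSpecResidueField s)).obj H).left :=
  ((Over.pullback (S.fromSpecResidueField s)).map u).left

lemma isPullback_fib (u : G ⟶ H) (s : S) :
    IsPullback (pullback.fst G.hom (S.fromSpecResidueField s)) (fib u s) u.left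
      (pullback.fst H.hom (S.fromSpecResidueField s)) :=
  (ActBase.isPullback_map_left (S.fromSpecResidueField s) u).flip

lemma range_fst (s : S) :
    Set.range (pullback.fst G.hom (S.fromSpecResidueField s)) = G.hom ⁻¹' {s} := by
  rw [Scheme.Pullback.range_fst, Scheme.range_fromSpecResidueField]

lemma exists_fib {s : S} {x : G.left} (h : G.hom x = s) :
    ∃ x' : ((Over.pullback (S.fromSpecResidueField s)).obj G).left,
      pullback.fst G.hom (S.fromSpecResidueField s) x' = x := by
  have h1 : x ∈ Set.range (pullback.fst G.hom (S.fromSpecResidueField s)) := by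
    rw [range_fst]; exact h
  exact h1

lemma hom_fst {s : S} (x' : ((Over.pullback (S.fromSpecResidueField s)).obj G).left) :
    G.hom (pullback.fst G.hom (S.fromSpecResidueField s) x') = s := by
  have h1 : pullback.fst G.hom (S.fromSpecResidueField s) x' ∈
      Set.range (pullback.fst G.hom (S.fromSpecResidueField s)) := ⟨x', rfl⟩
  rw [range_fst] at h1
  exact h1

/-- A property at points which can be tested on the fibres. -/
lemma forall_fib_iff (s : S) (Q : G.left → Prop) :
    (∀ x' : ((Over.pullback (S.fromSpecResidueField s)).obj G).left,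
      Q (pullback.fst G.hom (S.fromSpecResidueField s) x')) ↔ ∀ x : G.left, G.hom x = s → Q x := by
  constructor
  · intro h x hx
    obtain ⟨x', rfl⟩ := exists_fib hx
    exact h x'
  · intro h x'
    exact h _ (hom_fst x')

section Lqf

lemma near_lqf_iff {X Y : Scheme.{u}} (f : X ⟶ Y) [LocallyOfFiniteType f] (x : X) :
    Near @LocallyQuasiFinite f x ↔ f.QuasiFiniteAt x := by
  constructor
  · rintro ⟨U, hx, hU⟩
    have h1 : (U.ι ≫ f).QuasiFiniteAt ⟨x, hx⟩ := Scheme.Hom.quasiFiniteAt _ _
    rw [Scheme.Hom.quasiFiniteAt_comp_iff_of_isOpenImmersion] at h1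
    exact h1
  · intro hx
    exact ⟨f.quasiFiniteLocus, hx, inferInstance⟩

lemma lqf_iff {X Y : Scheme.{u}} (f : X ⟶ Y) [LocallyOfFiniteType f] :
    LocallyQuasiFinite f ↔ ∀ x, f.QuasiFiniteAt x := by
  rw [← Scheme.Hom.quasiFiniteLocus_eq_top_iff]
  constructor
  · intro h x
    rw [← Scheme.Hom.mem_quasiFiniteLocus, h]
    trivial
  · intro h
    ext x
    exact ⟨fun _ ↦ trivial, fun _ ↦ h x⟩

variable (u : G ⟶ H) [LocallyOfFiniteType u.left]

lemma lft_fib (s : S) : LocallyOfFiniteType (fib u s) :=
  MorphismProperty.of_isPullback (isPullback_fib u s) ‹_›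

lemma lqf_fib_iff (s : S) :
    LocallyQuasiFinite (fib u s) ↔ ∀ x : G.left, G.hom x = s → u.left.QuasiFiniteAt x := by
  have := lft_fib u s
  rw [lqf_iff, ← forall_fib_iff]
  exact forall_congr' fun x' ↦ qf_iff (isPullback_fib u s) x'

variable [GrpObj G] [GrpObj H] [IsMonHom u]

theorem qf_iff_of_hom_eq {x y : G.left} (h : G.hom x = G.hom y) :
    u.left.QuasiFiniteAt x ↔ u.left.QuasiFiniteAt y :=
  iff_of_hom_eq qf_isoInv u (fun z ↦ qf_iff (isPullback_whiskerLeft_left u G).flip z) h

/-- The quasi-finite locus of a homomorphism locally of finite type. -/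
theorem lqf_main : IsOpen {s : S | LocallyQuasiFinite (fib u s)} ∧
    {x : G.left | ∃ W : G.left.Opens, x ∈ W ∧ LocallyQuasiFinite (W.ι ≫ u.left)} =
      G.hom.base ⁻¹' {s : S | LocallyQuasiFinite (fib u s)} := by
  have h1 : {x : G.left | ∃ W : G.left.Opens, x ∈ W ∧ LocallyQuasiFinite (W.ι ≫ u.left)} =
      {x : G.left | u.left.QuasiFiniteAt x} := by
    ext x
    exact near_lqf_iff u.left x
  rw [h1]
  exact isOpen_and_eq _ (u.left.quasiFiniteLocus.isOpen) (fun _ _ h ↦ (qf_iff_of_hom_eq u h).mp) _
    (lqf_fib_iff u)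

end Lqf

section Unramified

variable (u : G ⟶ H) [LocallyOfFinitePresentation u.left]

lemma unramified_fib_iff (s : S) : FormallyUnramified (fib u s) ↔
    ∀ x : G.left, G.hom x = s → Near @FormallyUnramified u.left x := by
  rw [property_iff_forall (P := @FormallyUnramified), ← forall_fib_iff]
  exact forall_congr' fun x' ↦ unramified_iff (isPullback_fib u s) x'

variable [GrpObj G] [GrpObj H] [IsMonHom u]

theorem unramified_iff_of_hom_eq {x y : G.left} (h : G.hom x = G.hom y) :
    Near @FormallyUnramified u.left x ↔ Near @FormallyUnramified u.left y :=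
  iff_of_hom_eq near_isoInv u (fun z ↦ unramified_iff (isPullback_whiskerLeft_left u G).flip z) h

/-- The unramified locus of a homomorphism locally of finite presentation. -/
theorem unramified_main : IsOpen {s : S | FormallyUnramified (fib u s)} ∧
    {x : G.left | ∃ W : G.left.Opens, x ∈ W ∧ FormallyUnramified (W.ι ≫ u.left)} =
      G.hom.base ⁻¹' {s : S | FormallyUnramified (fib u s)} :=
  isOpen_and_eq _ (isOpen_setOf (P := @FormallyUnramified) u.left)
    (fun _ _ h ↦ (unramified_iff_of_hom_eq u h).mp) _ (unramified_fib_iff u)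

end Unramified

section Flat

lemma isPullback_fiberMap (u : G ⟶ H) (s : S) :
    IsPullback ((u.left ≫ H.hom).fiberι s) (MoreMor.fiberMap u.left H.hom s) u.left
      (H.hom.fiberι s) := by
  have h1 : IsPullback (H.hom.fiberι s) (H.hom.fiberToSpecResidueField s) H.hom
      (S.fromSpecResidueField s) := IsPullback.of_hasPullback _ _
  have h2 : IsPullback ((u.left ≫ H.hom).fiberι s) ((u.left ≫ H.hom).fiberToSpecResidueField s)
      (u.left ≫ H.hom) (S.fromSpecResidueField s) := IsPullback.of_hasPullback _ _
  have h3 : MoreMor.fiberMap u.left H.hom s ≫ H.hom.fiberToSpecResidueField s =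
      (u.left ≫ H.hom).fiberToSpecResidueField s := pullback.lift_snd _ _ _
  have h4 : MoreMor.fiberMap u.left H.hom s ≫ H.hom.fiberι s =
      (u.left ≫ H.hom).fiberι s ≫ u.left := pullback.lift_fst _ _ _
  exact IsPullback.of_bot (by rw [h3]; exact h2) h4.symm h1

lemma flat_fiberMap (u : G ⟶ H) (s : S) (h : Flat (fib u s)) :
    Flat (MoreMor.fiberMap u.left H.hom s) := by
  let e := (isPullback_fiberMap u s).isoIsPullback _ _ (isPullback_fib u s)
  have he : e.hom ≫ fib u s = MoreMor.fiberMap u.left H.hom s :=
    IsPullback.isoIsPullback_hom_snd _ _ _ _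
  rw [← he]
  exact MorphismProperty.comp_mem @Flat e.hom (fib u s) inferInstance h

variable (u : G ⟶ H) [Flat G.hom] [LocallyOfFinitePresentation G.hom] [LocallyOfFiniteType H.hom]

include u in
omit [Flat G.hom] in
lemma lfp_left : LocallyOfFinitePresentation u.left := by
  have : LocallyOfFinitePresentation (u.left ≫ H.hom) := by rw [Over.w]; infer_instance
  exact Groth.Agent.Flat2E.Thick.locallyOfFinitePresentation_of_comp u.left H.hom

omit [LocallyOfFinitePresentation G.hom] [LocallyOfFiniteType H.hom] in
/-- If `u` is flat at `x` then `H` is flat over the base at `u x`. -/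
lemma flatAt_hom {x : G.left} (h : IsFlatAt u.left x) : IsFlatAt H.hom (u.left x) := by
  refine IsFlatAt.of_comp h ?_
  rw [Over.w]
  exact isFlatAt_of_flat _ _

/-- Fibrewise criterion of flatness. -/
lemma flatAt_of_fib {s : S} (h : Flat (fib u s)) {x : G.left} (hx : G.hom x = s) :
    IsFlatAt u.left x := by
  have h0 : LocallyOfFinitePresentation (u.left ≫ H.hom) := by rw [Over.w]; infer_instance
  have h1 := ((Groth.Agent.S1386.result u.left H.hom).1 x).mp
  rw [isFlatAt_iff_stalkMap]
  refine (h1 ⟨?_, ?_⟩).2
  · rw [← isFlatAt_iff_stalkMap, Over.w]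
    exact isFlatAt_of_flat _ _
  · have hx' : H.hom (u.left x) = s := by rw [← Scheme.Hom.comp_apply, Over.w]; exact hx
    rw [← isFlatAt_iff_stalkMap]
    have h2 : Flat (MoreMor.fiberMap u.left H.hom (H.hom (u.left x))) := by
      rw [hx']
      exact flat_fiberMap u s h
    exact isFlatAt_of_flat _ _

lemma flat_fib_iff (s : S) : Flat (fib u s) ↔ ∀ x : G.left, G.hom x = s → IsFlatAt u.left x := by
  constructor
  · intro h x hx
    exact flatAt_of_fib u h hx
  · intro h
    rw [flat_iff_forall_isFlatAt]
    intro x'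
    exact IsFlatAt.of_isPullback (isPullback_fib u s) x' (h _ (hom_fst x'))

lemma isOpen_flatAt : IsOpen {x : G.left | IsFlatAt u.left x} := by
  have h0 : LocallyOfFinitePresentation (u.left ≫ H.hom) := by rw [Over.w]; infer_instance
  have h1 := (Groth.Agent.S1386.result u.left H.hom).2
  have h2 : {x : G.left | IsFlatAt u.left x} =
      {x : G.left | (H.hom.stalkMap (u.left x)).hom.Flat ∧ (u.left.stalkMap x).hom.Flat} := by
    ext x
    simp only [Set.mem_ofPred_eq]
    rw [← isFlatAt_iff_stalkMap, ← isFlatAt_iff_stalkMap]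
    exact ⟨fun h ↦ ⟨flatAt_hom u h, h⟩, fun h ↦ h.2⟩
  rw [h2]
  exact h1

lemma near_flat_iff (x : G.left) : Near @Flat u.left x ↔ IsFlatAt u.left x := by
  constructor
  · exact flatAt_of_near_flat
  · intro h
    refine ⟨⟨_, isOpen_flatAt u⟩, h, ?_⟩
    rw [flat_iff_forall_isFlatAt]
    intro y
    have h1 : IsFlatAt u.left (Scheme.Opens.ι ⟨_, isOpen_flatAt u⟩ y) := y.2
    exact (isFlatAt_of_flat _ _).comp h1

omit [LocallyOfFiniteType H.hom] in
lemma flat_snd (T : Over S) [Flat T.hom] (X : Over S) (z : (T ⊗ X : Over S).left) :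
    IsFlatAt (snd T X).left z := by
  have : Flat (snd T X).left := by
    rw [Over.snd_left]; infer_instance
  exact isFlatAt_of_flat _ _

section Grp

variable [GrpObj G] [GrpObj H] [IsMonHom u]

omit [LocallyOfFinitePresentation G.hom] [LocallyOfFiniteType H.hom] in
theorem flatAt_iff_of_hom_eq {x y : G.left} (h : G.hom x = G.hom y) :
    IsFlatAt u.left x ↔ IsFlatAt u.left y := by
  refine iff_of_hom_eq flatAt_isoInv u (fun z ↦ ?_) h
  refine flatAt_iff (isPullback_whiskerLeft_left u G).flip z ?_
  have : Flat (snd G H).left := by rw [Over.snd_left]; infer_instance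
  exact isFlatAt_of_flat _ _

/-- The flat locus of a homomorphism. -/
theorem flat_main : IsOpen {s : S | Flat (fib u s)} ∧
    {x : G.left | (u.left.stalkMap x).hom.Flat} = G.hom.base ⁻¹' {s : S | Flat (fib u s)} := by
  have h1 : {x : G.left | (u.left.stalkMap x).hom.Flat} = {x : G.left | IsFlatAt u.left x} := by
    ext x
    exact (isFlatAt_iff_stalkMap u.left x).symm
  rw [h1]
  exact isOpen_and_eq _ (isOpen_flatAt u) (fun _ _ h ↦ (flatAt_iff_of_hom_eq u h).mp) _
    (flat_fib_iff u)

end Grp

lemma smooth_fib_iff (s : S) :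
    Smooth (fib u s) ↔ ∀ x : G.left, G.hom x = s → Near @Smooth u.left x := by
  have h0 : LocallyOfFinitePresentation u.left := lfp_left u
  have h0' : LocallyOfFinitePresentation (fib u s) :=
    MorphismProperty.of_isPullback (isPullback_fib u s) h0
  constructor
  · intro h x hx
    have h1 : IsFlatAt u.left x := flatAt_of_fib u inferInstance hx
    obtain ⟨x', rfl⟩ := exists_fib hx
    rw [near_smooth_iff, ← Groth.Agent.Smoothlim.SmoothLocusBC.mem_smoothLocus_iff_of_isPullback
      (isPullback_fib u s) x' (Or.inl ((isFlatAt_iff_stalkMap _ _).mp h1))]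
    rw [Scheme.Hom.smoothLocus_eq_top]
    trivial
  · intro h
    rw [property_iff_forall (P := @Smooth)]
    intro x'
    exact near_of_isPullback (isPullback_fib u s) x' (h _ (hom_fst x'))

lemma etale_fib_iff (s : S) :
    Etale (fib u s) ↔ ∀ x : G.left, G.hom x = s → Near @Etale u.left x := by
  have h0 : LocallyOfFinitePresentation u.left := lfp_left u
  constructor
  · intro h x hx
    rw [near_etale_iff]
    exact ⟨(smooth_fib_iff u s).mp inferInstance x hx, (unramified_fib_iff u s).mp inferInstance x hx⟩
  · intro h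
    rw [property_iff_forall (P := @Etale)]
    intro x'
    exact near_of_isPullback (isPullback_fib u s) x' (h _ (hom_fst x'))

section Grp2

variable [GrpObj G] [GrpObj H] [IsMonHom u]

theorem smooth_iff_of_hom_eq {x y : G.left} (h : G.hom x = G.hom y) :
    Near @Smooth u.left x ↔ Near @Smooth u.left y := by
  have h0 : LocallyOfFinitePresentation u.left := lfp_left u
  refine iff_of_hom_eq near_isoInv u (fun z ↦ ?_) h
  refine smooth_iff (isPullback_whiskerLeft_left u G).flip z ?_
  have : Flat (snd G H).left := by rw [Over.snd_left]; infer_instance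
  exact isFlatAt_of_flat _ _

theorem etale_iff_of_hom_eq {x y : G.left} (h : G.hom x = G.hom y) :
    Near @Etale u.left x ↔ Near @Etale u.left y := by
  have h0 : LocallyOfFinitePresentation u.left := lfp_left u
  refine iff_of_hom_eq near_isoInv u (fun z ↦ ?_) h
  refine etale_iff (isPullback_whiskerLeft_left u G).flip z ?_
  have : Flat (snd G H).left := by rw [Over.snd_left]; infer_instance
  exact isFlatAt_of_flat _ _

/-- The smooth locus of a homomorphism. -/
theorem smooth_main : IsOpen {s : S | Smooth (fib u s)} ∧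
    {x : G.left | ∃ W : G.left.Opens, x ∈ W ∧ Smooth (W.ι ≫ u.left)} =
      G.hom.base ⁻¹' {s : S | Smooth (fib u s)} :=
  isOpen_and_eq _ (isOpen_setOf (P := @Smooth) u.left)
    (fun _ _ h ↦ (smooth_iff_of_hom_eq u h).mp) _ (smooth_fib_iff u)

/-- The étale locus of a homomorphism. -/
theorem etale_main : IsOpen {s : S | Etale (fib u s)} ∧
    {x : G.left | ∃ W : G.left.Opens, x ∈ W ∧ Etale (W.ι ≫ u.left)} =
      G.hom.base ⁻¹' {s : S | Etale (fib u s)} :=
  isOpen_and_eq _ (isOpen_setOf (P := @Etale) u.left)
    (fun _ _ h ↦ (etale_iff_of_hom_eq u h).mp) _ (etale_fib_iff u)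

end Grp2

end Flat

end K203.FibHom
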