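import Groth.Agent.Sga3.H778.NeutralPts
import Groth.Agent.Sga3.H820.NeutralOpen

/-!
# Neutral components and open subgroups

* `neutralSet_subset_range`: the union of the neutral components of the fibres is contained in every open
  subgroup scheme;
* `image_neutralSet`: it is the union of the neutral components of the fibres of the open subgroup.
-/

set_option autoImplicit false

universe u

open CategoryTheory MonoidalCategory CartesianMonoidalCategory MonObj GrpObj AlgebraicGeometry Limits

namespace K203.OpenSub

open Groth.Agent.Sga3C.HomogIrr Groth.Agent.Sga3.H778.NeutralPts Groth.Agent.Sga3.H820.NeutralOpen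

variable {S : Scheme.{u}} {G H : Over S}

/-- A point of `G ⊗ G` whose projections lie in the image of a monomorphism lifts. -/
lemma exists_tensor_lift (i : H ⟶ G) (w : (G ⊗ G : Over S).left)
    (h1 : (fst G G).left w ∈ Set.range i.left) (h2 : (snd G G).left w ∈ Set.range i.left) :
    ∃ v : (H ⊗ H : Over S).left, (i ⊗ₘ i).left v = w := by
  have hr : w ∈ Set.range (i ⊗ₘ i).left := by
    rw [Over.tensorHom_left, Scheme.Pullback.range_map]
    exact ⟨h1, h2⟩
  exact hr

variable [GrpObj G] [GrpObj H]

/-- The image of a homomorphism is stable under products. -/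
lemma mul_mem_range (i : H ⟶ G) [IsMonHom i] (w : (G ⊗ G : Over S).left)
    (h1 : (fst G G).left w ∈ Set.range i.left) (h2 : (snd G G).left w ∈ Set.range i.left) :
    (μ[G] : G ⊗ G ⟶ G).left w ∈ Set.range i.left := by
  obtain ⟨v, rfl⟩ := exists_tensor_lift i w h1 h2
  refine ⟨(μ[H] : H ⊗ H ⟶ H).left v, ?_⟩
  rw [← comp_left_apply, ← comp_left_apply, IsMonHom.mul_hom]

lemma unitSec_comp (i : H ⟶ G) [IsMonHom i] (s : S) : i.left (unitSec H s) = unitSec G s := by
  change i.left ((η[H] : 𝟙_ (Over S) ⟶ H).left s) = (η[G] : 𝟙_ (Over S) ⟶ G).left s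
  rw [← IsMonHom.one_hom i]
  exact (comp_left_apply (η[H] : 𝟙_ (Over S) ⟶ H) i s).symm

theorem neutralSet_subset_range (i : H ⟶ G) [IsMonHom i] (hi : IsOpen (Set.range i.left)) :
    SGA3x.neutralSet G ⊆ Set.range i.left := by
  intro x hx
  obtain ⟨w, h1, h2, h3⟩ := exists_mul_eq x hx (Set.range i.left) hi
    ⟨_, unitSec_comp i (G.hom x)⟩
  rw [← h3]
  have h4 : (fst G G * snd G G : G ⊗ G ⟶ G) = μ[G] := (MonObj.mul_eq_mul G).symm
  rw [h4]
  exact mul_mem_range i w h1 h2

theorem image_neutralSet (i : H ⟶ G) [IsMonHom i] [IsOpenImmersion i.left] :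
    i.left '' SGA3x.neutralSet H = SGA3x.neutralSet G := by
  have hsub := neutralSet_subset_range i i.left.isOpenEmbedding.isOpen_range
  have hmap (s : S) : i.left (e H s) = e G s := unitSec_comp i s
  have hw : ∀ x, G.hom (i.left x) = H.hom x := by
    intro x
    rw [← Scheme.Hom.comp_apply, Over.w i]
  apply subset_antisymm
  · rintro _ ⟨y, hy, rfl⟩
    rw [mem_neutralSet_iff] at hy ⊢
    rw [hw]
    exact map_mem_neutral H i (hmap _) hy
  · intro x hx
    obtain ⟨y, rfl⟩ := hsub hx
    refine ⟨y, ?_, rfl⟩
    rw [mem_neutralSet_iff, hw] at hx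
    rw [mem_neutralSet_iff]
    let s := H.hom y
    have hN : neutral G s ⊆ Set.range i.left := by
      refine subset_trans ?_ hsub
      intro z hz
      rw [mem_neutralSet_iff, hom_of_mem G hz]
      exact hz
    have h1 : _root_.IsPreconnected (i.left ⁻¹' neutral G s) := by
      have h2 : _root_.IsPreconnected (i.left '' (i.left ⁻¹' neutral G s)) := by
        rw [Set.image_preimage_eq_of_subset hN]
        exact isPreconnected_connectedComponentIn
      exact i.left.isOpenEmbedding.isInducing.isPreconnected_image.mp h2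
    have h3 : i.left ⁻¹' neutral G s ⊆ H.hom ⁻¹' {s} := by
      intro z hz
      have := hom_of_mem G hz
      rw [hw] at this
      exact this
    exact h1.subset_connectedComponentIn (x := e H s) (by
      change i.left (e H s) ∈ neutral G s
      rw [hmap]
      exact e_mem G s) h3 hx

end K203.OpenSub
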