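import Groth.Agent.SGA3.K203.Basic
import Groth.Agent.SGA3.K203.OpenSub
import Groth.Agent.SGA3.K203.FibHom
import Groth.Agent.Sga3C.QuotTranslPt

/-!
# Images of neutral components under flat homomorphisms

* `neutralSet_subset_image`: over a field, an open homomorphism maps the neutral component onto the neutral
  component;
* `image_neutralSet_of_flat`;
* `flat_of_image_neutralSet`.
-/

set_option autoImplicit false

universe u

open CategoryTheory MonoidalCategory CartesianMonoidalCategory MonObj GrpObj AlgebraicGeometry Limits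

namespace K203.FlatImg

open K203.Transl K203.FibHom Groth.Agent.Sga3C Groth.Agent.Sga3C.HomogIrr Groth.Agent.Sga3C.FlatPt
  Groth.Agent.Sga3.H778.NeutralPts Groth.Agent.Sga3.H820.NeutralOpen

variable {S : Scheme.{u}} {G H : Over S} [GrpObj G] [GrpObj H]

lemma neutralSet_of_subsingleton [Subsingleton S] (s : S) :
    SGA3x.neutralSet G = connectedComponent (unitSec G s) := by
  ext x
  rw [mem_neutralSet_iff]
  have h1 : G.hom ⁻¹' {G.hom x} = Set.univ :=
    Set.eq_univ_of_forall fun y ↦ Subsingleton.elim (α := S) _ _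
  have h2 : G.hom x = s := Subsingleton.elim (α := S) _ _
  change x ∈ connectedComponentIn _ _ ↔ _
  rw [h1, connectedComponentIn_univ, h2]
  rfl

lemma isOpen_neutralSet [Subsingleton S] [IsLocallyNoetherian G.left] :
    IsOpen (SGA3x.neutralSet G) := by
  have h2 : LocallyConnectedSpace G.left :=
    LocConn.locallyConnectedSpace_of_isLocallyNoetherian G.left
  rcases isEmpty_or_nonempty S with h | ⟨⟨s⟩⟩
  · have : IsEmpty G.left := ⟨fun x ↦ h.false (G.hom x)⟩
    rw [Set.eq_empty_of_isEmpty (SGA3x.neutralSet G)]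
    exact isOpen_empty
  · rw [neutralSet_of_subsingleton s]
    exact isOpen_connectedComponent

/-- An open homomorphism of group schemes over a field maps the neutral component onto the neutral
component. -/
theorem neutralSet_subset_image [Subsingleton S] [IsLocallyNoetherian G.left] (u : G ⟶ H)
    [IsMonHom u] (hu : IsOpenMap u.left) :
    SGA3x.neutralSet H ⊆ u.left '' SGA3x.neutralSet G := by
  let U : G.left.Opens := ⟨SGA3x.neutralSet G, isOpen_neutralSet⟩
  let i : opn G U ⟶ H := opnι G U ≫ u
  have hr : Set.range i.left = u.left '' SGA3x.neutralSet G := by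
    have h1 : Set.range i.left = u.left '' Set.range U.ι := by
      ext y
      constructor
      · rintro ⟨z, rfl⟩
        exact ⟨U.ι z, ⟨z, rfl⟩, (comp_left_apply (opnι G U) u z).symm⟩
      · rintro ⟨_, ⟨z, rfl⟩, rfl⟩
        exact ⟨z, comp_left_apply (opnι G U) u z⟩
    rw [h1, Scheme.Opens.range_ι]
    rfl
  intro x hx
  have hV : IsOpen (Set.range i.left) := by
    rw [hr]; exact hu _ isOpen_neutralSet
  obtain ⟨w, hw1, hw2, hw3⟩ := exists_mul_eq x hx (Set.range i.left) hV (by
    rw [hr]
    refine ⟨unitSec G (H.hom x), unitSec_mem _, ?_⟩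
    exact K203.OpenSub.unitSec_comp u _)
  obtain ⟨v, rfl⟩ := K203.OpenSub.exists_tensor_lift i w hw1 hw2
  have h2 : (i ⊗ₘ i) ≫ (fst H H * snd H H) =
      ((fst _ _ ≫ opnι G U) * (snd _ _ ≫ opnι G U)) ≫ u := by
    rw [MonObj.comp_mul, tensorHom_fst, tensorHom_snd, MonObj.mul_comp, Category.assoc, Category.assoc]
  rw [← comp_left_apply, h2, comp_left_apply] at hw3
  rw [← hw3]
  refine ⟨_, mul_mem _ _ v ?_ ?_, rfl⟩
  · rw [comp_left_apply]
    exact ((fst (opn G U) (opn G U)).left v).2
  · rw [comp_left_apply]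
    exact ((snd (opn G U) (opn G U)).left v).2

theorem image_neutralSet_subset (u : G ⟶ H) [IsMonHom u] :
    u.left '' SGA3x.neutralSet G ⊆ SGA3x.neutralSet H := by
  rintro _ ⟨x, hx, rfl⟩
  rw [mem_neutralSet_iff] at hx ⊢
  rw [← Scheme.Hom.comp_apply, Over.w]
  exact map_mem_neutral G u (K203.OpenSub.unitSec_comp u _) hx

lemma exists_neutral_fib {s : S} {x : G.left} (h : G.hom x = s) (hx : x ∈ SGA3x.neutralSet G) :
    ∃ x' ∈ SGA3x.neutralSet (Red.bc (S.fromSpecResidueField s) G),
      pullback.fst G.hom (S.fromSpecResidueField s) x' = x := by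
  obtain ⟨x', rfl⟩ := exists_fib h
  refine ⟨x', ?_, rfl⟩
  rw [K203.Basic.neutralSet_bc]
  exact hx

theorem image_neutralSet_of_flat (u : G ⟶ H) [IsMonHom u] [LocallyOfFinitePresentation G.hom]
    [LocallyOfFiniteType H.hom] [Flat u.left] :
    u.left '' SGA3x.neutralSet G = SGA3x.neutralSet H := by
  apply (image_neutralSet_subset u).antisymm
  intro x hx
  obtain ⟨s, hs⟩ : ∃ s, H.hom x = s := ⟨_, rfl⟩
  obtain ⟨x', hx', rfl⟩ := exists_neutral_fib hs hx
  have h1 : LocallyOfFinitePresentation u.left := lfp_left u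
  have h2 : Flat (fib u s) := MorphismProperty.of_isPullback (isPullback_fib u s) inferInstance
  have h3 : LocallyOfFinitePresentation (fib u s) :=
    MorphismProperty.of_isPullback (isPullback_fib u s) inferInstance
  have h4 : IsOpenMap (fib u s) := (fib u s).isOpenMap
  let G' := Red.bc (S.fromSpecResidueField s) G
  have h5 : LocallyOfFiniteType G'.hom :=
    inferInstanceAs (LocallyOfFiniteType (pullback.snd G.hom (S.fromSpecResidueField s)))
  have h6 : IsLocallyNoetherian G'.left := LocallyOfFiniteType.isLocallyNoetherian G'.hom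
  obtain ⟨g', hg', hg⟩ := neutralSet_subset_image
    ((Over.pullback (S.fromSpecResidueField s)).map u : G' ⟶ _) h4 hx'
  refine ⟨pullback.fst G.hom (S.fromSpecResidueField s) g', ?_, ?_⟩
  · rw [K203.Basic.neutralSet_bc] at hg'
    exact hg'
  · rw [← hg, ← Scheme.Hom.comp_apply, (isPullback_fib u s).w, Scheme.Hom.comp_apply]

/-- The local ring at a maximal point of a reduced scheme is a field. -/
theorem isField_stalk {T : Scheme.{u}} [IsReduced T] (ζ : T) (hz : ∀ t : T, t ⤳ ζ → t = ζ) :
    IsField (T.presheaf.stalk ζ) := by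
  have hu : ∀ p : PrimeSpectrum (T.presheaf.stalk ζ), p = IsLocalRing.closedPoint _ := by
    intro p
    have h1 : (T.fromSpecStalk ζ) p ∈ Set.range (T.fromSpecStalk ζ) := ⟨p, rfl⟩
    rw [Scheme.range_fromSpecStalk] at h1
    have h2 := hz _ h1
    apply (T.fromSpecStalk ζ).isEmbedding.injective
    rw [h2, Scheme.fromSpecStalk_closedPoint]
  have hred : _root_.IsReduced (T.presheaf.stalk ζ) := inferInstance
  have h3 : IsLocalRing.maximalIdeal (T.presheaf.stalk ζ) = ⊥ := by
    rw [eq_bot_iff]
    intro a ha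
    have h4 : a ∈ nilradical (T.presheaf.stalk ζ) := by
      rw [nilradical_eq_sInf, Submodule.mem_sInf]
      intro p hp
      have := hu ⟨p, hp⟩
      have h5 : p = IsLocalRing.maximalIdeal (T.presheaf.stalk ζ) :=
        congrArg PrimeSpectrum.asIdeal this
      rw [h5]; exact ha
    rw [nilradical_eq_zero] at h4
    exact h4
  exact (IsLocalRing.isField_iff_maximalIdeal_eq).2 h3

/-- A homomorphism onto the neutral component of a reduced group scheme over a field is flat. -/
theorem flat_of_subset_image [Subsingleton S] [Flat G.hom] (u : G ⟶ H) [IsMonHom u]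
    [IsReduced H.left] (hu : SGA3x.neutralSet H ⊆ u.left '' SGA3x.neutralSet G) : Flat u.left := by
  rw [flat_iff_forall_isFlatAt]
  intro y
  obtain ⟨ζ, hz1, hz2⟩ := exists_generic H (G.hom y)
  have hz3 : ζ ∈ SGA3x.neutralSet H := by
    rw [mem_neutralSet_iff, hom_of_mem H hz1]
    exact hz1
  obtain ⟨x, -, hx⟩ := hu hz3
  have h1 : IsField (H.left.presheaf.stalk (u.left x)) := by
    rw [hx]
    apply isField_stalk
    intro t ht
    exact (ht.antisymm (hz2 t (mem_neutral_of_specializes H hz1
      (Subsingleton.elim (α := S) _ _) ht))).eq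
  have h2 : IsFlatAt u.left x := by
    rw [isFlatAt_iff_stalkMap]
    let := h1.toField
    let := (u.left.stalkMap x).hom.toAlgebra
    have : @Module.Flat (H.left.presheaf.stalk (u.left x)) (G.left.presheaf.stalk x) _ _ _ :=
      inferInstance
    exact this
  exact (flatAt_iff_of_hom_eq u (Subsingleton.elim (α := S) _ _)).mp h2


theorem flat_of_image_neutralSet (u : G ⟶ H) [IsMonHom u] [LocallyOfFinitePresentation G.hom]
    [LocallyOfFiniteType H.hom] [Flat G.hom] (hr : ∀ s : S, IsReduced (H.hom.fiber s))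
    (hu : SGA3x.neutralSet H ⊆ u.left '' SGA3x.neutralSet G) : Flat u.left := by
  rw [flat_iff_forall_isFlatAt]
  intro x
  obtain ⟨s, hs⟩ : ∃ s, G.hom x = s := ⟨_, rfl⟩
  refine (flat_fib_iff u s).mp ?_ x hs
  let G' := Red.bc (S.fromSpecResidueField s) G
  let H' := Red.bc (S.fromSpecResidueField s) H
  let u' : G' ⟶ H' := (Over.pullback (S.fromSpecResidueField s)).map u
  have h1 : IsReduced H'.left := hr s
  have h2 : Flat G'.hom :=
    inferInstanceAs (Flat (pullback.snd G.hom (S.fromSpecResidueField s)))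
  refine flat_of_subset_image u' ?_
  intro y hy
  rw [K203.Basic.neutralSet_bc] at hy
  obtain ⟨g, hg, hgy⟩ := hu hy
  obtain ⟨g', hg'1, hg'2⟩ := isPullback_surj (isPullback_fib u s).flip y g hgy.symm
  refine ⟨g', ?_, hg'1⟩
  rw [K203.Basic.neutralSet_bc, Set.mem_preimage]
  rw [← hg'2] at hg
  exact hg

end K203.FlatImg
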