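import Groth.Agent.SGA3.K203.Loc
import Groth.Agent.Sga3C.GrpBasic
import Groth.Agent.Sga3C.HomogIrr

/-!
# Translations and properties of homomorphisms of group schemes at points

`u : G ⟶ H` a homomorphism of group schemes over `S`, `Q` a property of morphisms at points of the source.

* `transl_iff`: if `Q` for `T ◁ u` can be tested by `Q` for `u`, then `Q` for `u` is
  invariant under left translation by `T`-points;
* `iff_of_hom_eq`: case `T = G`: the property holds at all points of a fibre or at none;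
* `iff_mul`: case of an open `V` of `G`: the property is stable under left translation by points of `V`;
* `subgroup_of`: an open of `G` stable under left translations by its own points is an open subgroup.
-/

set_option autoImplicit false

universe u

open CategoryTheory MonoidalCategory CartesianMonoidalCategory MonObj GrpObj AlgebraicGeometry Limits

namespace K203.Transl

open K203.Loc Groth.Agent.Sga3C Groth.Agent.Sga3C.HomogIrr

variable {S : Scheme.{u}} {G H : Over S} [GrpObj G] [GrpObj H]

/-- The isomorphism `(t, x) ↦ (t, g(t) x)` is compatible with homomorphisms. -/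
lemma shear_comp (u : G ⟶ H) [IsMonHom u] {T : Over S} (g : T ⟶ G) :
    (GrpBasic.mulLeftShear g).hom ≫ (T ◁ u) = (T ◁ u) ≫ (GrpBasic.mulLeftShear (g ≫ u)).hom := by
  ext1
  · simp
  · rw [Category.assoc, whiskerLeft_snd, ← Category.assoc, GrpBasic.mulLeftShear_hom_snd,
      MonObj.mul_comp, Category.assoc, Category.assoc, GrpBasic.mulLeftShear_hom_snd,
      MonObj.comp_mul, whiskerLeft_fst_assoc, whiskerLeft_snd]


/-- Invariance of a property at points under left translation by a `T`-point. -/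
theorem transl_iff {Q : ∀ ⦃X Y : Scheme.{u}⦄ (_ : X ⟶ Y), X → Prop} (hQ : IsoInv Q) (u : G ⟶ H)
    [IsMonHom u] {T : Over S} (g : T ⟶ G)
    (hbc : ∀ z : (T ⊗ G : Over S).left, Q (T ◁ u).left z ↔ Q u.left ((snd T G).left z))
    (z : (T ⊗ G : Over S).left) :
    Q u.left ((snd T G).left z) ↔ Q u.left (((fst T G ≫ g) * snd T G).left z) := by
  let e := (GrpBasic.mulLeftShear g).hom.left
  let e' := (GrpBasic.mulLeftShear (g ≫ u)).hom.left
  have he : IsIso e := inferInstanceAs (IsIso ((Over.forget _).map (GrpBasic.mulLeftShear g).hom))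
  have he' : IsIso e' :=
    inferInstanceAs (IsIso ((Over.forget _).map (GrpBasic.mulLeftShear (g ≫ u)).hom))
  have hc : e ≫ (T ◁ u).left = (T ◁ u).left ≫ e' := by
    rw [← Over.comp_left, ← Over.comp_left, shear_comp]
  have h1 := hQ (T ◁ u).left (T ◁ u).left e e' hc z
  rw [hbc, hbc] at h1
  rw [h1, ← comp_left_apply, GrpBasic.mulLeftShear_hom_snd]

/-- Points of `G ⊗ G` with given projections. -/
lemma exists_pt {X Y : Over S} (x : X.left) (y : Y.left) (h : X.hom x = Y.hom y) :
    ∃ w : (X ⊗ Y : Over S).left, (fst X Y).left w = x ∧ (snd X Y).left w = y := by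
  obtain ⟨w, h1, h2⟩ := Scheme.Pullback.exists_preimage_pullback (f := X.hom) (g := Y.hom) x y h
  exact ⟨w, h1, h2⟩

/-- Points of `G ⊗ G` with given product and second projection. -/
lemma exists_pt_mul (x y : G.left) (h : G.hom x = G.hom y) :
    ∃ w : (G ⊗ G : Over S).left, (μ[G] : G ⊗ G ⟶ G).left w = y ∧ (snd G G).left w = x := by
  obtain ⟨w, h1, h2⟩ := exists_pt (X := G) (Y := G) y x h.symm
  refine ⟨(lift (fst G G * (snd G G)⁻¹) (snd G G)).left w, ?_, ?_⟩
  · rw [← comp_left_apply, MonObj.mul_eq_mul]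
    simp only [MonObj.comp_mul, lift_fst, lift_snd, inv_mul_cancel_right]
    exact h1
  · rw [← comp_left_apply, lift_snd]
    exact h2

/-- A property at points which is compatible with base change along `G ⟶ S` holds at all points of
a fibre or at none. -/
theorem iff_of_hom_eq {Q : ∀ ⦃X Y : Scheme.{u}⦄ (_ : X ⟶ Y), X → Prop} (hQ : IsoInv Q) (u : G ⟶ H)
    [IsMonHom u]
    (hbc : ∀ z : (G ⊗ G : Over S).left, Q (G ◁ u).left z ↔ Q u.left ((snd G G).left z))
    {x y : G.left} (h : G.hom x = G.hom y) : Q u.left x ↔ Q u.left y := by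
  obtain ⟨w, h1, h2⟩ := exists_pt_mul x y h
  have h3 := transl_iff hQ u (𝟙 G) hbc w
  rw [Category.comp_id, ← MonObj.mul_eq_mul, h1, h2] at h3
  exact h3

section Opens

/-- An open subscheme as an object over `S`. -/
noncomputable def opn (G : Over S) (V : G.left.Opens) : Over S := Over.mk (V.ι ≫ G.hom)

/-- The inclusion of an open subscheme. -/
noncomputable def opnι (G : Over S) (V : G.left.Opens) : opn G V ⟶ G := Over.homMk V.ι rfl

@[simp] lemma opnι_left (G : Over S) (V : G.left.Opens) : (opnι G V).left = V.ι := rfl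

lemma opn_hom (G : Over S) (V : G.left.Opens) : (opn G V).hom = V.ι ≫ G.hom := rfl

/-- Stability under left translation by the points of an open. -/
theorem iff_mul {Q : ∀ ⦃X Y : Scheme.{u}⦄ (_ : X ⟶ Y), X → Prop} (hQ : IsoInv Q) (u : G ⟶ H)
    [IsMonHom u] (V : G.left.Opens)
    (hbc : ∀ z : (opn G V ⊗ G : Over S).left,
      Q (opn G V ◁ u).left z ↔ Q u.left ((snd (opn G V) G).left z))
    (z : (G ⊗ G : Over S).left) (hz : (fst G G).left z ∈ V) :
    Q u.left ((snd G G).left z) ↔ Q u.left ((μ[G] : G ⊗ G ⟶ G).left z) := by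
  obtain ⟨w, rfl⟩ : z ∈ Set.range (opnι G V ▷ G).left := by
    rw [range_whiskerRight]
    change (fst G G).left z ∈ Set.range V.ι
    rw [Scheme.Opens.range_ι]
    exact hz
  have h3 := transl_iff hQ u (opnι G V) hbc w
  have h4 : (fst (opn G V) G ≫ opnι G V) * snd (opn G V) G = (opnι G V ▷ G) ≫ μ[G] := by
    rw [MonObj.mul_eq_mul, MonObj.comp_mul, whiskerRight_fst, whiskerRight_snd]
  have h5 : snd (opn G V) G = (opnι G V ▷ G) ≫ snd G G := by simp
  rw [h4] at h3
  nth_rewrite 1 [h5] at h3
  rw [comp_left_apply, comp_left_apply] at h3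
  exact h3

/-- An open subset stable under left translations by its own points contains the units of the fibres it
meets and is stable under inverses and products. -/
theorem subgroup_of (V : G.left.Opens)
    (h : ∀ z : (G ⊗ G : Over S).left, (fst G G).left z ∈ V →
      ((snd G G).left z ∈ V ↔ (μ[G] : G ⊗ G ⟶ G).left z ∈ V)) :
    (∀ g ∈ V, ∀ p : ↥(𝟙_ (Over S)).left, (𝟙_ (Over S)).hom.base p = G.hom.base g →
      (η[G] : 𝟙_ (Over S) ⟶ G).left.base p ∈ V) ∧
    (∀ g ∈ V, (ι[G] : G ⟶ G).left.base g ∈ V) ∧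
    (∀ z : ↥(G ⊗ G).left, (fst G G).left.base z ∈ V → (snd G G).left.base z ∈ V →
      (μ[G] : G ⊗ G ⟶ G).left.base z ∈ V) := by
  have h1 : ∀ g ∈ V, (η[G] : 𝟙_ (Over S) ⟶ G).left (G.hom g) ∈ V := by
    intro g hg
    have e1 : lift (𝟙 G) (1 : G ⟶ G) ≫ fst G G = 𝟙 G := lift_fst _ _
    have e2 : lift (𝟙 G) (1 : G ⟶ G) ≫ snd G G = toUnit G ≫ η[G] := by
      rw [lift_snd, Hom.one_def]
    have e3 : lift (𝟙 G) (1 : G ⟶ G) ≫ μ[G] = 𝟙 G := by
      rw [MonObj.mul_eq_mul, MonObj.comp_mul, lift_fst, lift_snd, _root_.mul_one]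
    have h2 := h ((lift (𝟙 G) (1 : G ⟶ G)).left g) (by
      rw [← comp_left_apply, e1]; exact hg)
    rw [← comp_left_apply, ← comp_left_apply, e2, e3] at h2
    have h3 := h2.mpr hg
    rw [comp_left_apply] at h3
    have h4 : (toUnit G).left g = G.hom g := by simp
    rw [h4] at h3
    exact h3
  refine ⟨?_, ?_, ?_⟩
  · intro g hg p hp
    have hp' : p = G.hom g := hp
    rw [hp']
    exact h1 g hg
  · intro g hg
    have e1 : lift (𝟙 G) (𝟙 G)⁻¹ ≫ fst G G = 𝟙 G := lift_fst _ _
    have e2 : lift (𝟙 G) (𝟙 G)⁻¹ ≫ snd G G = (𝟙 G)⁻¹ := lift_snd _ _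
    have e3 : lift (𝟙 G) (𝟙 G)⁻¹ ≫ μ[G] = toUnit G ≫ η[G] := by
      rw [MonObj.mul_eq_mul, MonObj.comp_mul, lift_fst, lift_snd, mul_inv_cancel, Hom.one_def]
    have h2 := h ((lift (𝟙 G) (𝟙 G)⁻¹).left g) (by
      rw [← comp_left_apply, e1]; exact hg)
    rw [← comp_left_apply, ← comp_left_apply, e2, e3, comp_left_apply] at h2
    have h4 : (toUnit G).left g = G.hom g := by simp
    rw [h4] at h2
    have h5 := h2.mpr (h1 g hg)
    have h6 : (𝟙 G)⁻¹ = (ι[G] : G ⟶ G) := by rw [Hom.inv_def, Category.id_comp]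
    rw [h6] at h5
    exact h5
  · intro z hz1 hz2
    exact (h z hz1).mp hz2

end Opens

/-- The formal part of the statements on the locus of the base where a homomorphism has a property:
`V` is the (open) set of points of `G` where it holds, it is a union of fibres, `A` the set of points
of the base over which it holds. -/
theorem isOpen_and_eq (V : Set G.left) (hV : IsOpen V)
    (hhom : ∀ x y : G.left, G.hom x = G.hom y → x ∈ V → y ∈ V) (A : Set S)
    (hA : ∀ s, s ∈ A ↔ ∀ x : G.left, G.hom x = s → x ∈ V) :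
    IsOpen A ∧ V = G.hom.base ⁻¹' A := by
  let e : S ⟶ G.left := (η[G] : 𝟙_ (Over S) ⟶ G).left
  have he : e ≫ G.hom = 𝟙 S := Over.w η[G]
  have he' (s : S) : G.hom (e s) = s := by
    rw [← Scheme.Hom.comp_apply, he]; rfl
  have h1 : A = e ⁻¹' V := by
    ext s
    rw [hA, Set.mem_preimage]
    constructor
    · intro h
      exact h _ (he' s)
    · intro h x hx
      exact hhom (e s) x (by rw [he', hx]) h
  refine ⟨?_, ?_⟩
  · rw [h1]
    exact hV.preimage e.continuous
  · ext x
    constructor
    · intro hx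
      change G.hom x ∈ A
      rw [hA]
      intro y hy
      exact hhom x y hy.symm hx
    · intro hx
      exact (hA _).mp hx x rfl

end K203.Transl
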