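import Groth.Agent.SGA3.K203.Basic
import Groth.Agent.SGA3.K203.OpenSub
import Groth.Agent.SGA3.K203.Transl

/-!
# Quasi-compactness of neutral components

* `exists_isCompact_supset`: over a quasi-compact quasi-separated base, the union of the neutral components
  is contained in a quasi-compact open;
* `quasiCompact_of_connected_fibres`.
-/

set_option autoImplicit false

universe u

open CategoryTheory MonoidalCategory CartesianMonoidalCategory MonObj GrpObj AlgebraicGeometry Limits

namespace K203.QC

open K203.Transl Groth.Agent.Sga3C.HomogIrr Groth.Agent.Sga3.H778.NeutralPts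

lemma exists_between {X : Scheme.{u}} {K : Set X} (hK : IsCompact K) (O : X.Opens)
    (hKO : K ⊆ O) : ∃ U : X.Opens, IsCompact (U : Set X) ∧ K ⊆ U ∧ U ≤ O := by
  obtain ⟨W, h1, h2, h3, h4⟩ := PrespectralSpace.exists_isCompact_and_isOpen_between hK O.isOpen hKO
  exact ⟨⟨W, h2⟩, h1, h3, h4⟩

variable {S : Scheme.{u}} (G : Over S) [GrpObj G]

/-- The union of the neutral components is contained in a quasi-compact open. -/
theorem exists_isCompact_supset [CompactSpace S] [QuasiSeparatedSpace S] :
    ∃ U : G.left.Opens, IsCompact (U : Set G.left) ∧ SGA3x.neutralSet G ⊆ U := by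
  obtain ⟨V, hV, heV, -⟩ := exists_between (isCompact_range (unitSec G).continuous) ⊤
    (fun _ _ ↦ trivial)
  have hVc : CompactSpace (V : Scheme.{u}) := isCompact_iff_compactSpace.mp hV
  have h1 : QuasiCompact (opn G V).hom := by
    rw [quasiCompact_iff_compactSpace]; exact hVc
  have h2 : CompactSpace (opn G V ⊗ opn G V : Over S).left := by
    have : CompactSpace (opn G V).left := hVc
    exact inferInstanceAs (CompactSpace ↑(pullback (opn G V).hom (opn G V).hom))
  let m : opn G V ⊗ opn G V ⟶ G := (opnι G V ⊗ₘ opnι G V) ≫ μ[G]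
  have h3 : IsCompact (Set.range m.left) := isCompact_range m.left.continuous
  obtain ⟨U, hU, hmU, -⟩ := exists_between h3 ⊤ (fun _ _ ↦ trivial)
  refine ⟨U, hU, fun x hx ↦ hmU ?_⟩
  obtain ⟨w, hw1, hw2, hw3⟩ := exists_mul_eq x hx (V : Set G.left) V.isOpen (heV ⟨_, rfl⟩)
  obtain ⟨v, rfl⟩ := K203.OpenSub.exists_tensor_lift (opnι G V) w
    (by change _ ∈ Set.range V.ι; rw [Scheme.Opens.range_ι]; exact hw1)
    (by change _ ∈ Set.range V.ι; rw [Scheme.Opens.range_ι]; exact hw2)
  refine ⟨v, ?_⟩
  rw [comp_left_apply, ← hw3, MonObj.mul_eq_mul]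

/-- If the fibres are connected, the union of the neutral components is everything. -/
lemma neutralSet_eq_univ (hconn : ∀ s : S, _root_.IsConnected (G.hom ⁻¹' {s})) :
    SGA3x.neutralSet G = Set.univ := by
  rw [Set.eq_univ_iff_forall]
  intro x
  rw [neutralSet_eq]
  exact (hconn (G.hom x)).isPreconnected.subset_connectedComponentIn
    (hom_unitSec G _) subset_rfl rfl

theorem quasiCompact_of_connected_fibres (hconn : ∀ s : S, _root_.IsConnected (G.hom ⁻¹' {s})) :
    QuasiCompact G.hom := by
  rw [quasiCompact_iff_forall_isAffineOpen]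
  intro W hW
  have hWc : CompactSpace (W : Scheme.{u}) := isCompact_iff_compactSpace.mp hW.isCompact
  have hWs : QuasiSeparatedSpace (W : Scheme.{u}) := by
    have : IsAffine (W : Scheme.{u}) := hW
    infer_instance
  obtain ⟨U, hU, hGU⟩ := exists_isCompact_supset (Red.bc W.ι G)
  rw [K203.Basic.neutralSet_bc, neutralSet_eq_univ G hconn, Set.preimage_univ,
    Set.univ_subset_iff] at hGU
  rw [hGU] at hU
  have h1 : G.hom ⁻¹' (W : Set S) = pullback.fst G.hom W.ι '' Set.univ := by
    rw [Set.image_univ, Scheme.Pullback.range_fst, Scheme.Opens.range_ι]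
  change IsCompact (G.hom ⁻¹' (W : Set S))
  rw [h1]
  exact hU.image (pullback.fst G.hom W.ι).continuous

end K203.QC
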