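import Groth.Agent.S3022
import Groth.Agent.Ega4fib.H172.FibDimConstr
import Mathlib.Topology.Semicontinuity.Defs

/-!
# The dimension of the fibres of a group scheme

* `exists_nat`, `isOpen_dim_le`: the fibre dimension is finite and upper semicontinuous;
* `exists_constructible`: locally on the base it takes finitely many values, with constructible level sets.
-/

set_option autoImplicit false

universe u

open CategoryTheory MonoidalCategory CartesianMonoidalCategory MonObj GrpObj AlgebraicGeometry Limits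

namespace K203.DimFib

open Topology Groth.Agent.S3022

variable {S : Scheme.{u}} (G : Over S) [GrpObj G] [LocallyOfFiniteType G.hom]

/-- The unit section. -/
noncomputable def e : S ⟶ G.left := (η[G] : 𝟙_ (Over S) ⟶ G).left

omit [LocallyOfFiniteType G.hom] in
lemma hom_e (t : S) : G.hom (e G t) = t := by
  have h1 : e G ≫ G.hom = 𝟙 S := Over.w (η[G] : 𝟙_ (Over S) ⟶ G)
  rw [← Scheme.Hom.comp_apply, h1]
  rfl

lemma dim_eq (t : S) : topologicalKrullDim ↥(G.hom ⁻¹' {t}) = FlatMor.fibreDimAt G.hom (e G t) := by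
  rw [fibreDimAt_eq, hom_e, dim_fiber]

lemma exists_nat (s : S) : ∃ d : ℕ, topologicalKrullDim ↥(G.hom ⁻¹' {s}) = d := by
  obtain ⟨d, hd, -⟩ := exists_dim G s
  exact ⟨d, by rw [← dim_fiber, hd]⟩

lemma isOpen_dim_le (d : ℕ) : IsOpen {t : S | topologicalKrullDim ↥(G.hom ⁻¹' {t}) ≤ d} := by
  have h1 := (Groth.Agent.S0402.result G.hom d).preimage (e G).continuous
  have h2 : e G ⁻¹' {x | FlatMor.fibreDimAt G.hom x ≤ d} =
      {t : S | topologicalKrullDim ↥(G.hom ⁻¹' {t}) ≤ d} := by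
    ext t
    change FlatMor.fibreDimAt G.hom (e G t) ≤ d ↔ _
    rw [← dim_eq]
    rfl
  rwa [h2] at h1

theorem upperSemicontinuous_dim :
    UpperSemicontinuous (fun s : S => topologicalKrullDim ↥(G.hom ⁻¹' {s})) := by
  intro s y hy
  obtain ⟨d, hd⟩ := exists_nat G s
  have h1 : {t : S | topologicalKrullDim ↥(G.hom ⁻¹' {t}) ≤ d} ∈ 𝓝 s :=
    (isOpen_dim_le G d).mem_nhds hd.le
  filter_upwards [h1] with t ht
  refine lt_of_le_of_lt ht ?_
  rw [← hd]
  exact hy

theorem exists_constructible [LocallyOfFinitePresentation G.hom] (s : S) :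
    ∃ V : S.Opens, s ∈ V ∧
      ((fun t : S => topologicalKrullDim ↥(G.hom ⁻¹' {t})) '' (V : Set S)).Finite ∧
      ∀ d : WithBot ℕ∞, Topology.IsConstructible
        {t : V | topologicalKrullDim ↥(G.hom ⁻¹' {(t : S)}) = d} := by
  obtain ⟨d, hd⟩ := exists_nat G s
  obtain ⟨U, hU, hsU, -⟩ := exists_isAffineOpen_mem_and_subset (x := e G s) (U := ⊤) trivial
  obtain ⟨V, hV, hsV, hVU⟩ := exists_isAffineOpen_mem_and_subset (x := s)
    (U := (e G ⁻¹ᵁ U) ⊓ ⟨_, isOpen_dim_le G d⟩) ⟨hsU, hd.le⟩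
  have hUa : IsAffine (U : Scheme.{u}) := hU
  have hVa : IsAffine (V : Scheme.{u}) := hV
  have hVU1 : V ≤ e G ⁻¹ᵁ U := fun v hv ↦ (hVU hv).1
  let h : (V : Scheme.{u}) ⟶ U := (e G).resLE U V hVU1
  have hh : h ≫ U.ι = V.ι ≫ e G := Scheme.Hom.resLE_comp_ι _ _
  refine ⟨V, hsV, ?_, ?_⟩
  · refine Set.Finite.subset (Set.Finite.image (fun n : ℕ ↦ (n : WithBot ℕ∞)) (Set.finite_Iic d)) ?_
    rintro _ ⟨t, ht, rfl⟩
    obtain ⟨n, hn⟩ := exists_nat G t
    refine ⟨n, ?_, hn.symm⟩
    have h2 := (hVU ht).2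
    change topologicalKrullDim ↥(G.hom ⁻¹' {t}) ≤ d at h2
    rw [hn] at h2
    rw [Set.mem_Iic]
    exact_mod_cast h2
  · intro c
    by_cases hc : ∃ n : ℕ, c = n
    · obtain ⟨n, rfl⟩ := hc
      have h1 := Groth.Agent.Ega4fib.H172.FibDimConstr.isLocallyConstructible_fibreDimAt_eq G.hom n
      have h2 : IsConstructible (U.ι ⁻¹' {x | FlatMor.fibreDimAt G.hom x = n}) :=
        (h1.preimage_of_isOpenEmbedding U.ι.isOpenEmbedding).isConstructible
      have h3 := h.isConstructible_preimage h2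
      have h4 : h ⁻¹' (U.ι ⁻¹' {x | FlatMor.fibreDimAt G.hom x = n}) =
          {t : V | topologicalKrullDim ↥(G.hom ⁻¹' {(t : S)}) = n} := by
        ext t
        rw [Set.mem_preimage, Set.mem_preimage, ← Scheme.Hom.comp_apply, hh,
          Scheme.Hom.comp_apply]
        change FlatMor.fibreDimAt G.hom (e G t.1) = n ↔ _
        rw [← dim_eq]
        rfl
      rw [h4] at h3
      exact h3
    · have h4 : {t : V | topologicalKrullDim ↥(G.hom ⁻¹' {(t : S)}) = c} = ∅ := by
        rw [Set.eq_empty_iff_forall_notMem]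
        intro t ht
        obtain ⟨n, hn⟩ := exists_nat G t.1
        exact hc ⟨n, ht.symm.trans hn⟩
      rw [h4]
      exact IsConstructible.empty

end K203.DimFib
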