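import Groth.Agent.SGA3.K203.BC
import Groth.Agent.S3694

/-!
# Sections of unramified morphisms; a closed morphism with a section which is an isomorphism on a fibre
-/

set_option autoImplicit false

universe u

open CategoryTheory AlgebraicGeometry Limits

namespace K203.SecIso

open K203.Loc K203.BC

/-- If `f ≫ g` is an open immersion and `g` is unramified then `f` is an open immersion. -/
lemma isOpenImmersion_of_comp {X Y Z : Scheme.{u}} (f : X ⟶ Y) (g : Y ⟶ Z) [LocallyOfFiniteType g]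
    [FormallyUnramified g] [IsOpenImmersion (f ≫ g)] : IsOpenImmersion f := by
  have h1 : Etale f := Etale.of_comp f g
  have h2 : Mono f := mono_of_mono f g
  exact Groth.Agent.S3694.result f

/-- If the fibre at `s` is unramified at a point and `f` is locally of finite presentation near this point
then `f` is unramified near this point. -/
lemma near_unramified_of_fiber {X S : Scheme.{u}} (π : X ⟶ S) (s : S) (W : X.Opens)
    (hW : LocallyOfFinitePresentation (W.ι ≫ π)) (x' : π.fiber s)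
    (hxW : π.fiberι s x' ∈ W) (h : Near @FormallyUnramified (π.fiberToSpecResidueField s) x') :
    ∃ W₁ : X.Opens, π.fiberι s x' ∈ W₁ ∧ FormallyUnramified (W₁.ι ≫ π) ∧
      LocallyOfFinitePresentation (W₁.ι ≫ π) := by
  have hsq : IsPullback (π.fiberι s) (π.fiberToSpecResidueField s) π (S.fromSpecResidueField s) :=
    IsPullback.of_hasPullback _ _
  have h1 := (unramified_iff (isPullback_restrict hsq W) ⟨x', hxW⟩).mp (by
    rw [near_comp_iff]; exact h)
  rw [near_comp_iff] at h1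
  have h2 : W.ι ((π.fiberι s ∣_ W) ⟨x', hxW⟩) = π.fiberι s x' := by
    rw [← Scheme.Hom.comp_apply, morphismRestrict_ι]
    rfl
  rw [h2] at h1
  obtain ⟨W₁, h3, h4, h5⟩ := exists_le h1 W hxW
  exact ⟨W₁, h3, h5, restrict h4 hW⟩

theorem main {X S : Scheme.{u}} (π : X ⟶ S) (ε : S ⟶ X) (hε : ε ≫ π = 𝟙 S)
    (hcl : IsClosedMap π.base) (s : S)
    (hfp : ∃ W : X.Opens, ε s ∈ W ∧ LocallyOfFinitePresentation (W.ι ≫ π))
    (hs : IsIso (π.fiberToSpecResidueField s)) : ∃ U : S.Opens, s ∈ U ∧ IsIso (π ∣_ U) := by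
  have hπε (t : S) : π (ε t) = t := by
    rw [← Scheme.Hom.comp_apply, hε]; rfl
  obtain ⟨W, hsW, hW⟩ := hfp
  obtain ⟨x', hx'⟩ : ε s ∈ Set.range (π.fiberι s) := by
    rw [Scheme.Hom.range_fiberι]; exact hπε s
  obtain ⟨W₁, h1, h2, h3⟩ := near_unramified_of_fiber π s W hW x' (by rw [hx']; exact hsW)
    (Near.of_property (P := @FormallyUnramified) (inferInstanceAs (FormallyUnramified (π.fiberToSpecResidueField s))) x')
  rw [hx'] at h1
  -- the section restricted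
  let U₁ : S.Opens := ε ⁻¹ᵁ W₁
  let ε₁ : (U₁ : Scheme.{u}) ⟶ (W₁ : Scheme.{u}) := ε ∣_ W₁
  have hε₁ : ε₁ ≫ W₁.ι = U₁.ι ≫ ε := morphismRestrict_ι _ _
  have hε₁' : ε₁ ≫ W₁.ι ≫ π = U₁.ι := by
    rw [reassoc_of% hε₁, hε, Category.comp_id]
  have hoi : IsOpenImmersion ε₁ := by
    have : IsOpenImmersion (ε₁ ≫ W₁.ι ≫ π) := by rw [hε₁']; infer_instance
    exact isOpenImmersion_of_comp ε₁ (W₁.ι ≫ π)
  let j : (U₁ : Scheme.{u}) ⟶ X := U₁.ι ≫ ε
  have hj : IsOpenImmersion j := by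
    change IsOpenImmersion (U₁.ι ≫ ε)
    rw [← hε₁]; infer_instance
  have hjπ : j ≫ π = U₁.ι := by
    change (U₁.ι ≫ ε) ≫ π = _
    rw [Category.assoc, hε, Category.comp_id]
  -- the closed set
  let Z : Set X := (Set.range j)ᶜ
  have hZ : IsClosed Z := j.isOpenEmbedding.isOpen_range.isClosed_compl
  have hsZ : s ∉ π '' Z := by
    rintro ⟨z, hz, hzs⟩
    apply hz
    obtain ⟨z', hz'⟩ : z ∈ Set.range (π.fiberι s) := by
      rw [Scheme.Hom.range_fiberι]; exact hzs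
    have h4 : z' = x' := by
      apply (π.fiberToSpecResidueField s).homeomorph.injective
      exact Subsingleton.elim (α := PrimeSpectrum (S.residueField s)) _ _
    rw [← hz', h4, hx']
    exact ⟨⟨s, h1⟩, rfl⟩
  let U : S.Opens := U₁ ⊓ ⟨(π '' Z)ᶜ, (hcl Z hZ).isOpen_compl⟩
  have hsU : s ∈ U := ⟨h1, hsZ⟩
  have hUV (x : X) (hx : π x ∈ U) : x ∈ Set.range j := by
    by_contra h
    exact hx.2 ⟨x, h, rfl⟩
  have key : (π ⁻¹ᵁ U).ι ≫ π ≫ ε = (π ⁻¹ᵁ U).ι := by
    have hr : Set.range (π ⁻¹ᵁ U).ι ⊆ Set.range j := by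
      rintro _ ⟨x, rfl⟩
      exact hUV _ x.2
    let k := IsOpenImmersion.lift j (π ⁻¹ᵁ U).ι hr
    have hk : k ≫ j = (π ⁻¹ᵁ U).ι := IsOpenImmersion.lift_fac _ _ _
    rw [← hk]
    simp only [Category.assoc]
    rw [reassoc_of% hjπ]
  have hrσ : Set.range (U.ι ≫ ε) ⊆ Set.range (π ⁻¹ᵁ U).ι := by
    rw [Scheme.Opens.range_ι]
    rintro _ ⟨x, rfl⟩
    change π ((U.ι ≫ ε) x) ∈ U
    rw [Scheme.Hom.comp_apply, hπε]
    exact x.2
  let σ : (U : Scheme.{u}) ⟶ (π ⁻¹ᵁ U : Scheme.{u}) := IsOpenImmersion.lift (π ⁻¹ᵁ U).ι (U.ι ≫ ε) hrσ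
  have hσ : σ ≫ (π ⁻¹ᵁ U).ι = U.ι ≫ ε := IsOpenImmersion.lift_fac _ _ _
  refine ⟨U, hsU, ⟨σ, ?_, ?_⟩⟩
  · rw [← cancel_mono (π ⁻¹ᵁ U).ι, Category.assoc, hσ, Category.id_comp, morphismRestrict_ι_assoc, key]
  · rw [← cancel_mono U.ι, Category.assoc, morphismRestrict_ι, reassoc_of% hσ, hε, Category.comp_id,
      Category.id_comp]

end K203.SecIso
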