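import Mathlib.RingTheory.Unramified.Finite
import Mathlib.LinearAlgebra.TensorProduct.Basis
import Mathlib.LinearAlgebra.Basis.VectorSpace
import Mathlib.RingTheory.FinitePresentation
import Mathlib.RingTheory.Ideal.IdempotentFG
import Mathlib.AlgebraicGeometry.Morphisms.FormallyUnramified
import Mathlib.AlgebraicGeometry.Morphisms.Etale
import Mathlib.AlgebraicGeometry.Pullbacks

/-!
# Schemes over a field whose diagonal is an open immersion are étale

No finiteness hypothesis: a `k`-algebra `B` with a separability element in `B ⊗ B` is finite.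
-/

set_option autoImplicit false

universe u

open CategoryTheory AlgebraicGeometry Limits TensorProduct

namespace K203.SepFin

variable {k B : Type u} [Field k] [CommRing B] [Algebra k B]

/-- Contraction with a linear form on the first factor. -/
noncomputable def contr (τ : B →ₗ[k] k) : B ⊗[k] B →ₗ[k] B :=
  (TensorProduct.lid k B).toLinearMap ∘ₗ τ.rTensor B

@[simp] theorem contr_tmul (τ : B →ₗ[k] k) (a b : B) : contr τ (a ⊗ₜ[k] b) = τ a • b := by
  simp [contr]

/-- An algebra over a field with a separability element is finite. -/
theorem finite_of_sep (ε : B ⊗[k] B)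
    (h1 : ∀ s : B, ((1 : B) ⊗ₜ[k] s) * ε = (s ⊗ₜ[k] (1 : B)) * ε)
    (h2 : Algebra.TensorProduct.lmul' k ε = 1) : Module.Finite k B := by
  classical
  let b := Module.Basis.ofVectorSpace k B
  obtain ⟨c, hc⟩ := TensorProduct.eq_repr_basis_left b ε
  let M : Submodule k B := Submodule.span k (c.support.image c : Finset B)
  have hM : ∀ j, c j ∈ M := by
    intro j
    by_cases hj : j ∈ c.support
    · exact Submodule.subset_span (by
        rw [Finset.mem_coe, Finset.mem_image]
        exact ⟨j, hj, rfl⟩)
    · rw [Finsupp.notMem_support_iff.mp hj]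
      exact M.zero_mem
  have key : ∀ (x : B) (j), x * c j ∈ M := by
    intro x j
    have h3 := congrArg (contr (b.coord j)) (h1 x)
    rw [← hc] at h3
    simp only [Finsupp.sum, Finset.mul_sum, Algebra.TensorProduct.tmul_mul_tmul, one_mul, map_sum,
      contr_tmul] at h3
    have h4 : ∑ i ∈ c.support, (b.coord j) (b i) • (x * c i) = x * c j := by
      rw [Finset.sum_eq_single j]
      · simp
      · intro i _ hij
        simp [hij]
      · intro hj
        rw [Finsupp.notMem_support_iff.mp hj, mul_zero, smul_zero]
    rw [h4] at h3
    rw [h3]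
    exact Submodule.sum_mem _ fun i _ ↦ Submodule.smul_mem _ _ (hM i)
  have htop : M = ⊤ := by
    rw [eq_top_iff]
    intro x _
    have h5 : x = ∑ i ∈ c.support, (x * b i) * c i := by
      have h6 := congrArg (fun y ↦ x * y) h2
      rw [← hc] at h6
      simp only [Finsupp.sum, map_sum, Algebra.TensorProduct.lmul'_apply_tmul, mul_one,
        Finset.mul_sum] at h6
      exact h6.symm.trans (Finset.sum_congr rfl fun i _ ↦ (mul_assoc _ _ _).symm)
    rw [h5]
    exact Submodule.sum_mem _ fun i _ ↦ key _ i
  exact ⟨⟨c.support.image c, htop⟩⟩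

/-- If the multiplication `B ⊗ B → B` induces an open immersion then `B` is étale over `k`. -/
theorem etale_of_diagonal [h : IsOpenImmersion (pullback.diagonal
    (Spec.map (CommRingCat.ofHom (algebraMap k B))))] :
    Etale (Spec.map (CommRingCat.ofHom (algebraMap k B))) := by
  have hun : FormallyUnramified (Spec.map (CommRingCat.ofHom (algebraMap k B))) := inferInstance
  have hun' : Algebra.FormallyUnramified k B := by
    rw [HasRingHomProperty.Spec_iff (P := @FormallyUnramified), CommRingCat.hom_ofHom,
      RingHom.formallyUnramified_algebraMap] at hun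
    exact hun
  -- the kernel of the multiplication is finitely generated
  let m : B ⊗[k] B →+* B := (Algebra.TensorProduct.lmul' k : B ⊗[k] B →ₐ[k] B).toRingHom
  have hm : Function.Surjective m := fun x ↦ ⟨x ⊗ₜ 1, by simp [m]⟩
  have hoi : IsOpenImmersion (Spec.map (CommRingCat.ofHom m)) := by
    have h1 := diagonal_SpecMap k B
    have h2 : Spec.map (CommRingCat.ofHom m) = pullback.diagonal
        (Spec.map (CommRingCat.ofHom (algebraMap k B))) ≫ (pullbackSpecIso k B B).hom := by
      rw [h1, Category.assoc, Iso.inv_hom_id, Category.comp_id]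
    rw [h2]
    infer_instance
  have hfp : m.FinitePresentation := by
    have h3 : LocallyOfFinitePresentation (Spec.map (CommRingCat.ofHom m)) := inferInstance
    rw [HasRingHomProperty.Spec_iff (P := @LocallyOfFinitePresentation), CommRingCat.hom_ofHom] at h3
    exact h3
  have hker : (KaehlerDifferential.ideal k B).FG := by
    let _ : Algebra (B ⊗[k] B) B := m.toAlgebra
    have h4 : Algebra.FinitePresentation (B ⊗[k] B) B := hfp
    have h5 := Algebra.FinitePresentation.ker_fG_of_surjective (Algebra.ofId (B ⊗[k] B) B) hm
    exact h5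
  have hid : IsIdempotentElem (KaehlerDifferential.ideal k B) := by
    rw [← Ideal.cotangent_subsingleton_iff]
    exact (Algebra.formallyUnramified_iff k B).mp hun'
  obtain ⟨e, he1, he2⟩ := (Ideal.isIdempotentElem_iff_of_fg _ hker).mp hid
  have hfin : Module.Finite k B := by
    refine finite_of_sep (1 - e) (fun s ↦ ?_) ?_
    · rw [← sub_eq_zero, ← sub_mul]
      have h6 : (1 : B) ⊗ₜ[k] s - s ⊗ₜ[k] (1 : B) ∈ KaehlerDifferential.ideal k B := by
        rw [KaehlerDifferential.ideal, RingHom.mem_ker]
        simp
      rw [he2, Ideal.submodule_span_eq, Ideal.mem_span_singleton] at h6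
      obtain ⟨x, hx⟩ := h6
      rw [hx, mul_comm e x, mul_assoc, mul_sub, mul_one, he1.eq, sub_self, mul_zero]
    · have h7 : e ∈ KaehlerDifferential.ideal k B := by
        rw [he2]
        exact Submodule.mem_span_singleton_self e
      rw [KaehlerDifferential.ideal, RingHom.mem_ker] at h7
      rw [map_sub, map_one, h7, sub_zero]
  have hlfp : LocallyOfFinitePresentation (Spec.map (CommRingCat.ofHom (algebraMap k B))) := by
    rw [HasRingHomProperty.Spec_iff (P := @LocallyOfFinitePresentation), CommRingCat.hom_ofHom]
    have : Algebra.FiniteType k B := inferInstance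
    have : Algebra.FinitePresentation k B := Algebra.FinitePresentation.of_finiteType.mp this
    exact RingHom.finitePresentation_algebraMap.mpr this
  rw [Etale.iff_flat_and_formallyUnramified]
  refine ⟨?_, hun, hlfp⟩
  rw [Flat.SpecMap_iff, CommRingCat.hom_ofHom, RingHom.flat_algebraMap_iff]
  infer_instance

theorem etale_specMap {R : CommRingCat.{u}} (φ : CommRingCat.of k ⟶ R)
    (h : IsOpenImmersion (pullback.diagonal (Spec.map φ))) : Etale (Spec.map φ) := by
  let _ : Algebra k R := φ.hom.toAlgebra
  exact etale_of_diagonal (k := k) (B := R) (h := h)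

theorem etale_aux {R : CommRingCat.{u}} (g : Spec R ⟶ Spec (CommRingCat.of k))
    (h : IsOpenImmersion (pullback.diagonal g)) : Etale g := by
  obtain ⟨φ, rfl⟩ := Spec.map_surjective g
  exact etale_specMap φ h

/-- A scheme over a field whose diagonal is an open immersion is étale. -/
theorem etale_of_isOpenImmersion_diagonal {k : Type u} [Field k] {X : Scheme.{u}}
    (f : X ⟶ Spec (CommRingCat.of k)) (h : IsOpenImmersion (pullback.diagonal f)) : Etale f := by
  rw [IsZariskiLocalAtSource.iff_of_openCover (P := @Etale) X.affineCover]
  intro i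
  have h1 : (MorphismProperty.diagonal (@IsOpenImmersion : MorphismProperty Scheme.{u})) f := h
  have h2 : (MorphismProperty.diagonal (@IsOpenImmersion : MorphismProperty Scheme.{u}))
      (X.affineCover.f i) := by
    change IsOpenImmersion (pullback.diagonal (X.affineCover.f i))
    infer_instance
  have h3 := MorphismProperty.comp_mem _ _ _ h2 h1
  exact etale_aux (X.affineCover.f i ≫ f) h3

end K203.SepFin
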