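import Groth.Agent.SGA3.K203.FibHom
import Groth.Agent.SGA3.K203.SecIso
import Groth.Agent.SGA3.K203.SepFin
import Groth.Agent.Localalg.GrpSchComp2

/-!
# Unramified group schemes and kernels

* `openImm_unit_iff`, `openImm_unit_iff_unramified`: the unit section is an open immersion iff the
  group scheme is unramified;
* `lqf_tfae`, `unramified_tfae`: quasi-finite and unramified homomorphisms in terms of the kernel.
-/

set_option autoImplicit false

universe u

open CategoryTheory MonoidalCategory CartesianMonoidalCategory MonObj GrpObj AlgebraicGeometry Limits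

namespace K203.UnitSec

open K203.Loc K203.BC K203.Transl K203.FibHom K203.SecIso K203.SepFin

variable {S : Scheme.{u}} {G H : Over S}

section Unit

variable (G) [GrpObj G]

lemma unit_hom : (η[G] : 𝟙_ (Over S) ⟶ G).left ≫ G.hom = 𝟙 S := Over.w η[G]

lemma hom_unit (s : S) : G.hom ((η[G] : 𝟙_ (Over S) ⟶ G).left s) = s := by
  rw [← Scheme.Hom.comp_apply, unit_hom]; rfl

lemma isOpenImmersion_diagonal (h : IsOpenImmersion (η[G] : 𝟙_ (Over S) ⟶ G).left) :
    IsOpenImmersion (pullback.diagonal G.hom) :=
  MorphismProperty.of_isPullback (P := @IsOpenImmersion)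
    (Groth.Agent.Localalg.GrpSchComp2.isPullback_diagonal S G).flip h

theorem openImm_unit_iff_unramified [LocallyOfFiniteType G.hom] :
    IsOpenImmersion (η[G] : 𝟙_ (Over S) ⟶ G).left ↔ FormallyUnramified G.hom := by
  constructor
  · intro h
    have := isOpenImmersion_diagonal G h
    infer_instance
  · intro h
    have h1 : IsOpenImmersion ((η[G] : 𝟙_ (Over S) ⟶ G).left ≫ G.hom) := by
      rw [unit_hom]; exact inferInstanceAs (IsOpenImmersion (𝟙 S))
    exact isOpenImmersion_of_comp _ G.hom

lemma etale_fiber (h : IsOpenImmersion (η[G] : 𝟙_ (Over S) ⟶ G).left) (s : S) :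
    Etale (G.hom.fiberToSpecResidueField s) := by
  have h1 : (MorphismProperty.diagonal (@IsOpenImmersion : MorphismProperty Scheme.{u})) G.hom :=
    isOpenImmersion_diagonal G h
  have hsq : IsPullback (G.hom.fiberι s) (G.hom.fiberToSpecResidueField s) G.hom
      (S.fromSpecResidueField s) := IsPullback.of_hasPullback _ _
  have h2 : (MorphismProperty.diagonal (@IsOpenImmersion : MorphismProperty Scheme.{u}))
      (G.hom.fiberToSpecResidueField s) := MorphismProperty.of_isPullback hsq h1
  exact etale_of_isOpenImmersion_diagonal (k := S.residueField s) (G.hom.fiberToSpecResidueField s) h2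

theorem openImm_unit_iff : IsOpenImmersion (η[G] : 𝟙_ (Over S) ⟶ G).left ↔
      ((∃ W : G.left.Opens, (∀ p : ↥(𝟙_ (Over S)).left, (η[G] : 𝟙_ (Over S) ⟶ G).left p ∈ W) ∧
        LocallyOfFinitePresentation (W.ι ≫ G.hom)) ∧
        ∀ s : S, FormallyUnramified (G.hom.fiberToSpecResidueField s) ∧
          LocallyOfFinitePresentation (G.hom.fiberToSpecResidueField s)) := by
  constructor
  · intro h
    refine ⟨⟨(η[G] : 𝟙_ (Over S) ⟶ G).left.opensRange, fun p ↦ ⟨p, rfl⟩, ?_⟩, fun s ↦ ?_⟩
    · let e := (η[G] : 𝟙_ (Over S) ⟶ G).left.isoOpensRange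
      have h1 : (η[G] : 𝟙_ (Over S) ⟶ G).left.opensRange.ι = e.inv ≫ (η[G] : 𝟙_ (Over S) ⟶ G).left := by
        rw [Iso.eq_inv_comp]
        exact Scheme.Hom.isoOpensRange_hom_ι _
      rw [h1, Category.assoc, unit_hom]
      have h2 : LocallyOfFinitePresentation (𝟙 S) := inferInstance
      have h3 : LocallyOfFinitePresentation e.inv := inferInstance
      exact MorphismProperty.comp_mem @LocallyOfFinitePresentation _ _ h3 h2
    · have := etale_fiber G h s
      exact ⟨inferInstance, inferInstance⟩
  · rintro ⟨⟨W, hW, hlfp⟩, hfib⟩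
    have hun : FormallyUnramified (W.ι ≫ G.hom) := by
      rw [property_iff_forall (P := @FormallyUnramified)]
      intro w
      rw [near_comp_iff]
      obtain ⟨x', hx'⟩ : W.ι w ∈ Set.range (G.hom.fiberι (G.hom (W.ι w))) := by
        rw [Scheme.Hom.range_fiberι]; rfl
      obtain ⟨W₁, h1, h2, -⟩ := near_unramified_of_fiber G.hom (G.hom (W.ι w)) W hlfp x'
        (by rw [hx']; exact w.2)
        (Near.of_property (P := @FormallyUnramified) (hfib _).1 x')
      rw [hx'] at h1
      exact ⟨W₁, h1, h2⟩
    have hr : Set.range (η[G] : 𝟙_ (Over S) ⟶ G).left ⊆ Set.range W.ι := by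
      rw [Scheme.Opens.range_ι]
      rintro _ ⟨p, rfl⟩
      exact hW p
    let e : (𝟙_ (Over S)).left ⟶ (W : Scheme.{u}) :=
      IsOpenImmersion.lift W.ι (η[G] : 𝟙_ (Over S) ⟶ G).left hr
    have he : e ≫ W.ι = (η[G] : 𝟙_ (Over S) ⟶ G).left := IsOpenImmersion.lift_fac _ _ _
    have h3 : IsOpenImmersion (e ≫ W.ι ≫ G.hom) := by
      rw [reassoc_of% he, unit_hom]; exact inferInstanceAs (IsOpenImmersion (𝟙 S))
    have h4 : IsOpenImmersion e := isOpenImmersion_of_comp e (W.ι ≫ G.hom)
    rw [← he]
    infer_instance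

end Unit

section Ker

variable [GrpObj G] [GrpObj H] (u : G ⟶ H) [IsMonHom u] (K : Over S) (i : K ⟶ G)
  (hK : AlgGrp.IsKernel i u)

include hK

omit [GrpObj G] [IsMonHom u] in
lemma isPullback_ker : IsPullback i.left K.hom u.left (η[H] : 𝟙_ (Over S) ⟶ H).left := by
  have h1 : IsPullback i.left (toUnit K).left u.left (η[H] : 𝟙_ (Over S) ⟶ H).left :=
    IsPullback.map (Over.forget S) hK
  have h2 : (toUnit K).left = K.hom := by simp
  rw [← h2]
  exact h1

/-- The unit of `G` as a point of the kernel. -/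
lemma exists_ker_pt (s : S) : ∃ y : K.left, i.left y = (η[G] : 𝟙_ (Over S) ⟶ G).left s := by
  have h1 : u.left ((η[G] : 𝟙_ (Over S) ⟶ G).left s) = (η[H] : 𝟙_ (Over S) ⟶ H).left s := by
    rw [← IsMonHom.one_hom u]
    rfl
  obtain ⟨y, hy, -⟩ := Groth.Agent.Sga3C.HomogIrr.isPullback_surj (isPullback_ker u K i hK) _ _ h1
  exact ⟨y, hy⟩

theorem lqf_ker_iff [LocallyOfFiniteType u.left] :
    LocallyQuasiFinite u.left ↔ LocallyQuasiFinite K.hom := by
  have hsq := isPullback_ker u K i hK
  have hlft : LocallyOfFiniteType K.hom := MorphismProperty.of_isPullback hsq ‹_›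
  constructor
  · intro h
    exact MorphismProperty.of_isPullback hsq h
  · intro h
    rw [lqf_iff]
    intro x
    obtain ⟨y, hy⟩ := exists_ker_pt u K i hK (G.hom x)
    have h1 : K.hom.QuasiFiniteAt y := K.hom.quasiFiniteAt y
    rw [qf_iff hsq, hy] at h1
    exact (qf_iff_of_hom_eq u (hom_unit G (G.hom x))).mp h1

theorem lqf_tfae [LocallyOfFiniteType u.left] :
    (LocallyQuasiFinite u.left ↔ ∀ s : S, LocallyQuasiFinite (fib u s)) ∧
    (LocallyQuasiFinite u.left ↔ LocallyQuasiFinite K.hom) ∧
    (LocallyQuasiFinite u.left ↔ ∀ s : S, DiscreteTopology ↥(K.hom.base ⁻¹' {s})) := by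
  have hsq := isPullback_ker u K i hK
  have hlft : LocallyOfFiniteType K.hom := MorphismProperty.of_isPullback hsq ‹_›
  refine ⟨⟨?_, ?_⟩, lqf_ker_iff u K i hK, ?_⟩
  · intro h s
    exact MorphismProperty.of_isPullback (isPullback_fib u s) h
  · intro h
    rw [lqf_iff]
    intro x
    exact (lqf_fib_iff u (G.hom x)).mp (h _) x rfl
  · rw [lqf_ker_iff u K i hK, locallyQuasiFinite_iff_isDiscrete_preimage_singleton]
    exact forall_congr' fun s ↦ isDiscrete_iff_discreteTopology

theorem unramified_ker_iff [LocallyOfFinitePresentation u.left] :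
    FormallyUnramified u.left ↔ FormallyUnramified K.hom := by
  have hsq := isPullback_ker u K i hK
  constructor
  · intro h
    exact MorphismProperty.of_isPullback hsq h
  · intro h
    rw [property_iff_forall (P := @FormallyUnramified)]
    intro x
    obtain ⟨y, hy⟩ := exists_ker_pt u K i hK (G.hom x)
    have h1 : Near @FormallyUnramified K.hom y := Near.of_property (P := @FormallyUnramified) h y
    rw [unramified_iff hsq, hy] at h1
    exact (unramified_iff_of_hom_eq u (hom_unit G (G.hom x))).mp h1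

variable [GrpObj K]

theorem unramified_tfae [LocallyOfFinitePresentation u.left] :
    (FormallyUnramified u.left ↔ ∀ s : S, FormallyUnramified (fib u s)) ∧
    (FormallyUnramified u.left ↔ FormallyUnramified K.hom) ∧
    (FormallyUnramified u.left ↔ IsOpenImmersion (η[K] : 𝟙_ (Over S) ⟶ K).left) := by
  have hsq := isPullback_ker u K i hK
  have hlfp : LocallyOfFinitePresentation K.hom := MorphismProperty.of_isPullback hsq ‹_›
  refine ⟨⟨?_, ?_⟩, unramified_ker_iff u K i hK, ?_⟩
  · intro h s
    exact MorphismProperty.of_isPullback (isPullback_fib u s) h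
  · intro h
    rw [property_iff_forall (P := @FormallyUnramified)]
    intro x
    exact (unramified_fib_iff u (G.hom x)).mp (h _) x rfl
  · rw [unramified_ker_iff u K i hK, openImm_unit_iff_unramified]

end Ker

end K203.UnitSec
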