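import Groth.Agent.SGA3.K203.CommLift

/-!
# Rigidity of liftings of smooth groups of multiplicative type, commutative unipotent kernel
-/

set_option autoImplicit false
set_option linter.unusedSectionVars false

universe u

open TensorProduct WithConv

namespace K203.CommRigid

open K203.Pts K203.TorsPts K203.HomPt K203.Mean K203.CommLift Groth.Agent.Books.DynBasic
  Groth.Agent.Sga3A.MTBasis

lemma comm_aux {G : Type*} [Group G] (N : Subgroup G) [N.Normal] [IsMulCommutative N] {u w y : G}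
    (hu : u ∈ N) (hw : w ∈ N) : w * y * w⁻¹ * u = u * (w * y * w⁻¹) ↔ y * u = u * y := by
  have hc : ∀ a ∈ N, ∀ b ∈ N, a * b = b * a := fun a ha b hb ↦
    congrArg Subtype.val (mul_comm' (⟨a, ha⟩ : N) ⟨b, hb⟩)
  have hn : w * (y * w⁻¹ * y⁻¹) ∈ N := N.mul_mem hw
    (Subgroup.Normal.conj_mem inferInstance _ (N.inv_mem hw) y)
  have h1 : w * y * w⁻¹ = w * (y * w⁻¹ * y⁻¹) * y := by group
  rw [h1]
  generalize w * (y * w⁻¹ * y⁻¹) = n at hn
  have h2 := hc _ hn _ hu
  constructor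
  · intro h
    have h3 : n * (y * u) = n * (u * y) := by
      rw [← mul_assoc, h, ← mul_assoc, ← mul_assoc, h2]
    exact mul_left_cancel h3
  · intro h
    rw [mul_assoc, h, ← mul_assoc, ← mul_assoc, h2]

section data

variable {k : Type u} [Field k] {A : Type u} [CommRing A] [HopfAlgebra k A]
  [Algebra.FiniteType k A]
  {B : Type u} [CommRing B] [HopfAlgebra k B] [Coalgebra.IsCocomm k B]
  (ψ : B →ₐc[k] A) (J : Ideal A) [J.IsHopfIdeal k] (hJ : J = kerIdeal ψ)
  (hU : HopfRep.IsUnipotent k (A ⧸ J)) [Coalgebra.IsCocomm k (A ⧸ J)]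
  {K : Type u} [Field K] [Algebra k K] [IsAlgClosed K]
  {M : Type u} [CommGroup M] (g : GBasis K (K ⊗[k] B) M) (hM : Group.FG M)
  (hp : ∀ p : ℕ, p.Prime → (p : K) = 0 → ∀ x : M, x ^ p = 1 → x = 1)

variable {L : Type u} [CommRing L] [Algebra k L]

lemma ker_map {L' : Type u} [CommRing L'] [Algebra k L'] (φ : L →ₐ[k] L') (x : WithConv (A →ₐ[k] L))
    (hx : x ∈ (res (R := L) ψ).ker) : mapPt φ x ∈ (res (R := L') ψ).ker := by
  rw [MonoidHom.mem_ker] at hx ⊢
  rw [← mapPt_res, hx, map_one]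

include g hM in
lemma finite_torsC (N : ℕ) (hN : (N : K) ≠ 0) : Finite (torsC (k := k) B K N) :=
  finite_tors g hM N hN

include g hM in
lemma finite_torsC' [IsLocalRing L] (φ : K →ₐ[k] L) (N : ℕ) (hN : (N : K) ≠ 0) :
    Finite (torsC (k := k) B L N) := by
  have := finite_torsC g hM N hN
  exact Finite.of_surjective _ (torsMap_bijective g φ N hN).2

include g hM in
lemma card_ne_zero [IsLocalRing L] (φ : K →ₐ[k] L) (N : ℕ) (hN : (N : K) ≠ 0)
    [Fintype (torsC (k := k) B L N)] : (Fintype.card (torsC (k := k) B L N) : k) ≠ 0 := by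
  have := finite_torsC g hM N hN
  let F : Fintype (torsC (k := k) B K N) := Fintype.ofFinite _
  have h1 : Fintype.card (torsC (k := k) B L N) = Fintype.card (torsC (k := k) B K N) :=
    (Fintype.card_of_bijective (torsMap_bijective g φ N hN)).symm
  let F' : Fintype (tors g K N) := F
  have h2 : (Fintype.card (torsC (k := k) B K N) : K) ≠ 0 := card_tors_ne_zero g N hN
  rw [h1]
  intro h3
  apply h2
  have h4 := congrArg (algebraMap k K) h3
  rwa [map_natCast, map_zero] at h4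

include hJ hU g hM in
lemma div_torsC [IsLocalRing L] (φ : K →ₐ[k] L) (N : ℕ) (hN : (N : K) ≠ 0)
    [Fintype (torsC (k := k) B L N)] :
    Div (res (R := L) ψ).ker (Fintype.card (torsC (k := k) B L N)) :=
  UDiv.div_ker ψ J hJ hU _ (card_ne_zero g hM φ N hN)

variable (x : WithConv (A →ₐ[k] K ⊗[k] B)) (hx : IsHom x) (hl : IsLift ψ x)

/-- restriction of a homomorphism to the torsion points -/
noncomputable def resTors {x : WithConv (A →ₐ[k] L ⊗[k] B)} (hx : IsHom x) (N : ℕ) :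
    torsC (k := k) B L N →* WithConv (A →ₐ[k] L) := hx.toHom.comp (torsC B L N).subtype

lemma resTors_apply {x : WithConv (A →ₐ[k] L ⊗[k] B)} (hx : IsHom x) (N : ℕ)
    (h : torsC (k := k) B L N) : resTors hx N h = ev x h.1 := rfl

include g hM hp in
/-- Density: homomorphisms which agree on the torsion points are equal. -/
theorem eq_of_ev {L : Type u} [CommRing L] [Algebra k L] (φ : K →ₐ[k] L)
    (X Y : WithConv (A →ₐ[k] L ⊗[k] B))
    (h : ∀ N : ℕ, (N : K) ≠ 0 → ∀ h ∈ torsC (k := k) B K N, ev X (mapPt φ h) = ev Y (mapPt φ h)) :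
    X = Y := by
  let _ : Algebra K L := φ.toRingHom.toAlgebra
  have : IsScalarTower k K L := .of_algebraMap_eq' φ.comp_algebraMap.symm
  apply Pts.ext
  intro a
  rw [← sub_eq_zero]
  apply eq_zero_of_tors (K := K) g hM hp
  intro N hN y hy
  have h1 := DFunLike.congr_fun (congrArg WithConv.ofConv (h N hN y hy)) a
  have h2 : ∀ z : L ⊗[k] B, evPt (mapPt (stm k K L) y).ofConv z = evL (mapPt φ y) z := by
    intro z
    induction z with
    | zero => simp
    | add u v hu hv => rw [map_add, map_add, hu, hv]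
    | tmul c b =>
      rw [evPt_tmul, evL_tmul]
      rfl
  rw [h2, map_sub, sub_eq_zero]
  exact h1

include hJ hU g hM hp in
/-- **Rigidity.** -/
theorem rigid (N₀ : ℕ) (hN₀ : (N₀ : K) ≠ 0) {L : Type u} [CommRing L] [Algebra k L]
    [IsLocalRing L] (φ : K →ₐ[k] L) (X₁ X₂ : WithConv (A →ₐ[k] L ⊗[k] B)) (h₁ : IsHom X₁)
    (h₂ : IsHom X₂) (l₁ : IsLift ψ X₁) (l₂ : IsLift ψ X₂)
    (hstab : ∀ u ∈ (res (R := L) ψ).ker,
      (∀ h ∈ torsC (k := k) B K N₀, ev X₁ (mapPt φ h) * u = u * ev X₁ (mapPt φ h)) →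
      ∀ N : ℕ, (N : K) ≠ 0 → ∀ h ∈ torsC (k := k) B K N,
        ev X₁ (mapPt φ h) * u = u * ev X₁ (mapPt φ h))
    (heq : ∀ h ∈ torsC (k := k) B L N₀, ev X₁ h = ev X₂ h) : X₁ = X₂ := by
  have hcomm := UDiv.isMulCommutative_ker (R := L) ψ J hJ
  refine eq_of_ev g hM hp φ X₁ X₂ ?_
  intro N hN h hh
  have hN₁ : ((N₀ * N : ℕ) : K) ≠ 0 := by
    rw [Nat.cast_mul]; exact mul_ne_zero hN₀ hN
  have := finite_torsC' g hM φ (N₀ * N) hN₁
  have : Fintype (torsC (k := k) B L (N₀ * N)) := Fintype.ofFinite _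
  have hdiv := div_torsC (L := L) ψ J hJ hU g hM φ (N₀ * N) hN₁
  obtain ⟨u, hu, -, hconj⟩ := exists_conj hdiv (resTors h₁ (N₀ * N)) (resTors h₂ (N₀ * N)) (by
    intro h
    rw [MonoidHom.mem_ker, map_mul, map_inv, resTors_apply, resTors_apply, l₁.res_ev, l₂.res_ev,
      mul_inv_cancel])
  have h3 : ∀ h ∈ torsC (k := k) B K (N₀ * N),
      ev X₂ (mapPt φ h) * u = u * ev X₁ (mapPt φ h) := fun h hh ↦
    hconj (torsMap φ (N₀ * N) ⟨h, hh⟩)
  have h4 : ∀ h ∈ torsC (k := k) B K N₀, ev X₁ (mapPt φ h) * u = u * ev X₁ (mapPt φ h) := by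
    intro h hh
    rw [← h3 h (torsC_le (dvd_mul_right _ _) hh)]
    congr 1
    exact heq _ (torsMap φ N₀ ⟨h, hh⟩).2
  have h5 := hstab u hu h4 N hN h hh
  rw [← h3 h (torsC_le (dvd_mul_left _ _) hh)] at h5
  exact mul_right_cancel h5

section lift

variable (σ : A →ₐ[k] B) (hσ : ∀ b, σ (ψ b) = b)

/-- The section on points. -/
noncomputable def sig (L : Type u) [CommRing L] [Algebra k L] (h : WithConv (B →ₐ[k] L)) :
    WithConv (A →ₐ[k] L) := toConv (h.ofConv.comp σ)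

include hσ in
lemma res_sig (h : WithConv (B →ₐ[k] L)) : res ψ (sig σ L h) = h := by
  apply Pts.ext
  intro b
  change h.ofConv (σ (ψ b)) = _
  rw [hσ]

lemma mapPt_sig {L' : Type u} [CommRing L'] [Algebra k L'] (φ : L →ₐ[k] L')
    (h : WithConv (B →ₐ[k] L)) : mapPt φ (sig σ L h) = sig σ L' (mapPt φ h) := rfl

include hJ hU g hM hp hσ hx hl in
theorem exists_lift : ∃ y : WithConv (A →ₐ[k] K ⊗[k] B), IsHom y ∧ IsLift ψ y ∧
    ∀ a, ∃ b : B, (1 : K) ⊗ₜ[k] b = y.ofConv a := by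
  obtain ⟨N₀, hN₀, hstab⟩ := exists_stab (ev x) (ev x)
  have := finite_torsC g hM N₀ hN₀
  let F : Fintype (torsC (k := k) B K N₀) := Fintype.ofFinite _
  have hcomm := UDiv.isMulCommutative_ker (R := K) ψ J hJ
  have hdiv := div_torsC (L := K) ψ J hJ hU g hM (AlgHom.id k K) N₀ hN₀
  obtain ⟨s, hs1, hs2⟩ := exists_hom hdiv (fun h ↦ sig σ K h.1) (by
    intro a b
    rw [MonoidHom.mem_ker, map_mul, map_mul, map_inv, res_sig ψ σ hσ, res_sig ψ σ hσ,
      res_sig ψ σ hσ]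
    exact inv_mul_cancel _)
  have hs3 : ∀ h, res ψ (s h) = h.1 := by
    intro h
    have h1 := hs1 h
    rw [MonoidHom.mem_ker, map_mul, map_inv, res_sig ψ σ hσ] at h1
    exact inv_mul_eq_one.mp h1
  obtain ⟨w, hw, -, hconj⟩ := exists_conj hdiv (resTors hx N₀) s (by
    intro h
    rw [MonoidHom.mem_ker, map_mul, map_inv, hs3, resTors_apply, hl.res_ev, mul_inv_cancel])
  let y : WithConv (A →ₐ[k] K ⊗[k] B) := cst B w * x * (cst B w)⁻¹
  have hy : IsHom y := hx.conj w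
  have hyl : IsLift ψ y := hl.conj w hw
  have hevy : ∀ h, ev y h = w * ev x h * w⁻¹ := by
    intro h
    rw [ev_mul', ev_mul', ev_inv, ev_cst]
  have hevs : ∀ h : torsC (k := k) B K N₀, ev y h.1 = s h := by
    intro h
    rw [hevy]
    have h1 := hconj h
    rw [resTors_apply] at h1
    rw [← h1]
    exact mul_inv_cancel_right (G := WithConv (A →ₐ[k] K)) _ _
  refine ⟨y, hy, hyl, ?_⟩
  -- the mean formula
  have hmean : ∀ (L : Type u) [CommRing L] [Algebra k L] [IsLocalRing L] (φ : K →ₐ[k] L)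
      [Fintype (torsC (k := k) B L N₀)] [IsMulCommutative (res (R := L) ψ).ker]
      (h : torsC (k := k) B L N₀),
      IsMean (res (R := L) ψ).ker (fun a : torsC (k := k) B L N₀ ↦
        (sig σ L a.1)⁻¹ * sig σ L (a.1 * h.1)) (ev (mapPt (bc B φ) y) h.1) := by
    intro L _ _ _ φ _ _ h
    obtain ⟨h₀, rfl⟩ := (torsMap_bijective g φ N₀ hN₀).2 h
    let e := Equiv.ofBijective _ (torsMap_bijective (B := B) g φ N₀ hN₀)
    have h1 := ((hs2 h₀).map (mapPt φ) (ker_map ψ φ)).reindex e.symm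
    have h2 : ev (mapPt (bc B φ) y) (torsMap φ N₀ h₀).1 = mapPt φ (s h₀) := by
      rw [← hevs]
      exact ev_bc φ y h₀.1
    rw [h2]
    have h3 : (fun a : torsC (k := k) B L N₀ ↦
        (sig σ L a.1)⁻¹ * sig σ L (a.1 * (torsMap φ N₀ h₀).1)) =
        fun i ↦ mapPt φ ((sig σ K (e.symm i).1)⁻¹ * sig σ K ((e.symm i) * h₀ : torsC (k := k) B K N₀).1) := by
      funext a
      have h4 : a.1 = mapPt φ (e.symm a).1 := (congrArg Subtype.val (e.apply_symm_apply a)).symm
      rw [map_mul, map_inv, mapPt_sig, mapPt_sig, Subgroup.coe_mul, map_mul, ← h4]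
      rfl
    rw [h3]
    exact h1
  intro a
  apply exists_of_loc
  intro L _ _ _ φ₁ φ₂
  have hcommL := UDiv.isMulCommutative_ker (R := L) ψ J hJ
  have := finite_torsC' g hM φ₁ N₀ hN₀
  let FL : Fintype (torsC (k := k) B L N₀) := Fintype.ofFinite _
  have key : mapPt (bc B φ₁) y = mapPt (bc B φ₂) y := by
    refine rigid ψ J hJ hU g hM hp N₀ hN₀ φ₁ _ _ (hy.bc φ₁) (hy.bc φ₂) (hyl.bc φ₁) (hyl.bc φ₂) ?_ ?_
    · intro u hu h1 N hN h hh
      have hw' := ker_map ψ φ₁ w hw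
      have h2 : ∀ h, ev (mapPt (bc B φ₁) y) (mapPt φ₁ h) =
          mapPt φ₁ w * mapPt φ₁ (ev x h) * (mapPt φ₁ w)⁻¹ := by
        intro h
        rw [ev_bc, hevy, map_mul, map_mul, map_inv]
      rw [h2]
      refine (comm_aux (res (R := L) ψ).ker hu hw').mpr ?_
      refine hstab L φ₁ u ?_ N hN h hh
      intro h hh
      have h3 := h1 h hh
      rw [h2] at h3
      exact (comm_aux (res (R := L) ψ).ker hu hw').mp h3
    · intro h hh
      exact (hmean L φ₁ ⟨h, hh⟩).unique (div_torsC (L := L) ψ J hJ hU g hM φ₁ N₀ hN₀)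
        (hmean L φ₂ ⟨h, hh⟩)
  exact DFunLike.congr_fun (congrArg WithConv.ofConv key) a

end lift

end data

end K203.CommRigid
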