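import Groth.Agent.SGA3.K203.FibHom
import Groth.Agent.S3694
import Groth.Agent.S0114
import Groth.Agent.Sga3C.ArtinBase
import Groth.Agent.Sga3C.FlatOfComp

/-!
# Open immersions; the largest open on which a homomorphism has a property is an open subgroup
-/

set_option autoImplicit false

universe u

open CategoryTheory MonoidalCategory CartesianMonoidalCategory MonObj GrpObj AlgebraicGeometry Limits

namespace K203.OpenLoc

open K203.Loc K203.BC K203.Transl K203.FibHom Groth.Agent.Sga3C Groth.Agent.Sga3C.HomogIrr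
  Groth.Agent.Sga3C.FlatPt Groth.Agent.Sga3C.SchemImage

variable {S : Scheme.{u}} {G H : Over S}

section OpenImm

variable (u : G ⟶ H) [UniversallyInjective u.left]

lemma openImm_fib_iff (s : S) : IsOpenImmersion (fib u s) ↔ Etale (fib u s) := by
  constructor
  · intro h; infer_instance
  · intro h
    have h1 : UniversallyInjective (fib u s) :=
      MorphismProperty.of_isPullback (isPullback_fib u s) ‹_›
    exact Groth.Agent.S3694.result (fib u s)

variable [Flat G.hom] [LocallyOfFinitePresentation G.hom] [LocallyOfFiniteType H.hom]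
  [GrpObj G] [GrpObj H] [IsMonHom u]

theorem openImm_main : IsOpen {s : S | IsOpenImmersion (fib u s)} ∧
    ∀ W : S.Opens, (W : Set S) ⊆ {s : S | IsOpenImmersion (fib u s)} →
      IsOpenImmersion ((G.hom ⁻¹ᵁ W).ι ≫ u.left) := by
  have h1 : {s : S | IsOpenImmersion (fib u s)} = {s : S | Etale (fib u s)} := by
    ext s
    exact openImm_fib_iff u s
  rw [h1]
  refine ⟨(etale_main u).1, fun W hW ↦ ?_⟩
  have h2 : Etale ((G.hom ⁻¹ᵁ W).ι ≫ u.left) := by
    rw [property_iff_forall (P := @Etale)]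
    intro x
    rw [near_comp_iff]
    exact (etale_fib_iff u (G.hom x.1)).mp (hW x.2) _ rfl
  have h3 : UniversallyInjective ((G.hom ⁻¹ᵁ W).ι ≫ u.left) :=
    MorphismProperty.comp_mem @UniversallyInjective _ _ inferInstance ‹_›
  exact Groth.Agent.S3694.result _

end OpenImm

/-- The formal part: an open `V` which is the set of points near which `u` has the property `P`. -/
theorem subgroup_main [GrpObj G] [GrpObj H] (u : G ⟶ H) [IsMonHom u] (P : MorphismProperty Scheme.{u})
    [IsZariskiLocalAtSource P]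
    (V : G.left.Opens) (hV : P (V.ι ≫ u.left)) (hmax : ∀ W : G.left.Opens, P (W.ι ≫ u.left) → W ≤ V)
    (hbc : ∀ z : (opn G V ⊗ G : Over S).left,
      Near P (opn G V ◁ u).left z ↔ Near P u.left ((snd (opn G V) G).left z))
    (hopen : UniversallyOpen (V.ι ≫ G.hom)) :
    IsOpen (G.hom.base '' (V : Set G.left)) ∧
    (∀ g ∈ V, ∀ p : ↥(𝟙_ (Over S)).left, (𝟙_ (Over S)).hom.base p = G.hom.base g →
      (η[G] : 𝟙_ (Over S) ⟶ G).left.base p ∈ V) ∧
    (∀ g ∈ V, (ι[G] : G ⟶ G).left.base g ∈ V) ∧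
    (∀ z : ↥(G ⊗ G).left, (fst G G).left.base z ∈ V → (snd G G).left.base z ∈ V →
      (μ[G] : G ⊗ G ⟶ G).left.base z ∈ V) := by
  have hiff (x : G.left) : x ∈ V ↔ Near P u.left x := by
    constructor
    · intro hx
      exact ⟨V, hx, hV⟩
    · rintro ⟨W, hx, hW⟩
      exact hmax W hW hx
  refine ⟨?_, subgroup_of V fun z hz ↦ ?_⟩
  · have h1 := (V.ι ≫ G.hom).isOpenMap.isOpen_range
    have h2 : Set.range (V.ι ≫ G.hom) = G.hom.base '' (V : Set G.left) := by
      rw [Scheme.Hom.comp_base, TopCat.coe_comp, Set.range_comp, Scheme.Opens.range_ι]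
    rw [← h2]
    exact h1
  · rw [hiff, hiff]
    exact iff_mul near_isoInv u V hbc z hz

section Descend

variable {X Y X' Y' : Scheme.{u}} {g' : X' ⟶ X} {f' : X' ⟶ Y'} {f : X ⟶ Y} {g : Y' ⟶ Y}

/-- The image of an open under a universally open base change morphism, with the surjection onto it. -/
lemma exists_image (h : IsPullback g' f' f g) [UniversallyOpen g] (W : X'.Opens) :
    ∃ (W' : X.Opens) (m : (W : Scheme.{u}) ⟶ (W' : Scheme.{u})), Surjective m ∧
      m ≫ W'.ι = W.ι ≫ g' ∧ ∀ x ∈ W, g' x ∈ W' := by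
  have hg' : UniversallyOpen g' := MorphismProperty.of_isPullback h.flip ‹_›
  let W' : X.Opens := ⟨g' '' W, g'.isOpenMap _ W.isOpen⟩
  have hr : Set.range (W.ι ≫ g') ⊆ Set.range W'.ι := by
    rw [Scheme.Opens.range_ι]
    rintro _ ⟨w, rfl⟩
    exact ⟨w.1, w.2, rfl⟩
  refine ⟨W', IsOpenImmersion.lift W'.ι (W.ι ≫ g') hr, ?_, IsOpenImmersion.lift_fac _ _ _, ?_⟩
  · refine ⟨fun y ↦ ?_⟩
    obtain ⟨w, hw, hwy⟩ := y.2
    refine ⟨⟨w, hw⟩, W'.ι.isOpenEmbedding.injective ?_⟩
    rw [← Scheme.Hom.comp_apply, IsOpenImmersion.lift_fac]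
    exact hwy
  · intro x hx
    exact ⟨x, hx, rfl⟩

/-- Universal openness near a point descends. -/
lemma near_univOpen_iff (h : IsPullback g' f' f g) [UniversallyOpen g] (x : X') :
    Near @UniversallyOpen f' x ↔ Near @UniversallyOpen f (g' x) := by
  refine ⟨?_, near_of_isPullback h x⟩
  rintro ⟨W, hx, hW⟩
  obtain ⟨W', m, hm, hmW, hW'⟩ := exists_image h W
  refine ⟨W', hW' x hx, ?_⟩
  have h1 : UniversallyOpen (m ≫ W'.ι ≫ f) := by
    rw [reassoc_of% hmW, h.w, ← Category.assoc]
    infer_instance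
  exact ArtinBase.universallyOpen_of_comp_surjective m (W'.ι ≫ f)

/-- If `f'` is flat and locally of finite presentation near `x` and so is the base change morphism,
then `f` is flat and locally of finite presentation near the image. -/
lemma near_flatFP (h : IsPullback g' f' f g) [Flat g] [LocallyOfFinitePresentation g] (x : X')
    (W : X'.Opens) (hx : x ∈ W) (hW1 : Flat (W.ι ≫ f')) (hW2 : LocallyOfFinitePresentation (W.ι ≫ f')) :
    ∃ W' : X.Opens, g' x ∈ W' ∧ Flat (W'.ι ≫ f) ∧ LocallyOfFinitePresentation (W'.ι ≫ f) := by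
  have hg1 : Flat g' := MorphismProperty.of_isPullback h.flip ‹_›
  have hg2 : LocallyOfFinitePresentation g' := MorphismProperty.of_isPullback h.flip ‹_›
  obtain ⟨W', m, hm, hmW, hW'⟩ := exists_image h W
  have hm1 : Flat (m ≫ W'.ι) := by rw [hmW]; infer_instance
  have hm2 : LocallyOfFinitePresentation (m ≫ W'.ι) := by rw [hmW]; infer_instance
  have hm3 : Flat m := flat_of_comp_mono m W'.ι
  have hm4 : LocallyOfFinitePresentation m :=
    Groth.Agent.Flat2E.Thick.locallyOfFinitePresentation_of_comp m W'.ι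
  have h0 : m ≫ W'.ι ≫ f = (W.ι ≫ f') ≫ g := by
    rw [reassoc_of% hmW, h.w, ← Category.assoc]
  have h1 : Flat (m ≫ W'.ι ≫ f) := by rw [h0]; infer_instance
  have h2 : LocallyOfFinitePresentation (m ≫ W'.ι ≫ f) := by rw [h0]; infer_instance
  exact ⟨W', hW' x hx, FlatOfComp.flat_of_comp m (W'.ι ≫ f), Groth.Agent.S0114.result m (W'.ι ≫ f)⟩

lemma ι_morphismRestrict {X X' : Scheme.{u}} (g' : X' ⟶ X) (W : X.Opens) (x : X') (hx : g' x ∈ W) :
    W.ι ((g' ∣_ W) ⟨x, hx⟩) = g' x := by
  rw [← Scheme.Hom.comp_apply, morphismRestrict_ι]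
  rfl

lemma smooth_descend (h : IsPullback g' f' f g) [Flat g] [LocallyOfFinitePresentation g] (x : X')
    (hx : Near @Smooth f' x) : Near @Smooth f (g' x) := by
  obtain ⟨W, hxW, hW⟩ := hx
  obtain ⟨W', hx', h1, h2⟩ := near_flatFP h x W hxW inferInstance inferInstance
  have h3 := (smooth_iff (isPullback_restrict h W') ⟨x, hx'⟩ (isFlatAt_of_flat _ _)).mp (by
    rw [near_comp_iff]; exact ⟨W, hxW, hW⟩)
  rwa [near_comp_iff, ι_morphismRestrict] at h3

lemma etale_descend (h : IsPullback g' f' f g) [Flat g] [LocallyOfFinitePresentation g] (x : X')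
    (hx : Near @Etale f' x) : Near @Etale f (g' x) := by
  obtain ⟨W, hxW, hW⟩ := hx
  obtain ⟨W', hx', h1, h2⟩ := near_flatFP h x W hxW inferInstance inferInstance
  have h3 := (etale_iff (isPullback_restrict h W') ⟨x, hx'⟩ (isFlatAt_of_flat _ _)).mp (by
    rw [near_comp_iff]; exact ⟨W, hxW, hW⟩)
  rwa [near_comp_iff, ι_morphismRestrict] at h3

end Descend

section Final

/-- Flat and locally of finite presentation. -/
abbrev flatFP : MorphismProperty Scheme.{u} := (@Flat : MorphismProperty Scheme.{u}) ⊓ @LocallyOfFinitePresentation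

variable [GrpObj G] [GrpObj H] (u : G ⟶ H) [IsMonHom u] (V : G.left.Opens)

/-- The conclusion: the image of `V` is open and `V` is an open subgroup over it. -/
def Concl (V : G.left.Opens) : Prop :=
    IsOpen (G.hom.base '' (V : Set G.left)) ∧
    (∀ g ∈ V, ∀ p : ↥(𝟙_ (Over S)).left, (𝟙_ (Over S)).hom.base p = G.hom.base g →
      (η[G] : 𝟙_ (Over S) ⟶ G).left.base p ∈ V) ∧
    (∀ g ∈ V, (ι[G] : G ⟶ G).left.base g ∈ V) ∧
    (∀ z : ↥(G ⊗ G).left, (fst G G).left.base z ∈ V → (snd G G).left.base z ∈ V →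
      (μ[G] : G ⊗ G ⟶ G).left.base z ∈ V)

theorem univOpen_subgroup (hG : UniversallyOpen G.hom ∨ UniversallyOpen H.hom)
    (hV : UniversallyOpen (V.ι ≫ u.left))
    (hmax : ∀ W : G.left.Opens, UniversallyOpen (W.ι ≫ u.left) → W ≤ V) : Concl V := by
  have hopen : UniversallyOpen (V.ι ≫ G.hom) := by
    rcases hG with h | h
    · infer_instance
    · rw [← Over.w u, ← Category.assoc]
      infer_instance
  refine subgroup_main u @UniversallyOpen V hV hmax (fun z ↦ ?_) hopen
  have h1 : UniversallyOpen (snd (opn G V) H).left := by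
    rw [Over.snd_left]
    have : UniversallyOpen (opn G V).hom := hopen
    infer_instance
  exact near_univOpen_iff (isPullback_whiskerLeft_left u (opn G V)).flip z

omit [GrpObj G] [GrpObj H] [IsMonHom u] in
lemma flatFP_hom (hfl : Flat G.hom ∨ Flat H.hom)
    (hfp : LocallyOfFinitePresentation G.hom ∨ LocallyOfFinitePresentation H.hom)
    (h1 : Flat (V.ι ≫ u.left)) (h2 : LocallyOfFinitePresentation (V.ι ≫ u.left)) :
    Flat (V.ι ≫ G.hom) ∧ LocallyOfFinitePresentation (V.ι ≫ G.hom) := by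
  constructor
  · rcases hfl with h | h
    · infer_instance
    · rw [← Over.w u, ← Category.assoc]
      infer_instance
  · rcases hfp with h | h
    · infer_instance
    · rw [← Over.w u, ← Category.assoc]
      infer_instance

theorem flatFP_subgroup (hfl : Flat G.hom ∨ Flat H.hom)
    (hfp : LocallyOfFinitePresentation G.hom ∨ LocallyOfFinitePresentation H.hom)
    (P : MorphismProperty Scheme.{u}) [IsZariskiLocalAtSource P] [P.IsStableUnderBaseChange]
    (hP : P ≤ flatFP)
    (hdesc : ∀ {X Y X' Y' : Scheme.{u}} {g' : X' ⟶ X} {f' : X' ⟶ Y'} {f : X ⟶ Y} {g : Y' ⟶ Y}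
      (_ : IsPullback g' f' f g) [Flat g] [LocallyOfFinitePresentation g] (x : X'),
      Near P f' x → Near P f (g' x))
    (hV : P (V.ι ≫ u.left)) (hmax : ∀ W : G.left.Opens, P (W.ι ≫ u.left) → W ≤ V) : Concl V := by
  obtain ⟨h1, h2⟩ := flatFP_hom u V hfl hfp (hP _ hV).1 (hP _ hV).2
  refine subgroup_main u P V hV hmax (fun z ↦ ?_) inferInstance
  have h3 : Flat (snd (opn G V) H).left := by
    rw [Over.snd_left]
    have : Flat (opn G V).hom := h1
    infer_instance
  have h4 : LocallyOfFinitePresentation (snd (opn G V) H).left := by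
    rw [Over.snd_left]
    have : LocallyOfFinitePresentation (opn G V).hom := h2
    infer_instance
  exact ⟨hdesc (isPullback_whiskerLeft_left u (opn G V)).flip z,
    near_of_isPullback (isPullback_whiskerLeft_left u (opn G V)).flip z⟩

lemma smooth_le : (@Smooth : MorphismProperty Scheme.{u}) ≤ flatFP := by
  intro X Y f (hf : Smooth f)
  exact ⟨inferInstance, inferInstance⟩

lemma etale_le : (@Etale : MorphismProperty Scheme.{u}) ≤ flatFP := by
  intro X Y f (hf : Etale f)
  exact ⟨inferInstance, inferInstance⟩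

theorem flat_smooth_etale_subgroup (hfl : Flat G.hom ∨ Flat H.hom)
    (hfp : LocallyOfFinitePresentation G.hom ∨ LocallyOfFinitePresentation H.hom)
    (P : MorphismProperty Scheme.{u})
    (hP : (∀ (X Y : Scheme.{u}) (f : X ⟶ Y), P f ↔ (Flat f ∧ LocallyOfFinitePresentation f)) ∨
      (∀ (X Y : Scheme.{u}) (f : X ⟶ Y), P f ↔ Smooth f) ∨
      (∀ (X Y : Scheme.{u}) (f : X ⟶ Y), P f ↔ Etale f))
    (hV : P (V.ι ≫ u.left)) (hmax : ∀ W : G.left.Opens, P (W.ι ≫ u.left) → W ≤ V) : Concl V := by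
  rcases hP with hP | hP | hP
  · obtain rfl : P = flatFP := by
      ext X Y f
      exact hP X Y f
    refine flatFP_subgroup u V hfl hfp _ le_rfl ?_ hV hmax
    intro X Y X' Y' g' f' f g h _ _ x hx
    obtain ⟨W, hxW, hW⟩ := hx
    obtain ⟨W', hx', h1, h2⟩ := near_flatFP h x W hxW hW.1 hW.2
    exact ⟨W', hx', h1, h2⟩
  · obtain rfl : P = @Smooth := by
      ext X Y f
      exact hP X Y f
    exact flatFP_subgroup u V hfl hfp _ smooth_le
      (fun h _ _ x hx ↦ smooth_descend h x hx) hV hmax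
  · obtain rfl : P = @Etale := by
      ext X Y f
      exact hP X Y f
    exact flatFP_subgroup u V hfl hfp _ etale_le
      (fun h _ _ x hx ↦ etale_descend h x hx) hV hmax

end Final

end K203.OpenLoc
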