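import Groth.Agent.SGA3.K203.QC
import Groth.Agent.S1326
import Groth.Agent.Ega4fib.H119.ProIndScheme
import Groth.Agent.Ega43.FPOfComp

/-!
# Constructibility of the union of the neutral components

* `exists_mul_eq'`: a point of `G⁰` is a product of two points of `G⁰` lying in any given open set
  containing the unit;
* `preimage_opens`: the trace of `G⁰` on an open subscheme containing the unit section is the set of section
  components;
* `constructible_opens`;
* `affine_main`: the case of an affine base such that the unit section factors through an affine open.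
-/

set_option autoImplicit false

universe u

open CategoryTheory MonoidalCategory CartesianMonoidalCategory MonObj GrpObj AlgebraicGeometry Limits

namespace K203.Constr

open Topology K203.Transl Groth.Agent.Sga3C Groth.Agent.Sga3C.HomogIrr Groth.Agent.Sga3.H778.NeutralPts
  Groth.Agent.Sga3.H820.NeutralOpen Groth.Agent.Ega4fib.H119.ProInd Groth.Agent.Ega4fib.H119.ProIndScheme

variable {S : Scheme.{u}} (G : Over S) [GrpObj G]

variable {G} in
/-- A point `x` of `G⁰` over `s` is a product of two points of `G⁰` lying in any given open set `V` which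
contains the unit of the fibre over `s`. -/
theorem exists_mul_eq' (x : G.left) (hx : x ∈ SGA3x.neutralSet G) (V : Set G.left) (hV : IsOpen V)
    (h1V : unitSec G (G.hom x) ∈ V) :
    ∃ w : (G ⊗ G : Over S).left, (fst G G).left w ∈ V ∧ (snd G G).left w ∈ V ∧
      (fst G G).left w ∈ SGA3x.neutralSet G ∧ (snd G G).left w ∈ SGA3x.neutralSet G ∧
      (fst G G * snd G G).left w = x := by
  let T := ptObj G x
  let xT : T ⟶ G := ptHom G x
  obtain ⟨t⟩ : Nonempty T.left := inferInstance
  let ρ : T ⊗ G ≅ T ⊗ G := (GrpBasic.invMulShear xT).symm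
  have hρ : ρ.hom ≫ snd T G = (fst T G ≫ xT) * (snd T G)⁻¹ := by
    simp [ρ, GrpBasic.invMulShear]
  let s1 : (T ⊗ G).left := (oneSec T G).left t
  let sn : (T ⊗ G).left := (lift (𝟙 T) xT).left t
  have hmor : lift (𝟙 T) xT ≫ ρ.hom = oneSec T G := by
    ext1
    · simp [ρ, GrpBasic.invMulShear, oneSec]
    · rw [Category.assoc, hρ, oneSec]
      simp [MonObj.comp_mul, GrpObj.comp_inv]
  have hs1 : ρ.hom.left sn = s1 := by
    rw [← comp_left_apply, hmor]
  have hirr : IsPreirreducible (connectedComponent s1) :=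
    isPreirreducible_component (G.left.residueField x) T.hom s1
  have hsn : sn ∈ connectedComponent s1 := by
    rw [lift_mem_iff, ptHom_apply]
    exact hx
  have hs1V : (snd T G).left s1 ∈ V := by
    have h2 : (snd T G).left s1 = unitSec G (G.hom x) := by
      change (snd T G).left ((oneSec T G).left t) = _
      rw [← comp_left_apply, oneSec, lift_snd, Hom.one_def, comp_left_apply]
      have h3 : (toUnit T).left t = G.hom x := by
        have h4 : (toUnit T).left = T.hom := by
          simpa using Over.w (toUnit T)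
        rw [h4]
        change (G.left.fromSpecResidueField x ≫ G.hom) t = _
        rw [Scheme.Hom.comp_apply, Scheme.fromSpecResidueField_apply]
      rw [h3]
      rfl
    rw [h2]
    exact h1V
  obtain ⟨z, hz, hz1, hz2⟩ := hirr ((snd T G).left ⁻¹' V) (ρ.hom.left ⁻¹' ((snd T G).left ⁻¹' V))
    (hV.preimage (snd T G).left.continuous)
    ((hV.preimage (snd T G).left.continuous).preimage ρ.hom.left.continuous)
    ⟨s1, mem_connectedComponent, hs1V⟩
    ⟨sn, hsn, by rw [Set.mem_preimage, hs1]; exact hs1V⟩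
  have hz3 : (snd T G).left z ∈ SGA3x.neutralSet G := by
    rw [← Set.mem_preimage, preimage_neutralSet_of_subsingleton T t]
    exact hz
  have hz4 : (ρ.hom ≫ snd T G).left z ∈ SGA3x.neutralSet G := by
    rw [hρ]
    refine mul_mem _ _ z ?_ (inv_mem _ z hz3)
    rw [comp_left_apply]
    have h5 : (fst T G).left z = t := Subsingleton.elim (α := T.left) _ _
    rw [h5, ptHom_apply]
    exact hx
  refine ⟨(lift (ρ.hom ≫ snd T G) (snd T G)).left z, ?_, ?_, ?_, ?_, ?_⟩
  · rw [← comp_left_apply, lift_fst, comp_left_apply]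
    exact hz2
  · rw [← comp_left_apply, lift_snd]
    exact hz1
  · rw [← comp_left_apply, lift_fst]
    exact hz4
  · rw [← comp_left_apply, lift_snd]
    exact hz3
  · rw [← comp_left_apply, comp_mul, lift_fst, lift_snd, hρ, inv_mul_cancel_right,
      comp_left_apply, ptHom_apply]

/-- The trace of `G⁰` on an open subscheme containing the unit section. -/
theorem preimage_opens (V : G.left.Opens) (s : S ⟶ V) (hs : s ≫ V.ι = unitSec G) :
    V.ι ⁻¹' SGA3x.neutralSet G = MoreMor.sectionComponents (V.ι ≫ G.hom) s := by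
  ext v
  rw [Set.mem_preimage, mem_neutralSet_iff]
  change _ ↔ v ∈ connectedComponentIn ((V.ι ≫ G.hom) ⁻¹' {(V.ι ≫ G.hom) v}) (s ((V.ι ≫ G.hom) v))
  rw [Scheme.Hom.comp_apply]
  set p : S := G.hom (V.ι v) with hp
  have hse : V.ι (s p) = e G p := by
    rw [← Scheme.Hom.comp_apply, hs]; rfl
  have hsp : s p ∈ (V.ι ≫ G.hom) ⁻¹' {p} := by
    change (V.ι ≫ G.hom) (s p) = p
    rw [Scheme.Hom.comp_apply, hse, hom_e]
  constructor
  · intro hv
    have h1 : IsPreirreducible (V.ι ⁻¹' neutral G p) :=
      (isPreirreducible_neutral G p).preimage V.ι.isOpenEmbedding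
    refine h1.isPreconnected.subset_connectedComponentIn (x := s p) ?_ ?_ hv
    · rw [Set.mem_preimage, hse]; exact e_mem G p
    · intro w hw
      exact hom_of_mem G hw
  · intro hv
    have h1 : _root_.IsPreconnected (V.ι '' connectedComponentIn ((V.ι ≫ G.hom) ⁻¹' {p}) (s p)) :=
      isPreconnected_connectedComponentIn.image _ V.ι.continuous.continuousOn
    refine h1.subset_connectedComponentIn (x := e G p) ?_ ?_ ⟨v, hv, rfl⟩
    · exact ⟨_, mem_connectedComponentIn hsp, hse⟩
    · rintro _ ⟨w, hw, rfl⟩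
      have := connectedComponentIn_subset _ _ hw
      exact this

/-- Near each point of the base there is an affine open through which the unit section factors. -/
lemma exists_affine (s : S) : ∃ W : S.Opens, s ∈ W ∧ IsAffineOpen W ∧
    ∃ V : (Red.bc W.ι G).left.Opens, IsAffineOpen V ∧ ∀ w, unitSec (Red.bc W.ι G) w ∈ V := by
  obtain ⟨S₁, hS₁, hsS₁, -⟩ := exists_isAffineOpen_mem_and_subset (x := s) (U := ⊤) trivial
  obtain ⟨V₁, hV₁, heV₁, hVS⟩ := exists_isAffineOpen_mem_and_subset (x := unitSec G s)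
    (U := G.hom ⁻¹ᵁ S₁) (by
      change G.hom (unitSec G s) ∈ S₁
      rw [hom_unitSec]; exact hsS₁)
  obtain ⟨f, hf, hsf⟩ := hS₁.exists_basicOpen_le (V := unitSec G ⁻¹ᵁ V₁) ⟨s, heV₁⟩ hsS₁
  let W := S.basicOpen f
  have hW : IsAffineOpen W := hS₁.basicOpen f
  let V₂ : G.left.Opens := V₁ ⊓ G.hom ⁻¹ᵁ W
  have hV₂ : IsAffineOpen V₂ := by
    have h1 : V₂ = G.left.basicOpen (G.hom.appLE S₁ V₁ hVS f) := by
      rw [Scheme.basicOpen_appLE]
    rw [h1]
    exact hV₁.basicOpen _
  have h2 : V₂ ≤ (pullback.fst G.hom W.ι).opensRange := by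
    intro v hv
    change v ∈ Set.range (pullback.fst G.hom W.ι)
    rw [Scheme.Pullback.range_fst, Scheme.Opens.range_ι]
    exact hv.2
  refine ⟨W, hsf, hW, pullback.fst G.hom W.ι ⁻¹ᵁ V₂, hV₂.preimage_of_isOpenImmersion _ h2, ?_⟩
  intro w
  change pullback.fst G.hom W.ι (unitSec (Red.bc W.ι G) w) ∈ V₂
  have h3 : pullback.fst G.hom W.ι (unitSec (Red.bc W.ι G) w) = unitSec G (W.ι w) := by
    rw [← Scheme.Hom.comp_apply, ← Scheme.Hom.comp_apply]
    exact congrArg (fun (φ : (W : Scheme.{u}) ⟶ G.left) ↦ φ w) (K203.Basic.unit_bc W.ι G)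
  rw [h3]
  refine ⟨hf w.2, ?_⟩
  change G.hom (unitSec G (W.ι w)) ∈ W
  rw [hom_unitSec]
  exact w.2

variable {G}

section affine

variable [IsAffine S] [LocallyOfFinitePresentation G.hom] {V : G.left.Opens}

lemma isConstructible_preimage (hV : IsAffineOpen V) (hVe : ∀ s, unitSec G s ∈ V) :
    IsConstructible (V.ι ⁻¹' SGA3x.neutralSet G) := by
  have hVa : IsAffine (V : Scheme.{u}) := hV
  let s : S ⟶ V := IsOpenImmersion.lift V.ι (unitSec G) (by
    rintro _ ⟨w, rfl⟩
    rw [Scheme.Opens.range_ι]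
    exact hVe w)
  have hs : s ≫ V.ι = unitSec G := IsOpenImmersion.lift_fac _ _ _
  rw [preimage_opens G V s hs]
  have h1 := Groth.Agent.S1326.result (V.ι ≫ G.hom) s (by
    rw [← Category.assoc, hs, unitSec_hom])
  exact h1.isConstructible

/-- Data: the part of `V × V` in `G⁰ × G⁰`. -/
def C (V : G.left.Opens) : Set (opn G V ⊗ opn G V : Over S).left :=
  (fst (opn G V) (opn G V)).left ⁻¹' (V.ι ⁻¹' SGA3x.neutralSet G) ∩
    (snd (opn G V) (opn G V)).left ⁻¹' (V.ι ⁻¹' SGA3x.neutralSet G)

variable (V) in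
/-- Multiplication on `V × V`. -/
noncomputable def m : (opn G V ⊗ opn G V : Over S) ⟶ G := (opnι G V ⊗ₘ opnι G V) ≫ μ[G]

omit [IsAffine S] [LocallyOfFinitePresentation G.hom] in
lemma m_mem {w : (opn G V ⊗ opn G V : Over S).left} (hw : w ∈ C V) :
    (m V).left w ∈ SGA3x.neutralSet G := by
  have h1 : m V = (fst _ _ ≫ opnι G V) * (snd _ _ ≫ opnι G V) := by
    rw [m, Hom.mul_def]
    congr 1
  rw [h1]
  refine mul_mem _ _ w ?_ ?_
  · rw [comp_left_apply]
    exact hw.1
  · rw [comp_left_apply]
    exact hw.2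

omit [IsAffine S] [LocallyOfFinitePresentation G.hom] in
lemma exists_m (hVe : ∀ s, unitSec G s ∈ V) {x : G.left} (hx : x ∈ SGA3x.neutralSet G) :
    ∃ w ∈ C V, (m V).left w = x := by
  obtain ⟨w, hw1, hw2, hw3, hw4, hw5⟩ := exists_mul_eq' x hx (V : Set G.left) V.isOpen (hVe _)
  obtain ⟨v, rfl⟩ := K203.OpenSub.exists_tensor_lift (opnι G V) w
    (by change _ ∈ Set.range V.ι; rw [Scheme.Opens.range_ι]; exact hw1)
    (by change _ ∈ Set.range V.ι; rw [Scheme.Opens.range_ι]; exact hw2)
  refine ⟨v, ⟨?_, ?_⟩, ?_⟩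
  · rw [← comp_left_apply, tensorHom_fst, comp_left_apply] at hw3
    exact hw3
  · rw [← comp_left_apply, tensorHom_snd, comp_left_apply] at hw4
    exact hw4
  · rw [m, comp_left_apply, ← hw5, MonObj.mul_eq_mul]

omit [IsAffine S] [LocallyOfFinitePresentation G.hom] in
lemma image_C (hVe : ∀ s, unitSec G s ∈ V) : (m V).left '' (C V) = SGA3x.neutralSet G := by
  apply subset_antisymm
  · rintro _ ⟨w, hw, rfl⟩
    exact m_mem hw
  · intro x hx
    exact exists_m hVe hx

omit [GrpObj G] [LocallyOfFinitePresentation G.hom] in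
lemma isAffine_tensor (hV : IsAffineOpen V) : IsAffine (opn G V ⊗ opn G V : Over S).left := by
  have : IsAffine (opn G V).left := hV
  exact inferInstanceAs (IsAffine ↑(pullback (opn G V).hom (opn G V).hom))

lemma isConstructible_C (hV : IsAffineOpen V) (hVe : ∀ s, unitSec G s ∈ V) :
    IsConstructible (C V) := by
  have h1 := isConstructible_preimage hV hVe
  exact IsConstructible.inter (Scheme.Hom.isConstructible_preimage
    (fst (opn G V) (opn G V)).left h1) (Scheme.Hom.isConstructible_preimage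
    (snd (opn G V) (opn G V)).left h1)

lemma lfp_m : LocallyOfFinitePresentation (m V).left := by
  have h0 : LocallyOfFinitePresentation (opn G V).hom :=
    inferInstanceAs (LocallyOfFinitePresentation (V.ι ≫ G.hom))
  have h1 : LocallyOfFinitePresentation (opn G V ⊗ opn G V : Over S).hom := by
    have h2 : (opn G V ⊗ opn G V : Over S).hom =
      pullback.fst (opn G V).hom (opn G V).hom ≫ (opn G V).hom := rfl
    rw [h2]
    infer_instance
  have h3 := Over.w (m V)
  rw [← h3] at h1
  have : LocallyOfFiniteType G.hom := inferInstance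
  exact Groth.Agent.Ega43.FPOfComp.locallyOfFinitePresentation_of_comp _ G.hom

theorem affine_lc (hV : IsAffineOpen V) (hVe : ∀ s, unitSec G s ∈ V) [QuasiSeparated G.hom] :
    IsLocallyConstructible (SGA3x.neutralSet G) := by
  have h1 := isAffine_tensor hV
  have h2 := lfp_m (G := G) (V := V)
  have h3 : QuasiSeparatedSpace G.left := quasiSeparatedSpace_of_quasiSeparated G.hom
  rw [← image_C hVe]
  exact Scheme.Hom.isLocallyConstructible_image _ (isConstructible_C hV hVe).isLocallyConstructible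

theorem affine_ind (hV : IsAffineOpen V) (hVe : ∀ s, unitSec G s ∈ V) :
    ProCons.IsIndConstructible (SGA3x.neutralSet G) := by
  have h1 := isAffine_tensor hV
  have h2 := lfp_m (G := G) (V := V)
  rw [isInd_iff_affineOpens]
  intro U
  have hU : IsAffine (U.1 : Scheme.{u}) := U.2
  change UnionC (U.1.ι ⁻¹' SGA3x.neutralSet G)
  rw [unionC_iff]
  intro x hx
  obtain ⟨w, hw, hwx⟩ := exists_m hVe hx
  obtain ⟨D, hD, hwD, hDU⟩ := exists_isAffineOpen_mem_and_subset (x := w)
    (U := (m V).left ⁻¹ᵁ U.1) (by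
      change (m V).left w ∈ U.1
      rw [hwx]; exact x.2)
  have hDa : IsAffine (D : Scheme.{u}) := hD
  let h : (D : Scheme.{u}) ⟶ U.1 := (m V).left.resLE U.1 D hDU
  have hh : h ≫ U.1.ι = D.ι ≫ (m V).left := Scheme.Hom.resLE_comp_ι _ _
  have h3 : LocallyOfFinitePresentation h := by
    have : LocallyOfFinitePresentation (h ≫ U.1.ι) := by
      rw [hh]; infer_instance
    exact Groth.Agent.Ega43.FPOfComp.locallyOfFinitePresentation_of_comp _ U.1.ι
  refine ⟨h '' (D.ι ⁻¹' C V), h.isConstructible_image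
    (D.ι.isConstructible_preimage (isConstructible_C hV hVe)), ?_, ?_⟩
  · rintro _ ⟨d, hd, rfl⟩
    rw [Set.mem_preimage, ← Scheme.Hom.comp_apply, hh, Scheme.Hom.comp_apply]
    exact m_mem hd
  · refine ⟨⟨w, hwD⟩, hw, ?_⟩
    apply U.1.ι.isOpenEmbedding.injective
    rw [← Scheme.Hom.comp_apply, hh, Scheme.Hom.comp_apply]
    exact hwx

end affine

lemma lc_of_charts {X : Type u} [TopologicalSpace X] {E : Set X}
    (h : ∀ x : X, ∃ (V : Type u) (_ : TopologicalSpace V) (j : V → X), IsOpenEmbedding j ∧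
      x ∈ Set.range j ∧ IsLocallyConstructible (j ⁻¹' E)) : IsLocallyConstructible E := by
  choose V hV j hj hx h using h
  let U : X → TopologicalSpace.Opens X := fun x ↦ ⟨Set.range (j x), (hj x).isOpen_range⟩
  have hU : TopologicalSpace.IsOpenCover U := by
    rw [TopologicalSpace.IsOpenCover, eq_top_iff]
    intro x _
    rw [TopologicalSpace.Opens.mem_iSup]
    exact ⟨x, hx x⟩
  refine IsLocallyConstructible.of_isOpenCover hU fun x ↦ ?_
  let e : V x ≃ₜ Set.range (j x) := (hj x).toIsEmbedding.toHomeomorph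
  have h1 := (h x).preimage_of_isOpenEmbedding e.symm.isOpenEmbedding
  refine (congrArg IsLocallyConstructible ?_).mpr h1
  ext z
  obtain ⟨z, rfl⟩ := e.surjective z
  simp only [Set.mem_preimage, Homeomorph.symm_apply_apply]
  rfl

variable (G)

lemma exists_chart (x : G.left) : ∃ (W : S.Opens), IsAffineOpen W ∧
    x ∈ Set.range (pullback.fst G.hom W.ι) ∧
    ∃ V : (Red.bc W.ι G).left.Opens, IsAffineOpen V ∧ ∀ w, unitSec (Red.bc W.ι G) w ∈ V := by
  obtain ⟨W, hxW, hW, V, hV, hVe⟩ := exists_affine G (G.hom x)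
  refine ⟨W, hW, ?_, V, hV, hVe⟩
  rw [Scheme.Pullback.range_fst, Scheme.Opens.range_ι]
  exact hxW

omit [GrpObj G] in
lemma lfp_bc [LocallyOfFinitePresentation G.hom] {S' : Scheme.{u}} (f : S' ⟶ S) :
    LocallyOfFinitePresentation (Red.bc f G).hom :=
  inferInstanceAs (LocallyOfFinitePresentation (pullback.snd G.hom f))

omit [GrpObj G] in
lemma qs_bc [QuasiSeparated G.hom] {S' : Scheme.{u}} (f : S' ⟶ S) :
    QuasiSeparated (Red.bc f G).hom :=
  inferInstanceAs (QuasiSeparated (pullback.snd G.hom f))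

variable [LocallyOfFinitePresentation G.hom]

theorem isIndConstructible_neutralSet : ProCons.IsIndConstructible (SGA3x.neutralSet G) := by
  apply isInd_of_charts
  intro x
  obtain ⟨W, hW, hx, V, hV, hVe⟩ := exists_chart G x
  have hWa : IsAffine (W : Scheme.{u}) := hW
  have hlfp := lfp_bc G W.ι
  refine ⟨_, inferInstance, pullback.fst G.hom W.ι, Scheme.Hom.isOpenEmbedding _, hx, ?_⟩
  have h1 := K203.Basic.neutralSet_bc W.ι G
  have h2 := affine_ind hV hVe
  rw [h1] at h2
  exact h2

theorem isLocallyConstructible_neutralSet [QuasiSeparated G.hom] :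
    IsLocallyConstructible (SGA3x.neutralSet G) := by
  apply lc_of_charts
  intro x
  obtain ⟨W, hW, hx, V, hV, hVe⟩ := exists_chart G x
  have hWa : IsAffine (W : Scheme.{u}) := hW
  have hlfp := lfp_bc G W.ι
  refine ⟨_, inferInstance, pullback.fst G.hom W.ι, Scheme.Hom.isOpenEmbedding _, hx, ?_⟩
  have h1 := K203.Basic.neutralSet_bc W.ι G
  have hqs := qs_bc G W.ι
  have h2 := affine_lc hV hVe
  rw [h1] at h2
  exact h2

theorem isConstructible_neutralSet [QuasiSeparated G.hom] [CompactSpace S]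
    [QuasiSeparatedSpace S] : IsConstructible (SGA3x.neutralSet G) := by
  have h1 := isLocallyConstructible_neutralSet G
  obtain ⟨U, hU, hGU⟩ := K203.QC.exists_isCompact_supset G
  have : QuasiSeparatedSpace G.left := quasiSeparatedSpace_of_quasiSeparated G.hom
  exact h1.isConstructible_of_subset_of_isCompact hGU hU

end K203.Constr
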