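import Groth.Agent.Agf.H624.GaCore

/-!
# Rational points of stable cosets of connected unipotent groups

`K` is an algebraically closed extension of a field `k` with `K ^ Aut (K/k) = k`, `B` a commutative Hopf
algebra of finite type over `k`, `N` a closed connected unipotent subgroup of `Pt K (K ⊗ B)` stable under
`Aut (K/k)`: every stable coset `g N` has a point fixed by `Aut (K/k)` (`exists_fixed`; for `k` infinite
see `Agf.H624.GaCore.unipCore`).
-/

set_option autoImplicit false

universe u v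

open TensorProduct WithConv HopfRep Polynomial
open Groth.Agent.Sga3B.RG Groth.Agent.Books

namespace K203.GalFix

open Groth.Agent.Agf
open Groth.Agent.Books.UnipExt
open Groth.Agent.Agf.H612 Groth.Agent.Agf.H612.GalSub Groth.Agent.Agf.H612.GalPts
open Groth.Agent.Agf.H624 GaDel GaPoly GaOne GaCon GaCore

section Value

variable {K : Type u} [Field K] [IsAlgClosed K] {A : Type u} [CommRing A] [HopfAlgebra K A]
  [Algebra.FiniteType K A]

/-- A non-zero additive function on a connected group is surjective. -/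
theorem exists_value {N : Subgroup (Pt K A)} (hcl : IsCl (N : Set (Pt K A)))
    (hconn : IsConn (N : Set (Pt K A))) {χ : A} (hadd : ∀ r ∈ N, ∀ s ∈ N, (r * s) χ = r χ + s χ)
    (hχ : χ ∉ vanIdeal (N : Set (Pt K A))) (c : K) : ∃ n ∈ N, n χ = c := by
  classical
  have hdom : IsDomain (A ⧸ vanIdeal (N : Set (Pt K A))) :=
    (Ideal.Quotient.isDomain_iff_prime _).2 hconn
  have hx := isPrim_qm (K := K) hcl hadd
  have hx0 : qm K N χ ≠ 0 := fun h => hχ ((qm_eq_zero_iff N _).1 h)
  obtain ⟨q, hq0, hq⟩ := GalRed.exists_basicOpen_image (aeval (R := K) (qm K N χ))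
    (aeval_injective hx hx0) (one_ne_zero (α := A ⧸ vanIdeal (N : Set (Pt K A))))
  have hval : ∀ c : K, q.eval c ≠ 0 → ∃ n ∈ N, n χ = c := by
    intro c hc
    obtain ⟨r, hr, -⟩ := hq (aeval c) (by rw [coe_aeval_eq_eval]; exact hc)
    refine ⟨Pt.map (qm K N) (toConv r), map_qm_mem N hcl _, ?_⟩
    have h1 := DFunLike.congr_fun hr X
    rw [AlgHom.comp_apply, aeval_X, aeval_X] at h1
    exact h1
  obtain ⟨d, hd⟩ : ∃ d : K, (q * q.comp (C c - X)).eval d ≠ 0 := by
    have h0 : q * q.comp (C c - X) ≠ 0 := by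
      refine mul_ne_zero hq0 fun h => ?_
      rw [Polynomial.comp_eq_zero_iff] at h
      rcases h with h | ⟨-, h⟩
      · exact hq0 h
      · have h1 := congrArg (fun p => p.coeff 1) h
        simp [Polynomial.coeff_C, Polynomial.coeff_X] at h1
    by_contra hcon
    push Not at hcon
    exact h0 (Polynomial.funext (fun x => by rw [hcon x, eval_zero]))
  rw [eval_mul, eval_comp, eval_sub, eval_C, eval_X] at hd
  obtain ⟨n, hn, hn1⟩ := hval d (left_ne_zero_of_mul hd)
  obtain ⟨m, hm, hm1⟩ := hval (c - d) (right_ne_zero_of_mul hd)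
  exact ⟨n * m, mul_mem hn hm, by rw [hadd n hn m hm, hn1, hm1]; ring⟩

end Value

section Main

variable {k K : Type u} [Field k] [Field K] [Algebra k K] [IsAlgClosed K]

/-- **Rational points in cosets of connected unipotent groups**. -/
theorem exists_fixed
    (hfix : ∀ c : K, (∀ σ : K ≃ₐ[k] K, σ c = c) → c ∈ (algebraMap k K).range)
    {B : Type u} [CommRing B] [HopfAlgebra k B] [Algebra.FiniteType k B]
    (N : Subgroup (Pt K (K ⊗[k] B))) (hcl : IsCl (N : Set (Pt K (K ⊗[k] B))))
    (hconn : IsConn (N : Set (Pt K (K ⊗[k] B)))) (hu : ∀ r ∈ N, IsUnip r)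
    (hst : ∀ (σ : K ≃ₐ[k] K), ∀ r ∈ N, gal σ r ∈ N) (g : Pt K (K ⊗[k] B))
    (hg : ∀ σ : K ≃ₐ[k] K, ∃ n ∈ N, gal σ g = g * n) :
    ∃ n ∈ N, ∀ σ : K ≃ₐ[k] K, gal σ (g * n) = g * n := by
  have hA : Algebra.FiniteType K (K ⊗[k] B) := inferInstance
  have hnoeth : IsNoetherianRing (K ⊗[k] B) := Algebra.FiniteType.isNoetherianRing K _
  have hwf : WellFoundedGT (Ideal (K ⊗[k] B)) := inferInstance
  induction hI : vanIdeal (N : Set (Pt K (K ⊗[k] B))) using hwf.wf.induction generalizing N g with
  | _ I ih =>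
    by_cases hne : N = ⊥
    · subst hne
      refine ⟨1, one_mem _, fun σ => ?_⟩
      obtain ⟨n, hn, hgn⟩ := hg σ
      rw [Subgroup.mem_bot] at hn
      rw [mul_one, hgn, hn, mul_one]
    · obtain ⟨b, hadd, hb, hker⟩ := exists_additive hfix hcl hconn hu hst hne
      obtain ⟨y, hy⟩ := exists_torsor_fun hfix hst hadd hb hg
      obtain ⟨n, hn, hnv⟩ := exists_value hcl hconn hadd hb (0 - g ((1 : K) ⊗ₜ[k] y))
      have hgc : (g * n) ((1 : K) ⊗ₜ[k] y) = algebraMap k K 0 := by
        rw [hy n hn, hnv, map_zero]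
        ring
      -- the kernel
      let N' : Subgroup (Pt K (K ⊗[k] B)) :=
        { carrier := {r | r ∈ N ∧ r ((1 : K) ⊗ₜ[k] b) = 0}
          one_mem' := by
            refine ⟨one_mem _, ?_⟩
            have := hadd 1 (one_mem _) 1 (one_mem _)
            rw [mul_one] at this
            exact left_eq_add.1 this
          mul_mem' := by
            rintro r s ⟨hr, hr0⟩ ⟨hs, hs0⟩
            refine ⟨mul_mem hr hs, ?_⟩
            rw [hadd r hr s hs, hr0, hs0, add_zero]
          inv_mem' := by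
            rintro r ⟨hr, hr0⟩
            refine ⟨inv_mem hr, ?_⟩
            have h1 := hadd r hr r⁻¹ (inv_mem hr)
            have h2 := hadd 1 (one_mem _) 1 (one_mem _)
            rw [mul_one] at h2
            rw [mul_inv_cancel, left_eq_add.1 h2, hr0, zero_add] at h1
            exact h1.symm }
      have hN'N : N' ≤ N := fun r hr => hr.1
      have hcl' : IsCl (N' : Set (Pt K (K ⊗[k] B))) :=
        hcl.inter (isCl_setOf_apply_eq_zero ((1 : K) ⊗ₜ[k] b))
      have hlt : I < vanIdeal (N' : Set (Pt K (K ⊗[k] B))) := by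
        rw [← hI]
        refine lt_of_le_of_ne (vanIdeal_anti hN'N) ?_
        intro heq
        apply hb
        rw [heq]
        exact fun r hr => hr.2
      have hadd' : ∀ r ∈ N, ∀ s ∈ N, (g * r * s) ((1 : K) ⊗ₜ[k] y) =
          (g * r) ((1 : K) ⊗ₜ[k] y) + s ((1 : K) ⊗ₜ[k] b) := by
        intro r hr s hs
        rw [mul_assoc, hy _ (mul_mem hr hs), hy r hr, hadd r hr s hs]
        ring
      obtain ⟨n', hn', hfixed⟩ := ih _ hlt N' hcl' hker (fun r hr => hu r hr.1)
        (fun σ r hr => ⟨hst σ r hr.1, by rw [gal_one_tmul, hr.2, map_zero]⟩) (g * n) (by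
          intro σ
          obtain ⟨m, hm, hgm⟩ := hg σ
          have hm' : n⁻¹ * m * gal σ n ∈ N := mul_mem (mul_mem (inv_mem hn) hm) (hst σ n hn)
          have h1 : gal σ (g * n) = g * n * (n⁻¹ * m * gal σ n) := by
            rw [map_mul, hgm]
            group
          refine ⟨n⁻¹ * m * gal σ n, ⟨hm', ?_⟩, h1⟩
          have h2 : (gal σ (g * n)) ((1 : K) ⊗ₜ[k] y) = algebraMap k K 0 := by
            rw [gal_one_tmul, hgc, σ.commutes]
          rw [h1, hadd' n hn _ hm', hgc] at h2
          exact left_eq_add.1 h2.symm) rfl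
      refine ⟨n * n', mul_mem hn (hN'N hn'), ?_⟩
      intro σ
      rw [← mul_assoc]
      exact hfixed σ

end Main

end K203.GalFix
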