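import Groth.Agent.Agf.H623.SurjBorel
import Groth.Agent.SGA3.K203.GalFix
import Groth.Agent.S7957
import Groth.Agent.S7986
import Groth.Agent.Redsub.H674.UnipPts

/-!
# The closed derived series of a unipotent group of points

* `pow_surj`, `pow_inj`: `x ↦ x ^ n` is bijective on closed unipotent subgroups (`n ≠ 0` in `K`);
* `conj_mem_cds'`, `normal_cds`, `gal_mem_cds`: normality and stability of the closed derived series.
-/

set_option autoImplicit false

universe u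

open TensorProduct WithConv HopfRep
open Groth.Agent.Sga3B.RG Groth.Agent.Books
open scoped commutatorElement

namespace K203.ClSer

open Groth.Agent
open Groth.Agent.Agf.H612.GalPts Groth.Agent.Agf.H623.SurjBorel Groth.Agent.Agf.H624.GaCore

section Pow

variable {K : Type u} [Field K] [IsAlgClosed K] {A : Type u} [CommRing A] [HopfAlgebra K A]
  [Algebra.FiniteType K A] {N : Subgroup (Pt K A)} (hcl : IsCl (N : Set (Pt K A)))
  (hu : ∀ g ∈ N, IsUnip g) {n : ℕ} (hn : (n : K) ≠ 0)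

include hcl hu hn in
lemma bij : Function.Bijective fun g : Pt K (A ⧸ vanIdeal (N : Set (Pt K A))) => g ^ n := by
  apply Groth.Agent.S7957.result K _
    (Redsub.H674.UnipPts.isUnipotent_of_forall_isUnip (isUnip_quot hcl hu)) n
  intro h
  exact hn ((ringChar.spec K n).2 h)

include hcl hu hn in
theorem pow_surj : ∀ x ∈ N, ∃ y ∈ N, y ^ n = x := by
  intro x hx
  obtain ⟨x', rfl⟩ := exists_map_qm N hcl hx
  obtain ⟨y', hy'⟩ := (bij hcl hu hn).2 x'
  refine ⟨Pt.map (qm K N) y', map_qm_mem N hcl y', ?_⟩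
  rw [← map_pow]
  exact congrArg _ hy'

omit [IsAlgClosed K] [Algebra.FiniteType K A] in
lemma map_qm_injective : Function.Injective (Pt.map (qm K N)) := by
  intro x y h
  apply Pt.ext'
  intro a
  obtain ⟨a, rfl⟩ := qm_surjective N a
  have h1 := congrArg (fun g : Pt K A ↦ g a) h
  exact h1

include hcl hu hn in
theorem pow_inj : ∀ x ∈ N, ∀ y ∈ N, x ^ n = y ^ n → x = y := by
  intro x hx y hy h
  obtain ⟨x', rfl⟩ := exists_map_qm N hcl hx
  obtain ⟨y', rfl⟩ := exists_map_qm N hcl hy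
  rw [← map_pow, ← map_pow] at h
  rw [(bij hcl hu hn).1 (map_qm_injective h)]

include hcl hu hn in
theorem mem_of_pow_mem {N' : Subgroup (Pt K A)} (hcl' : IsCl (N' : Set (Pt K A))) (hle : N' ≤ N)
    {x : Pt K A} (hx : x ∈ N) (hxn : x ^ n ∈ N') : x ∈ N' := by
  obtain ⟨y, hy, hyx⟩ := pow_surj hcl' (fun g hg ↦ hu g (hle hg)) hn _ hxn
  rwa [← pow_inj hcl hu hn y (hle hy) x hx hyx]

include hcl hu in
theorem isSolvable : Group.IsSolvable N := by
  have h1 : Group.IsNilpotent (Pt K (A ⧸ vanIdeal (N : Set (Pt K A)))) :=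
    Groth.Agent.S7986.result K _
      (Redsub.H674.UnipPts.isUnipotent_of_forall_isUnip (isUnip_quot hcl hu))
  have h2 : Group.IsSolvable (Pt K (A ⧸ vanIdeal (N : Set (Pt K A)))) := inferInstance
  let φ : Pt K (A ⧸ vanIdeal (N : Set (Pt K A))) →* N :=
    (Pt.map (qm K N)).codRestrict N (map_qm_mem N hcl)
  refine Group.isSolvable_of_surjective (f := φ) ?_
  rintro ⟨x, hx⟩
  obtain ⟨x', rfl⟩ := exists_map_qm N hcl hx
  exact ⟨x', rfl⟩

end Pow

section Series

variable {K : Type u} [Field K] {C : Type u} [CommRing C] [HopfAlgebra K C]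

/-- The closed derived series of `S` is normalised by the normaliser of `S`. -/
lemma conj_mem_cds' {S : Subgroup (Pt K C)} (n : ℕ) {g : Pt K C} (hg : ∀ x ∈ S, g * x * g⁻¹ ∈ S)
    {x : Pt K C} (hx : x ∈ cds S n) : g * x * g⁻¹ ∈ cds S n := by
  induction n generalizing x with
  | zero => exact hg x hx
  | succ n ih => exact conj_mem_clSub (fun y hy => conj_mem_commutator (fun z hz => ih hz) hy) hx

lemma normal_cds {S : Subgroup (Pt K C)} (hS : S.Normal) (n : ℕ) : (cds S n).Normal :=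
  ⟨fun x hx g ↦ conj_mem_cds' n (fun y hy ↦ hS.conj_mem y hy g) hx⟩

lemma comm_mem_cds {S : Subgroup (Pt K C)} (n : ℕ) {x y : Pt K C}
    (hx : x ∈ cds S n) (hy : y ∈ cds S n) : (y * x)⁻¹ * (x * y) ∈ cds S (n + 1) := by
  have h1 : (y * x)⁻¹ * (x * y) = ⁅x⁻¹, y⁻¹⁆ := by
    rw [commutatorElement_def]
    group
  rw [h1]
  exact le_clSub _ (Subgroup.commutator_mem_commutator ((cds S n).inv_mem hx) ((cds S n).inv_mem hy))

end Series

section Gal

variable {k K : Type u} [Field k] [Field K] [Algebra k K]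
variable {B : Type u} [CommRing B] [HopfAlgebra k B]

lemma gal_mem_clSub {H : Subgroup (Pt K (K ⊗[k] B))} (σ : K ≃ₐ[k] K)
    (h : ∀ g ∈ H, gal σ g ∈ H) {g : Pt K (K ⊗[k] B)} (hg : g ∈ clSub H) :
    gal σ g ∈ clSub H := by
  have h1 : IsCl (gal σ.symm '' (clSub H : Set (Pt K (K ⊗[k] B)))) := isCl_gal σ.symm (isCl_clSub H)
  have h2 : (H : Set (Pt K (K ⊗[k] B))) ⊆ gal σ.symm '' (clSub H : Set (Pt K (K ⊗[k] B))) := by
    intro x hx
    exact ⟨gal σ x, le_clSub H (h x hx), gal_symm_gal σ x⟩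
  obtain ⟨y, hy, hyg⟩ := h1 ((zeros_anti (vanIdeal_anti h2)) hg)
  rw [← hyg, gal_gal_symm]
  exact hy

lemma gal_mem_commutator {H : Subgroup (Pt K (K ⊗[k] B))} (σ : K ≃ₐ[k] K)
    (h : ∀ g ∈ H, gal σ g ∈ H) {g : Pt K (K ⊗[k] B)} (hg : g ∈ ⁅H, H⁆) : gal σ g ∈ ⁅H, H⁆ := by
  have h1 : (⁅H, H⁆).map (gal σ).toMonoidHom ≤ ⁅H, H⁆ := by
    rw [Subgroup.map_commutator]
    have h2 : H.map (gal σ).toMonoidHom ≤ H := by
      rintro _ ⟨y, hy, rfl⟩
      exact h y hy
    exact Subgroup.commutator_mono h2 h2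
  exact h1 ⟨g, hg, rfl⟩

lemma gal_mem_cds {S : Subgroup (Pt K (K ⊗[k] B))} (σ : K ≃ₐ[k] K) (h : ∀ g ∈ S, gal σ g ∈ S)
    (n : ℕ) {g : Pt K (K ⊗[k] B)} (hg : g ∈ cds S n) : gal σ g ∈ cds S n := by
  induction n generalizing g with
  | zero => exact h g hg
  | succ n ih => exact gal_mem_clSub σ (fun x hx => gal_mem_commutator σ (fun z hz => ih hz) hx) hg

end Gal

end K203.ClSer
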