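import Groth.Agent.SGA3.K203.Mean

/-!
# Conjugacy of homomorphisms of finite groups along a series of normal subgroups

`E` a group with operators, `N` a decreasing series of stable normal subgroups with abelian quotients
which are uniquely divisible by the order of the finite group `Γ`; two equivariant homomorphisms
`f, f' : Γ → E` which agree modulo `N 0` are conjugate modulo `N n` by a fixed element of `N 0`.
-/

set_option autoImplicit false

namespace K203.SerConj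

open K203.Mean

variable {E : Type*} [Group E]

theorem step {N N' : Subgroup E} [N.Normal] [N'.Normal]
    (hcomm : ∀ x ∈ N, ∀ y ∈ N, (y * x)⁻¹ * (x * y) ∈ N') {Γ : Type*} [Group Γ] [Fintype Γ]
    (f f' : Γ →* E) (h : ∀ g, f' g * (f g)⁻¹ ∈ N)
    (hs : ∀ x ∈ N, ∃ y ∈ N, y ^ Fintype.card Γ = x)
    (hi : ∀ x ∈ N, x ^ Fintype.card Γ ∈ N' → x ∈ N')
    {ι : Type*} (a : ι → E →* E) (c : ι → Γ ≃* Γ) (ha : ∀ i g, a i (f g) = f (c i g))
    (ha' : ∀ i g, a i (f' g) = f' (c i g)) (haN : ∀ i, ∀ x ∈ N, a i x ∈ N)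
    (haN' : ∀ i, ∀ x ∈ N', a i x ∈ N') :
    ∃ m ∈ N, (∀ i, m⁻¹ * a i m ∈ N') ∧
      ∀ v, m⁻¹ * v ∈ N' → ∀ g, f' g * (v * f g * v⁻¹)⁻¹ ∈ N' := by
  let q : E →* E ⧸ N' := QuotientGroup.mk' N'
  have hq : ∀ x, q x = 1 ↔ x ∈ N' := fun x ↦ QuotientGroup.eq_one_iff x
  have hq2 : ∀ x y, q x = q y ↔ x⁻¹ * y ∈ N' := fun x y ↦ QuotientGroup.eq
  let P : Subgroup (E ⧸ N') := N.map q
  have hPn : P.Normal := Subgroup.Normal.map inferInstance q (QuotientGroup.mk'_surjective N')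
  have hPc : IsMulCommutative P := by
    refine ⟨⟨?_⟩⟩
    rintro ⟨_, x, hx, rfl⟩ ⟨_, y, hy, rfl⟩
    apply Subtype.ext
    change q x * q y = q y * q x
    rw [← map_mul, ← map_mul, eq_comm, hq2]
    exact hcomm x hx y hy
  have hdiv : Div P (Fintype.card Γ) := by
    refine ⟨?_, ?_⟩
    · rintro _ ⟨x, hx, rfl⟩
      obtain ⟨y, hy, rfl⟩ := hs x hx
      exact ⟨q y, ⟨y, hy, rfl⟩, (map_pow q y _).symm⟩
    · rintro _ ⟨x, hx, rfl⟩ h1
      rw [← map_pow, hq] at h1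
      exact (hq x).2 (hi x hx h1)
  obtain ⟨w, ⟨m, hm, rfl⟩, hmean, hconj⟩ := exists_conj hdiv (q.comp f) (q.comp f') (by
    intro g
    exact ⟨f' g * (f g)⁻¹, h g, by rw [map_mul, map_inv]; rfl⟩)
  refine ⟨m, hm, fun i ↦ ?_, fun v hv g ↦ ?_⟩
  · rw [← hq2]
    let A : E ⧸ N' →* E ⧸ N' := QuotientGroup.map N' N' (a i) (haN' i)
    have hA : ∀ x, A (q x) = q (a i x) := fun x ↦ rfl
    have h1 := (hmean.map A (N' := P) (by
      rintro _ ⟨x, hx, rfl⟩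
      exact ⟨a i x, haN i x hx, rfl⟩)).reindex (c i).symm.toEquiv
    have h2 : (fun j ↦ A ((q.comp f') ((c i).symm.toEquiv j) * ((q.comp f) ((c i).symm.toEquiv j))⁻¹)) =
        fun h ↦ (q.comp f') h * ((q.comp f) h)⁻¹ := by
      funext j
      rw [map_mul, map_inv]
      change q (a i (f' ((c i).symm j))) * (q (a i (f ((c i).symm j))))⁻¹ = q (f' j) * (q (f j))⁻¹
      rw [ha, ha', MulEquiv.apply_symm_apply]
    rw [h2] at h1
    exact (hmean.unique hdiv h1)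
  · have h1 : q m = q v := (hq2 m v).2 hv
    have h2 := hconj g
    change q (f' g) * q m = q m * q (f g) at h2
    rw [← hq, map_mul, map_inv, map_mul, map_mul, map_inv, ← h1, ← h2]
    group

/-- **Conjugacy along a series.** -/
theorem exists_conj_series (N : ℕ → Subgroup E) (hN : ∀ i, (N i).Normal)
    (hle : ∀ i, N (i + 1) ≤ N i)
    (hcomm : ∀ i, ∀ x ∈ N i, ∀ y ∈ N i, (y * x)⁻¹ * (x * y) ∈ N (i + 1))
    {Γ : Type*} [Group Γ] [Fintype Γ] (f f' : Γ →* E) (h : ∀ g, f' g * (f g)⁻¹ ∈ N 0)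
    (hs : ∀ i, ∀ x ∈ N i, ∃ y ∈ N i, y ^ Fintype.card Γ = x)
    (hi : ∀ i, ∀ x ∈ N i, x ^ Fintype.card Γ ∈ N (i + 1) → x ∈ N (i + 1))
    {ι : Type*} (a : ι → E →* E) (c : ι → Γ ≃* Γ) (ha : ∀ i g, a i (f g) = f (c i g))
    (ha' : ∀ i g, a i (f' g) = f' (c i g)) (haN : ∀ i j, ∀ x ∈ N j, a i x ∈ N j)
    (hfix : ∀ j, ∀ m ∈ N j, (∀ i, m⁻¹ * a i m ∈ N (j + 1)) →
      ∃ v, m⁻¹ * v ∈ N (j + 1) ∧ ∀ i, a i v = v) (n : ℕ) :
    ∃ u ∈ N 0, (∀ i, a i u = u) ∧ ∀ g, f' g * (u * f g * u⁻¹)⁻¹ ∈ N n := by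
  have hle0 : ∀ j, N j ≤ N 0 := by
    intro j
    induction j with
    | zero => exact le_rfl
    | succ j ih => exact (hle j).trans ih
  induction n with
  | zero => exact ⟨1, one_mem _, fun i ↦ map_one _, fun g ↦ by simpa using h g⟩
  | succ n ih =>
    obtain ⟨u, hu, hua, hun⟩ := ih
    have := hN n
    have := hN (n + 1)
    let F : Γ →* E := (MulAut.conj u).toMonoidHom.comp f
    have hF : ∀ g, F g = u * f g * u⁻¹ := fun g ↦ rfl
    obtain ⟨m, hm, hma, hmv⟩ := step (hcomm n) F f' (fun g ↦ by rw [hF]; exact hun g) (hs n) (hi n)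
      a c (fun i g ↦ by rw [hF, map_mul, map_mul, map_inv, hua, ha, hF]) ha' (fun i ↦ haN i n)
      (fun i ↦ haN i (n + 1))
    obtain ⟨v, hv, hva⟩ := hfix n m hm hma
    have hvN : v ∈ N 0 := by
      have h1 := (N 0).mul_mem (hle0 n hm) (hle0 (n + 1) hv)
      rwa [mul_inv_cancel_left] at h1
    refine ⟨v * u, (N 0).mul_mem hvN hu, fun i ↦ by rw [map_mul, hua, hva], fun g ↦ ?_⟩
    have h1 := hmv v hv g
    rw [hF] at h1
    have h2 : v * u * f g * (v * u)⁻¹ = v * (u * f g * u⁻¹) * v⁻¹ := by group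
    rw [h2]
    exact h1

end K203.SerConj
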