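import Groth.Agent.SGA3.K203.CommConj
import Groth.Agent.SGA3.K203.SerConj
import Groth.Agent.SGA3.K203.ClSer
import Groth.Agent.Sga3.H814.CentralK
import Groth.Agent.Books.HopfConn
import Groth.Agent.Sga3B.RG.BrRed

/-!
# Conjugacy of liftings of smooth groups of multiplicative type, connected unipotent kernel, perfect field
-/

set_option autoImplicit false
set_option linter.unusedSectionVars false

universe u

open TensorProduct WithConv

namespace K203.PerfConj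

open K203.Pts K203.TorsPts K203.HomPt K203.Mean K203.CommLift K203.CommRigid K203.CommConj
  Groth.Agent.Books.DynBasic Groth.Agent.Sga3A.MTBasis
open Groth.Agent.Sga3B.RG
open Groth.Agent.Agf.H612.GalPts Groth.Agent.Agf.H612.GalRed
open Groth.Agent.Agf.H612.GalSub Groth.Agent.Agf.H623.SurjBorel
open Groth.Agent

variable {k : Type u} [Field k] {A : Type u} [CommRing A] [HopfAlgebra k A]
  {B : Type u} [CommRing B] [HopfAlgebra k B]
  {K : Type u} [Field K] [Algebra k K]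

/-- `K`-points as points of `K ⊗ A`. -/
noncomputable abbrev rr : Pt K (K ⊗[k] A) ≃* WithConv (A →ₐ[k] K) :=
  Groth.Agent.Sga3B.Par.CochBC.res k K A K

lemma rr_apply (g : Pt K (K ⊗[k] A)) (a : A) : (rr g).ofConv a = g (1 ⊗ₜ a) := rfl

lemma rr_gal (σ : K ≃ₐ[k] K) (g : Pt K (K ⊗[k] A)) :
    rr (gal σ g) = mapPt (σ : K →ₐ[k] K) (rr g) := by
  apply Pts.ext
  intro a
  exact gal_one_tmul σ g a

section ker

variable (ψ : B →ₐc[k] A) (J : Ideal A) [J.IsHopfIdeal k] (hJ : J = kerIdeal ψ)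

variable (K) in
/-- The kernel. -/
noncomputable def kerPt : Subgroup (Pt K (K ⊗[k] A)) := (res (R := K) ψ).ker.comap rr.toMonoidHom

instance : (kerPt K ψ).Normal := Subgroup.Normal.comap inferInstance _

lemma mem_kerPt {g : Pt K (K ⊗[k] A)} : g ∈ kerPt K ψ ↔ rr g ∈ (res (R := K) ψ).ker := Iff.rfl

include hJ in
lemma mem_kerPt_iff {g : Pt K (K ⊗[k] A)} : g ∈ kerPt K ψ ↔ ∀ a ∈ J, g (1 ⊗ₜ a) = 0 := by
  rw [mem_kerPt, MonoidHom.mem_ker, ← kill_iff, ← hJ]
  rfl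

include hJ in
lemma isCl_kerPt : IsCl (kerPt K ψ : Set (Pt K (K ⊗[k] A))) := by
  intro g hg
  rw [SetLike.mem_coe, mem_kerPt_iff ψ J hJ]
  intro a ha
  apply hg
  intro h hh
  exact (mem_kerPt_iff ψ J hJ).mp hh a ha

include hJ in
lemma gal_mem_kerPt (σ : K ≃ₐ[k] K) {g : Pt K (K ⊗[k] A)} (hg : g ∈ kerPt K ψ) :
    gal σ g ∈ kerPt K ψ := by
  rw [mem_kerPt_iff ψ J hJ] at hg ⊢
  intro a ha
  rw [gal_one_tmul, hg a ha, map_zero]

/-- the projection -/
noncomputable abbrev mkH : A →ₐc[k] A ⧸ J := Bialgebra.Quotient.mkBialgHom (R := k) J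

include hJ in
lemma kerPt_eq : kerPt K ψ = (⊤ : Subgroup (Pt K (K ⊗[k] (A ⧸ J)))).map
    (Pt.map (bcHom K (mkH (k := k) J))) := by
  ext g
  rw [mem_kerPt, UDiv.mem_ker_iff ψ J hJ]
  constructor
  · rintro ⟨y, hy⟩
    refine ⟨rr.symm y, trivial, ?_⟩
    apply (rr (k := k) (K := K) (A := A)).injective
    rw [← hy]
    apply Pts.ext
    intro a
    change rr.symm y (1 ⊗ₜ (mkH (k := k) J a)) = y.ofConv (mkH (k := k) J a)
    change (rr (rr.symm y)).ofConv (mkH (k := k) J a) = _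
    rw [MulEquiv.apply_symm_apply]
  · rintro ⟨y, -, rfl⟩
    refine ⟨rr y, ?_⟩
    apply Pts.ext
    intro a
    rfl

include hJ in
lemma isUnip_of_mem_kerPt [IsAlgClosed K] [Algebra.FiniteType k A] (hU : HopfRep.IsUnipotent k (A ⧸ J))
    {g : Pt K (K ⊗[k] A)} (hg : g ∈ kerPt K ψ) : IsUnip g := by
  rw [kerPt_eq ψ J hJ] at hg
  obtain ⟨y, -, rfl⟩ := hg
  exact BrRed.isUnip_map _ (Sga3.H814.CentralK.isUnip_of_isUnipotent hU y)

include hJ in
lemma isConn_kerPt [IsAlgClosed K] [Algebra.IsAlgebraic k K] [Algebra.FiniteType k A]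
    (hid : ∀ e : A ⧸ J, IsIdempotentElem e → e = 0 ∨ e = 1) :
    IsConn (kerPt K ψ : Set (Pt K (K ⊗[k] A))) := by
  rw [kerPt_eq ψ J hJ]
  apply Agf.H623.ImgCl.isConn_map
  have h1 : (nilradical (K ⊗[k] (A ⧸ J))).IsPrime := by
    apply Books.DynConn.isPrime_nilradical_of_isAlgClosed (k := K)
    intro e he
    let c : K ⊗[k] (A ⧸ J) ≃ₐ[k] (A ⧸ J) ⊗[k] K := Algebra.TensorProduct.comm k K (A ⧸ J)
    have h1 : IsIdempotentElem (c e) := he.map c
    rcases Groth.Agent.Books.HopfConn.idempotent_baseChange (K := K)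
      (Bialgebra.counitAlgHom k (A ⧸ J)) hid (c e) h1 with h | h
    · left
      apply c.injective
      rw [h, map_zero]
    · right
      apply c.injective
      rw [h, map_one]
  have h2 : vanIdeal ((⊤ : Subgroup (Pt K (K ⊗[k] (A ⧸ J)))) : Set (Pt K (K ⊗[k] (A ⧸ J)))) =
      nilradical (K ⊗[k] (A ⧸ J)) := by
    have h3 : ((⊤ : Subgroup (Pt K (K ⊗[k] (A ⧸ J)))) : Set (Pt K (K ⊗[k] (A ⧸ J)))) =
        zeros (⊥ : Ideal (K ⊗[k] (A ⧸ J))) := by
      rw [Subgroup.coe_top, eq_comm, Set.eq_univ_iff_forall]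
      intro g a ha
      rw [Ideal.mem_bot] at ha
      rw [ha]
      exact map_zero g.ofConv
    rw [h3, vanIdeal_zeros]
    rfl
  rw [IsConn, h2]
  exact h1

end ker

section main

variable [Algebra.FiniteType k A] [Coalgebra.IsCocomm k B] [IsAlgClosed K] [Algebra.IsAlgebraic k K]
  (hfix : ∀ c : K, (∀ σ : K ≃ₐ[k] K, σ c = c) → c ∈ (algebraMap k K).range)
  (ψ : B →ₐc[k] A) (J : Ideal A) [J.IsHopfIdeal k] (hJ : J = kerIdeal ψ)
  (hU : HopfRep.IsUnipotent k (A ⧸ J))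
  (hid : ∀ e : A ⧸ J, IsIdempotentElem e → e = 0 ∨ e = 1)
  {M : Type u} [CommGroup M] (g : GBasis K (K ⊗[k] B) M) (hM : Group.FG M)
  (hp : ∀ p : ℕ, p.Prime → (p : K) = 0 → ∀ x : M, x ^ p = 1 → x = 1)

lemma mapPt_resTors (r : A →ₐc[k] B) (N₀ : ℕ) (σ : K →ₐ[k] K) (h : torsC (k := k) B K N₀) :
    mapPt σ (resTors (L := K) (isHom_ofB r) N₀ h) =
      resTors (L := K) (isHom_ofB r) N₀ (torsMap σ N₀ h) := by
  rw [resTors_apply, resTors_apply, ev_ofB, ev_ofB, coe_torsMap, ← mapPt_comp]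
  rfl

include hfix hJ hU hid g hM hp in
theorem exists_isConj (r' r'' : A →ₐc[k] B) (hr' : ∀ b, r' (ψ b) = b) (hr'' : ∀ b, r'' (ψ b) = b) :
    ∃ u ∈ (res (R := k) ψ).ker, IsConj u (pt r') (pt r'') := by
  let x' : WithConv (A →ₐ[k] K ⊗[k] B) := ofB K (pt r')
  let x'' : WithConv (A →ₐ[k] K ⊗[k] B) := ofB K (pt r'')
  obtain ⟨N₀, hN₀, hstab⟩ := exists_stab (ev x') (ev x'')
  have := finite_torsC g hM N₀ hN₀
  let F : Fintype (torsC (k := k) B K N₀) := Fintype.ofFinite _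
  have hcard : (Fintype.card (torsC (k := k) B K N₀) : K) ≠ 0 := by
    have h1 := card_ne_zero g hM (AlgHom.id k K) N₀ hN₀
    intro h2
    apply h1
    apply (algebraMap k K).injective
    rw [map_natCast, map_zero]
    exact h2
  let S := kerPt K ψ
  have hScl : IsCl (S : Set (Pt K (K ⊗[k] A))) := isCl_kerPt ψ J hJ
  have hSconn : IsConn (S : Set (Pt K (K ⊗[k] A))) := isConn_kerPt ψ J hJ hid
  have hSu : ∀ g ∈ S, IsUnip g := fun g hg ↦ isUnip_of_mem_kerPt ψ J hJ hU hg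
  have hSn : S.Normal := inferInstance
  have hSg : ∀ σ : K ≃ₐ[k] K, ∀ g ∈ S, gal σ g ∈ S := fun σ g hg ↦ gal_mem_kerPt ψ J hJ σ hg
  obtain ⟨n, hn⟩ := exists_cds_eq_bot (ClSer.isSolvable hScl hSu)
  let f : torsC (k := k) B K N₀ →* Pt K (K ⊗[k] A) :=
    rr.symm.toMonoidHom.comp (resTors (L := K) (isHom_ofB r') N₀)
  let f' : torsC (k := k) B K N₀ →* Pt K (K ⊗[k] A) :=
    rr.symm.toMonoidHom.comp (resTors (L := K) (isHom_ofB r'') N₀)
  have hf : ∀ h, rr (f h) = ev x' h.1 := fun h ↦ MulEquiv.apply_symm_apply _ _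
  have hf' : ∀ h, rr (f' h) = ev x'' h.1 := fun h ↦ MulEquiv.apply_symm_apply _ _
  obtain ⟨u, hu, hufix, hconj⟩ := SerConj.exists_conj_series (fun i ↦ cds S i)
    (fun i ↦ ClSer.normal_cds hSn i) (fun i ↦ cds_succ_le hScl i)
    (fun i x hx y hy ↦ ClSer.comm_mem_cds i hx hy) f f' (by
      intro h
      change _ ∈ S
      rw [mem_kerPt, map_mul, map_inv, hf, hf', MonoidHom.mem_ker, map_mul, map_inv,
        (isLift_ofB ψ r' hr').res_ev, (isLift_ofB ψ r'' hr'').res_ev, mul_inv_cancel])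
    (fun i ↦ ClSer.pow_surj (isCl_cds hScl i) (fun g hg ↦ hSu g (cds_le hScl i hg)) hcard)
    (fun i x hx hxn ↦ ClSer.mem_of_pow_mem (isCl_cds hScl i)
      (fun g hg ↦ hSu g (cds_le hScl i hg)) hcard (isCl_cds hScl (i + 1)) (cds_succ_le hScl i) hx hxn)
    (fun σ : K ≃ₐ[k] K ↦ (gal σ).toMonoidHom)
    (fun σ ↦ MulEquiv.ofBijective _ (torsMap_bijective (B := B) g (σ : K →ₐ[k] K) N₀ hN₀))
    (by
      intro σ h
      apply (rr (k := k) (K := K) (A := A)).injective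
      change rr (gal σ (f h)) = rr (f (torsMap (σ : K →ₐ[k] K) N₀ h))
      rw [rr_gal]
      change mapPt (σ : K →ₐ[k] K) (rr (rr.symm (resTors (L := K) (isHom_ofB r') N₀ h))) =
        rr (rr.symm (resTors (L := K) (isHom_ofB r') N₀ (torsMap (σ : K →ₐ[k] K) N₀ h)))
      rw [MulEquiv.apply_symm_apply, MulEquiv.apply_symm_apply]
      exact mapPt_resTors r' N₀ (σ : K →ₐ[k] K) h)
    (by
      intro σ h
      apply (rr (k := k) (K := K) (A := A)).injective
      change rr (gal σ (f' h)) = rr (f' (torsMap (σ : K →ₐ[k] K) N₀ h))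
      rw [rr_gal]
      change mapPt (σ : K →ₐ[k] K) (rr (rr.symm (resTors (L := K) (isHom_ofB r'') N₀ h))) =
        rr (rr.symm (resTors (L := K) (isHom_ofB r'') N₀ (torsMap (σ : K →ₐ[k] K) N₀ h)))
      rw [MulEquiv.apply_symm_apply, MulEquiv.apply_symm_apply]
      exact mapPt_resTors r'' N₀ (σ : K →ₐ[k] K) h)
    (fun σ j x hx ↦ ClSer.gal_mem_cds σ (hSg σ) j hx)
    (by
      intro j m hm hma
      obtain ⟨v, hv, hvf⟩ := GalFix.exists_fixed hfix (cds S (j + 1)) (isCl_cds hScl _)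
        (isConn_cds hSconn _) (fun r hr ↦ hSu r (cds_le hScl _ hr))
        (fun σ r hr ↦ ClSer.gal_mem_cds σ (hSg σ) _ hr) m
        (fun σ ↦ ⟨m⁻¹ * gal σ m, hma σ, (mul_inv_cancel_left _ _).symm⟩)
      exact ⟨m * v, by rwa [inv_mul_cancel_left], hvf⟩) n
  rw [hn] at hconj
  -- `u` is defined over `k`
  have hufix' : ∀ (σ : K ≃ₐ[k] K) (a : A), σ ((rr u).ofConv a) = (rr u).ofConv a := by
    intro σ a
    have h1 := congrArg rr (hufix σ)
    change rr (gal σ u) = rr u at h1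
    rw [rr_gal] at h1
    exact DFunLike.congr_fun (congrArg WithConv.ofConv h1) a
  obtain ⟨u₀, hu₀⟩ := exists_algHom_of (Algebra.ofId k K) (algebraMap k K).injective (rr u).ofConv
    (fun a ↦ hfix _ fun σ ↦ hufix' σ a)
  have hu₀' : mapPt (Algebra.ofId k K) (toConv u₀) = rr u := Pts.ext hu₀
  refine ⟨toConv u₀, ?_, ?_⟩
  · have hu' : rr u ∈ (res (R := K) ψ).ker := hu
    rw [MonoidHom.mem_ker] at hu' ⊢
    apply mapPt_injective (Algebra.ofId k K) (algebraMap k K).injective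
    rw [mapPt_res, hu₀', hu', map_one]
  · apply isConj_of_ext (K := K)
    rw [hu₀']
    refine eq_of_ev g hM hp (AlgHom.id k K) _ _ ?_
    intro N hN h hh
    have h1 : mapPt (AlgHom.id k K) h = h := rfl
    rw [h1, ev_mul', ev_mul', ev_inv, ev_cst, eq_mul_inv_iff_mul_eq]
    refine hstab K (AlgHom.id k K) (rr u) (fun h hh ↦ ?_) N hN h hh
    have h2 := hconj ⟨h, hh⟩
    rw [Subgroup.mem_bot, mul_inv_eq_one] at h2
    have h3 := congrArg rr h2
    rw [map_mul, map_mul, map_inv, hf, hf'] at h3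
    change ev x'' h * rr u = rr u * ev x' h
    rw [h3, inv_mul_cancel_right]

end main

end K203.PerfConj
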