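import Groth.Agent.SGA3.K203.RetCut
import Groth.Agent.SGA3.K503.QuotExt
import Groth.Agent.Ega43.SmoothReduced
import Groth.Agent.S3294

/-!
# Conjugacy of the complements of a unipotent kernel over an algebraically closed field of characteristic `p`

`exists_isConj`: `1 → Spec C → Spec A → Spec B → 1` an extension of a diagonalizable group by a smooth unipotent group over
an algebraically closed field of characteristic `p`. Two retractions of `B → A` are conjugate by a point of `Spec C`.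
-/

set_option autoImplicit false

universe u

open TensorProduct WithConv HopfRep

namespace K203.RetMain

attribute [local instance] Groth.Agent.Books.DynBasic.ptGroup

open Groth.Agent.Sga3A.MTBasis Groth.Agent.Books.CharZeroUnip2 Groth.Agent.Books.DynBasic
open K503.Frame K503.CrMod K203.RetB K203.RetP K203.Pts K203.CommConj K503.QuotExt

variable {k : Type u} [Field k] {A B C : Type u} [CommRing A] [HopfAlgebra k A] [CommRing B] [HopfAlgebra k B]
  [CommRing C] [HopfAlgebra k C] {ψ : B →ₐc[k] A} {π : A →ₐc[k] C}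

/-- formal smoothness of the kernel of the quotient extension -/
theorem formallySmooth_quot (h : Ext ψ π) (I : Ideal A) [I.IsHopfIdeal k]
    (hs : Algebra.FormallySmooth k (C ⧸ I.map π)) :
    Algebra.FormallySmooth k ((A ⧸ I) ⧸ kerI (psiQ ψ I)) := by
  let f₁ : A →ₐ[k] C ⧸ I.map π := (Ideal.Quotient.mkₐ k (I.map π)).comp (π : A →ₐ[k] C)
  let f₂ : A →ₐ[k] (A ⧸ I) ⧸ kerI (psiQ ψ I) :=
    (Ideal.Quotient.mkₐ k (kerI (psiQ ψ I))).comp (Ideal.Quotient.mkₐ k I)
  have h1 : Function.Surjective f₁ := by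
    intro c
    obtain ⟨c, rfl⟩ := Ideal.Quotient.mk_surjective c
    obtain ⟨a, rfl⟩ := h.surj c
    exact ⟨a, rfl⟩
  have h2 : Function.Surjective f₂ := by
    intro c
    obtain ⟨c, rfl⟩ := Ideal.Quotient.mk_surjective c
    obtain ⟨a, rfl⟩ := Ideal.Quotient.mk_surjective c
    exact ⟨a, rfl⟩
  have hk1 : RingHom.ker f₁ = I ⊔ kerI ψ := by
    have h3 : RingHom.ker f₁ = (I.map (π : A →ₐ[k] C)).comap (π : A →ₐ[k] C) := by
      ext a
      rw [RingHom.mem_ker, Ideal.mem_comap]
      exact Ideal.Quotient.eq_zero_iff_mem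
    rw [h3, Ideal.comap_map_of_surjective (π : A →ₐ[k] C) h.surj]
    congr 1
    have h4 : (⊥ : Ideal C).comap (π : A →ₐ[k] C) = RingHom.ker (π : A →ₐ[k] C) := rfl
    rw [h4, h.ker]
    rfl
  have hk2 : RingHom.ker f₂ = I ⊔ kerI ψ := by
    have h3 : RingHom.ker f₂ = (kerI (psiQ ψ I)).comap (Ideal.Quotient.mk I) := by
      ext a
      rw [RingHom.mem_ker, Ideal.mem_comap]
      exact Ideal.Quotient.eq_zero_iff_mem
    have h4 : kerI (psiQ ψ I) = (kerI ψ).map (Ideal.Quotient.mk I) := by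
      change Ideal.map ((Ideal.Quotient.mk I).comp ((ψ : B →ₐ[k] A) : B →+* A))
        (RingHom.ker (Bialgebra.counitAlgHom k B)) = _
      rw [← Ideal.map_map]
      rfl
    rw [h3, h4, Ideal.comap_map_of_surjective _ Ideal.Quotient.mk_surjective, sup_comm]
    congr 1
    exact Ideal.mk_ker
  let e : (C ⧸ I.map π) ≃ₐ[k] ((A ⧸ I) ⧸ kerI (psiQ ψ I)) :=
    (Ideal.quotientKerAlgEquivOfSurjective h1).symm.trans
      ((Ideal.quotientEquivAlgOfEq k (hk1.trans hk2.symm)).trans (Ideal.quotientKerAlgEquivOfSurjective h2))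
  exact Algebra.FormallySmooth.of_equiv e

/-- Two retractions agree if the kernel is trivial. -/
theorem eq_of_trivial (h : Ext ψ π) (hC : (⊥ : Ideal C) = RingHom.ker (Bialgebra.counitAlgHom k C))
    (r r' : A →ₐc[k] B) (hr : ∀ b, r (ψ b) = b) (hr' : ∀ b, r' (ψ b) = b) : pt r = pt r' := by
  have h1 : ∀ c : C, c = algebraMap k C (Coalgebra.counit (R := k) c) := by
    intro c
    have h2 : c - algebraMap k C (Coalgebra.counit (R := k) c) ∈ RingHom.ker (Bialgebra.counitAlgHom k C) := by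
      rw [RingHom.mem_ker, map_sub, AlgHom.commutes]
      exact sub_self _
    rw [← hC] at h2
    exact sub_eq_zero.1 h2
  have h2 : ∀ a : A, Groth.Agent.Books.NormalKer.rho π a = a ⊗ₜ[k] (1 : C) := by
    intro a
    have h3 : ∀ z : A ⊗[k] A, (π : A →ₐ[k] C).toLinearMap.lTensor A z =
        (Algebra.linearMap k C).lTensor A ((Coalgebra.counit (R := k) (A := A)).lTensor A z) := by
      intro z
      induction z with
      | zero => rw [map_zero, map_zero, map_zero]
      | add x y hx hy => rw [map_add, map_add, map_add, hx, hy]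
      | tmul x y =>
        rw [LinearMap.lTensor_tmul, LinearMap.lTensor_tmul, LinearMap.lTensor_tmul]
        refine congrArg (fun t => x ⊗ₜ[k] t) ?_
        have h4 : Coalgebra.counit (R := k) (π y) = Coalgebra.counit (R := k) y :=
          CoalgHomClass.counit_comp_apply π y
        refine (h1 (π y)).trans ?_
        rw [h4]
        rfl
    rw [Groth.Agent.Books.NormalKer.rho_apply, h3, Coalgebra.lTensor_counit_comul, LinearMap.lTensor_tmul]
    exact congrArg (fun t => a ⊗ₜ[k] t) (map_one (algebraMap k C))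
  apply Pts.ext
  intro a
  obtain ⟨b, rfl⟩ := h.mem_range (h2 a)
  change r (ψ b) = r' (ψ b)
  rw [hr, hr']

/-- Conjugating points pulled back from a quotient. -/
theorem isConj_of_quot (I : Ideal A) [I.IsHopfIdeal k] (r r' : A →ₐc[k] B) (h : ∀ a ∈ I, r a = 0)
    (h' : ∀ a ∈ I, r' a = 0) (u : WithConv ((A ⧸ I) →ₐ[k] k))
    (hu : IsConj u (pt (Groth.Agent.Books.NormalKer.liftBialg I r h))
      (pt (Groth.Agent.Books.NormalKer.liftBialg I r' h'))) :
    IsConj (Pts.res (Bialgebra.Quotient.mkBialgHom (R := k) I) u) (pt r) (pt r') := by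
  have h1 := congrArg (Pts.res (R := B) (Bialgebra.Quotient.mkBialgHom (R := k) I)) hu
  rw [map_mul, map_mul, map_inv] at h1
  exact h1

theorem aux (p : ℕ) [Fact p.Prime] [CharP k p] [IsAlgClosed k] {M : Type u} [CommGroup M] (g : GBasis k B M)
    {A₀ : Type u} [CommRing A₀] [Algebra k A₀] [Algebra.FiniteType k A₀] (I₀ : Ideal A₀) :
    ∀ (A : Type u) [CommRing A] [HopfAlgebra k A] (q : A₀ →ₐ[k] A), Function.Surjective q → RingHom.ker q = I₀ →
    ∀ (C : Type u) [CommRing C] [HopfAlgebra k C] (ψ : B →ₐc[k] A) (π : A →ₐc[k] C), Ext ψ π →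
    Algebra.FormallySmooth k C → HopfRep.IsUnipotent k C →
    ∀ r r' : A →ₐc[k] B, (∀ b, r (ψ b) = b) → (∀ b, r' (ψ b) = b) →
    ∃ u : WithConv (A →ₐ[k] k), Pts.res ψ u = 1 ∧ IsConj u (pt r) (pt r') := by
  have hn : IsNoetherianRing A₀ := Algebra.FiniteType.isNoetherianRing k A₀
  induction I₀ using WellFoundedGT.induction with
  | ind I₀ ih =>
  intro A _ _ q hq hI C _ _ ψ π h hs hU r r' hr hr'
  by_cases hC : (⊥ : Ideal C) = RingHom.ker (Bialgebra.counitAlgHom k C)
  · refine ⟨1, map_one _, ?_⟩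
    have h1 := eq_of_trivial h hC r r' hr hr'
    change _ = _
    rw [h1, map_one, inv_one, mul_one, one_mul]
  have hftA : Algebra.FiniteType k A := Algebra.FiniteType.of_surjective q hq
  have hftC : Algebra.FiniteType k C := Algebra.FiniteType.of_surjective (π : A →ₐ[k] C) h.surj
  have hfpC : Algebra.FinitePresentation k C := Algebra.FinitePresentation.of_finiteType.mp inferInstance
  have hsmC : Algebra.Smooth k C := ⟨inferInstance, inferInstance⟩
  have hred : IsReduced C := Groth.Agent.Ega43.SmoothReduced.isReduced_of_smooth k C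
  obtain ⟨w, I, hw, hHopf, hne, hkill, hsmI⟩ := K203.RetCut.oneStep p h hU hC g hr hr'
  let r₁ := K203.RetCut.conjR w r
  have hker : ∀ b, ψ b ∈ I → b = 0 := by
    intro b hb
    rw [← hr' b]
    exact (hkill _ hb).2
  have hH2 : (kerI (psiQ ψ I)).IsHopfIdeal k := isHopfIdeal_kerI _
  have hext := ext_kerI (psiQ ψ I) (psiQ_injective ψ I hker)
  have h1 := ih ((I.comap q)) ?_ (A ⧸ I) ((Ideal.Quotient.mkₐ k I).comp q) ?_ ?_ _ (psiQ ψ I) _ hext
    (formallySmooth_quot h I hsmI) (isUnipotent_quot ψ I h hU)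
    (Groth.Agent.Books.NormalKer.liftBialg I r₁ (fun a ha => (hkill a ha).1))
    (Groth.Agent.Books.NormalKer.liftBialg I r' (fun a ha => (hkill a ha).2)) ?_ ?_
  · obtain ⟨u, hu1, hu2⟩ := h1
    refine ⟨Pts.res (Bialgebra.Quotient.mkBialgHom (R := k) I) u * w, ?_, ?_⟩
    · rw [map_mul, hw, mul_one]
      exact hu1
    · exact (K203.RetCut.isConj_conjR w r).trans (isConj_of_quot I r₁ r' _ _ u hu2)
  · rw [lt_iff_le_and_ne]
    constructor
    · intro x hx
      rw [← hI, RingHom.mem_ker] at hx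
      rw [Ideal.mem_comap, hx]
      exact I.zero_mem
    · intro heq
      apply hne
      rw [eq_bot_iff]
      intro a ha
      obtain ⟨x, rfl⟩ := hq a
      have h2 : x ∈ I.comap q := ha
      rw [← heq, ← hI] at h2
      exact h2
  · intro c
    obtain ⟨c, rfl⟩ := Ideal.Quotient.mk_surjective c
    obtain ⟨a, rfl⟩ := hq c
    exact ⟨a, rfl⟩
  · ext x
    rw [RingHom.mem_ker, Ideal.mem_comap]
    exact Ideal.Quotient.eq_zero_iff_mem
  · exact fun b => K203.RetCut.conjR_psi w r hr hw b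
  · exact fun b => hr' b

/-- **Conjugacy, smooth kernel.** -/
theorem exists_isConj_smooth (p : ℕ) [Fact p.Prime] [CharP k p] [IsAlgClosed k] [Algebra.FiniteType k A]
    {M : Type u} [CommGroup M] (g : GBasis k B M) (h : Ext ψ π) (hs : Algebra.FormallySmooth k C)
    (hU : HopfRep.IsUnipotent k C) (r r' : A →ₐc[k] B) (hr : ∀ b, r (ψ b) = b) (hr' : ∀ b, r' (ψ b) = b) :
    ∃ u : WithConv (A →ₐ[k] k), Pts.res ψ u = 1 ∧ IsConj u (pt r) (pt r') :=
  aux p g _ A (AlgHom.id k A) Function.surjective_id rfl C ψ π h hs hU r r' hr hr'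

/-- The kernel of a split extension is reduced if the total space is. -/
theorem isReduced_quot [IsReduced A] (r : A →ₐc[k] B) (hr : r.comp ψ = BialgHom.id k B) (J : Ideal A)
    [J.IsHopfIdeal k] (hJ : J = kerIdeal ψ) : IsReduced (A ⧸ J) := by
  constructor
  intro x hx
  obtain ⟨n, hn⟩ := hx
  have hb := theta_bijective ψ r hr J hJ
  obtain ⟨a, ha⟩ := hb.2 (x ⊗ₜ[k] (1 : B))
  have h1 : theta r J (a ^ n) = 0 := by
    rw [map_pow, ha, Algebra.TensorProduct.tmul_pow, hn, TensorProduct.zero_tmul]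
  have h2 : a ^ n = 0 := hb.1 (h1.trans (map_zero _).symm)
  have h3 : a = 0 := (show IsNilpotent a from ⟨n, h2⟩).eq_zero
  rw [h3, map_zero] at ha
  have h4 : (Algebra.TensorProduct.includeLeft : (A ⧸ J) →ₐ[k] (A ⧸ J) ⊗[k] B) x =
      (Algebra.TensorProduct.includeLeft : (A ⧸ J) →ₐ[k] (A ⧸ J) ⊗[k] B) 0 := by
    rw [map_zero]
    exact ha.symm
  have hnt : Nontrivial B := by
    refine ⟨1, 0, fun h5 => ?_⟩
    have h6 := congrArg (Coalgebra.counit (R := k)) h5
    rw [Bialgebra.counit_one, map_zero] at h6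
    exact one_ne_zero h6
  exact Algebra.TensorProduct.includeLeft_injective (FaithfulSMul.algebraMap_injective k B) h4

/-- Conjugacy when both retractions kill a Hopf ideal with reduced quotient. -/
theorem exists_isConj_of_isReduced_quot (p : ℕ) [Fact p.Prime] [CharP k p] [IsAlgClosed k] [Algebra.FiniteType k A]
    {M : Type u} [CommGroup M] (g : GBasis k B M) (h : Ext ψ π)
    (hU : HopfRep.IsUnipotent k C) (r r' : A →ₐc[k] B) (hr : ∀ b, r (ψ b) = b) (hr' : ∀ b, r' (ψ b) = b)
    (I : Ideal A) [I.IsHopfIdeal k] [IsReduced (A ⧸ I)] (hk : ∀ a ∈ I, r a = 0) (hk' : ∀ a ∈ I, r' a = 0) :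
    ∃ u : WithConv (A →ₐ[k] k), Pts.res ψ u = 1 ∧ IsConj u (pt r) (pt r') := by
  have hker : ∀ b, ψ b ∈ I → b = 0 := by
    intro b hb
    rw [← hr' b]
    exact hk' _ hb
  have hH2 : (kerI (psiQ ψ I)).IsHopfIdeal k := isHopfIdeal_kerI _
  have hext := ext_kerI (psiQ ψ I) (psiQ_injective ψ I hker)
  have hrb : (Groth.Agent.Books.NormalKer.liftBialg I r hk).comp (psiQ ψ I) = BialgHom.id k B :=
    BialgHom.ext fun b => hr b
  have hredC : IsReduced ((A ⧸ I) ⧸ kerI (psiQ ψ I)) := isReduced_quot _ hrb (kerI (psiQ ψ I)) rfl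
  have hsm : Algebra.Smooth k ((A ⧸ I) ⧸ kerI (psiQ ψ I)) := K983.FrobRoot.smooth k _
  obtain ⟨u, hu1, hu2⟩ := exists_isConj_smooth p g hext inferInstance (isUnipotent_quot ψ I h hU)
    (Groth.Agent.Books.NormalKer.liftBialg I r hk) (Groth.Agent.Books.NormalKer.liftBialg I r' hk')
    (fun b => hr b) (fun b => hr' b)
  exact ⟨Pts.res (Bialgebra.Quotient.mkBialgHom (R := k) I) u, hu1, isConj_of_quot I r r' _ _ u hu2⟩

theorem isHopfIdeal_bot : (⊥ : Ideal A).IsHopfIdeal k := by
  apply Groth.Agent.S3294.isHopfIdeal_of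
  · intro x hx
    rw [Ideal.mem_bot.1 hx, map_zero]
  · intro x hx
    rw [Ideal.mem_bot.1 hx, map_zero, map_zero]
  · intro x hx
    rw [Ideal.mem_bot.1 hx, map_zero]
    exact Ideal.zero_mem _

/-- **Conjugacy, smooth base.** -/
theorem exists_isConj_reduced (p : ℕ) [Fact p.Prime] [CharP k p] [IsAlgClosed k] [Algebra.FiniteType k A]
    {M : Type u} [CommGroup M] (g : GBasis k B M) (h : Ext ψ π) [IsReduced B]
    (hU : HopfRep.IsUnipotent k C) (r r' : A →ₐc[k] B) (hr : ∀ b, r (ψ b) = b) (hr' : ∀ b, r' (ψ b) = b) :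
    ∃ u : WithConv (A →ₐ[k] k), Pts.res ψ u = 1 ∧ IsConj u (pt r) (pt r') := by
  have hbot : (⊥ : Ideal A).IsHopfIdeal k := isHopfIdeal_bot
  have hI := Groth.Agent.S3294.isHopfIdeal_radical k (⊥ : Ideal A)
  have hred : IsReduced (A ⧸ (⊥ : Ideal A).radical) :=
    (Ideal.isRadical_iff_quotient_reduced _).mp (Ideal.radical_isRadical _)
  have hkill : ∀ (s : A →ₐc[k] B), ∀ a ∈ (⊥ : Ideal A).radical, s a = 0 := by
    intro s a ha
    obtain ⟨n, hn⟩ := ha
    refine (show IsNilpotent (s a) from ⟨n, ?_⟩).eq_zero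
    rw [← map_pow, Ideal.mem_bot.1 hn, map_zero]
  exact exists_isConj_of_isReduced_quot p g h hU r r' hr hr' _ (hkill r) (hkill r')

end K203.RetMain
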