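import Groth.Agent.SGA3.K203.Desc
import Groth.Agent.Sga3A.GeomConn
import Mathlib.RingTheory.Unramified.Finite

/-!
# Unramified kernels: rigidity of sections over connected bases

* `eq_of_comp_eq`: two maps `D → X` from an unramified algebra which agree after `q : X → Y`, where the only
  idempotent of `X` killed by `q` is `0`, are equal;
* `eq_zero_of_sp`: idempotents of `L ⊗ B` (`B` connected with a rational point) killed by the specialisation;
* `point_eq`: two points with the same image in the quotient and the same specialisation are equal.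
-/

set_option autoImplicit false

universe u

open TensorProduct WithConv

namespace K203.Rigid

open K203.Pts Groth.Agent.Books.DynBasic Groth.Agent.Sga3A

section unram

variable {k : Type u} [CommRing k] {D X Y : Type u} [CommRing D] [Algebra k D] [CommRing X]
  [Algebra k X] [CommRing Y] [Algebra k Y]

lemma elem_mul_self [Algebra.FormallyUnramified k D] [Algebra.EssFiniteType k D] (z : D ⊗[k] D) :
    z * Algebra.FormallyUnramified.elem k D =
      (Algebra.TensorProduct.lmul' k z ⊗ₜ 1) * Algebra.FormallyUnramified.elem k D := by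
  induction z with
  | zero => simp
  | add x y hx hy => rw [add_mul, hx, hy, map_add, TensorProduct.add_tmul, add_mul]
  | tmul a b =>
    have h1 : a ⊗ₜ[k] b = (a ⊗ₜ 1) * (1 ⊗ₜ b) := by simp
    rw [h1, mul_assoc, Algebra.FormallyUnramified.one_tmul_mul_elem, ← mul_assoc]
    simp

/-- Rigidity. -/
theorem eq_of_comp_eq [Algebra.FormallyUnramified k D] [Algebra.EssFiniteType k D]
    (q : X →ₐ[k] Y) (hq : ∀ e : X, IsIdempotentElem e → q e = 0 → e = 0) (f g : D →ₐ[k] X)
    (h : q.comp f = q.comp g) : f = g := by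
  let F : D ⊗[k] D →ₐ[k] X := Algebra.TensorProduct.lift f g (fun _ _ ↦ .all _ _)
  let E := Algebra.FormallyUnramified.elem k D
  have h1 : IsIdempotentElem E := by
    have := elem_mul_self (k := k) (D := D) E
    rw [show (Algebra.TensorProduct.lmul' k : D ⊗[k] D →ₐ[k] D) E = 1 from
      Algebra.FormallyUnramified.lmul_elem] at this
    rw [IsIdempotentElem]
    refine this.trans ?_
    rw [← Algebra.TensorProduct.one_def, one_mul]
  have h2 : q (F E) = 1 := by
    have h3 : q.comp F = (q.comp f).comp (Algebra.TensorProduct.lmul' k) := by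
      apply Algebra.TensorProduct.ext
      · apply AlgHom.ext; intro d
        change q (f d * g 1) = q (f (d * 1))
        rw [map_one g, mul_one, mul_one]
      · apply AlgHom.ext; intro d
        change q (f 1 * g d) = q (f (1 * d))
        rw [map_one f, one_mul, one_mul]
        exact (DFunLike.congr_fun h d).symm
    have h4 := DFunLike.congr_fun h3 E
    refine h4.trans ?_
    change q (f (Algebra.TensorProduct.lmul' k E)) = 1
    rw [show (Algebra.TensorProduct.lmul' k : D ⊗[k] D →ₐ[k] D) E = 1 from
      Algebra.FormallyUnramified.lmul_elem, map_one, map_one]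
  have h3 : F E = 1 := by
    have h4 : IsIdempotentElem (1 - F E) := (h1.map F).one_sub
    have h5 := hq _ h4 (by rw [map_sub, map_one, h2, sub_self])
    exact (sub_eq_zero.mp h5).symm
  apply AlgHom.ext
  intro s
  have h4 : F ((1 ⊗ₜ s - s ⊗ₜ 1) * E) = 0 := by
    rw [show ((1 : D) ⊗ₜ[k] s - s ⊗ₜ 1) * E = 0 from
      Algebra.FormallyUnramified.one_tmul_sub_tmul_one_mul_elem s, map_zero]
  rw [map_mul, h3, mul_one, map_sub] at h4
  have h5 : F (1 ⊗ₜ s) = g s := by
    change f 1 * g s = g s
    rw [map_one, one_mul]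
  have h6 : F (s ⊗ₜ 1) = f s := by
    change f s * g 1 = f s
    rw [map_one, mul_one]
  rw [h5, h6, sub_eq_zero] at h4
  exact h4.symm

/-- Two points with the same image in the quotient and the same specialisation are equal. -/
theorem point_eq {A B : Type u} [CommRing A] [HopfAlgebra k A] [CommRing B] [HopfAlgebra k B]
    (ψ : B →ₐc[k] A) (J : Ideal A) (hJ : J = kerIdeal ψ)
    [Algebra.FormallyUnramified k (A ⧸ J)] [Algebra.EssFiniteType k (A ⧸ J)]
    (q : X →ₐ[k] Y) (hq : ∀ e : X, IsIdempotentElem e → q e = 0 → e = 0)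
    (x y : WithConv (A →ₐ[k] X)) (h1 : res ψ x = res ψ y) (h2 : mapPt q x = mapPt q y) : x = y := by
  have h3 : res ψ (x * y⁻¹) = 1 := by rw [map_mul, map_inv, h1, mul_inv_cancel]
  have h4 : mapPt q (x * y⁻¹) = 1 := by rw [map_mul, map_inv, h2, mul_inv_cancel]
  have h5 : ∀ a ∈ J, (x * y⁻¹).ofConv a = 0 := by
    rw [hJ]
    exact (kill_iff _).mpr h3
  have h6 : ∀ a ∈ J, (1 : WithConv (A →ₐ[k] X)).ofConv a = 0 := by
    rw [hJ]
    exact (kill_iff _).mpr (map_one _)
  have h7 : Ideal.Quotient.liftₐ J _ h5 = Ideal.Quotient.liftₐ J _ h6 := by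
    apply eq_of_comp_eq q hq
    apply AlgHom.ext
    intro d
    obtain ⟨a, rfl⟩ := Ideal.Quotient.mk_surjective d
    change q ((x * y⁻¹).ofConv a) = q ((1 : WithConv (A →ₐ[k] X)).ofConv a)
    have h8 := congrArg (fun z : WithConv (A →ₐ[k] Y) ↦ z.ofConv a) h4
    refine h8.trans ?_
    have h9 : mapPt q (1 : WithConv (A →ₐ[k] X)) = 1 := map_one _
    exact (congrArg (fun z : WithConv (A →ₐ[k] Y) ↦ z.ofConv a) h9).symm
  have h8 : x * y⁻¹ = 1 := by
    apply Pts.ext
    intro a
    exact DFunLike.congr_fun h7 (Ideal.Quotient.mk J a)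
  exact mul_inv_eq_one.mp h8

end unram

section conn

variable {k L B : Type u} [Field k] [CommRing L] [Algebra k L] [CommRing B] [Algebra k B]

/-- Idempotents of `L ⊗ B` killed by the specialisation at a rational point of the connected
`Spec B` are zero. -/
theorem eq_zero_of_sp [ConnectedSpace (PrimeSpectrum B)] (ε : B →ₐ[k] k) (f : L ⊗[k] B)
    (hf : IsIdempotentElem f) (h0 : GeomConn.sp L ε f = 0) : f = 0 := by
  have h1 : IsNilpotent f := by
    rw [← mem_nilradical, nilradical_eq_sInf, Ideal.mem_sInf]
    rintro Q hQ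
    have hQ' : Q.IsPrime := hQ
    let P : Ideal L := Q.comap (algebraMap L (L ⊗[k] B))
    have hP : P.IsPrime := Ideal.comap_isPrime _ _
    let j : L →ₐ[k] P.ResidueField := IsScalarTower.toAlgHom k L P.ResidueField
    let m : L ⊗[k] B →ₐ[k] P.ResidueField ⊗[k] B := Algebra.TensorProduct.map j (AlgHom.id k B)
    have h2 : m f = 0 := by
      apply GeomConn.eq_zero_of_sp_eq_zero ε _ (hf.map m)
      exact (GeomConn.sp_map ε j f).trans (by rw [h0, map_zero])
    let i : L →ₐ[k] L ⊗[k] B := Algebra.TensorProduct.includeLeft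
    let a : P.ResidueField →ₐ[k] Q.ResidueField := Ideal.ResidueField.mapₐ P Q i rfl
    let c : L ⊗[k] B →ₐ[k] Q.ResidueField := IsScalarTower.toAlgHom k (L ⊗[k] B) Q.ResidueField
    let b : B →ₐ[k] Q.ResidueField := c.comp Algebra.TensorProduct.includeRight
    let n : P.ResidueField ⊗[k] B →ₐ[k] Q.ResidueField :=
      Algebra.TensorProduct.lift a b (fun _ _ ↦ .all _ _)
    have h3 : n.comp m = c := by
      apply Algebra.TensorProduct.ext
      · apply AlgHom.ext
        intro l
        change a (j l) * b 1 = c (l ⊗ₜ 1)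
        rw [map_one, mul_one]
        exact Ideal.ResidueField.map_algebraMap P Q _ rfl l
      · apply AlgHom.ext
        intro x
        change a (j 1) * b x = c (1 ⊗ₜ x)
        rw [map_one, map_one, one_mul]
        rfl
    have h4 : c f = 0 := by
      rw [← h3, AlgHom.comp_apply, h2, map_zero]
    exact Ideal.algebraMap_residueField_eq_zero.mp h4
  exact hf.eq_zero_of_isNilpotent h1

end conn

end K203.Rigid
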