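import Groth.Agent.Sga3.H809.Transfer
import Groth.Agent.Agf.H601.LieCartier
import Mathlib.RingTheory.Etale.Field
import Mathlib.FieldTheory.Perfect
import Mathlib.RingTheory.Jacobson.Ring

/-!
# Extensions of étale groups by infinitesimal groups over a perfect field
-/

set_option autoImplicit false

universe u v

open TensorProduct

namespace K203.ExtEtale

variable {k : Type u} [Field k]

/-- Elements of the augmentation ideal of a local Hopf algebra of finite type are nilpotent. -/
lemma isNilpotent_of_counit {D : Type v} [CommRing D] [Bialgebra k D] [Algebra.FiniteType k D]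
    [IsLocalRing D] (d : D) (hd : CoalgebraStruct.counit (R := k) d = 0) : IsNilpotent d := by
  have hJ : IsJacobsonRing D := isJacobsonRing_of_finiteType (A := k)
  have h1 : d ∈ IsLocalRing.maximalIdeal D := by
    refine IsLocalRing.le_maximalIdeal (J := RingHom.ker (Bialgebra.counitAlgHom k D)) ?_ hd
    exact RingHom.ker_ne_top _
  have h2 : nilradical D = IsLocalRing.maximalIdeal D := by
    rw [nilradical, Ideal.radical_eq_jacobson]
    exact IsLocalRing.jacobson_eq_maximalIdeal _ bot_ne_top
  rw [← mem_nilradical, h2]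
  exact h1

/-- Hopf algebras of finite type over a field of characteristic zero are reduced. -/
theorem isReduced_of_charZero [CharZero k] (D : Type u) [CommRing D] [HopfAlgebra k D]
    [Algebra.FiniteType k D] : IsReduced D := by
  have h1 : CharZero (AlgebraicClosure k) := charZero_of_injective_algebraMap
    (algebraMap k (AlgebraicClosure k)).injective
  have h2 : IsReduced (AlgebraicClosure k ⊗[k] D) :=
    Groth.Agent.Agf.H601.LieCartier.isReduced_hopf (AlgebraicClosure k) (AlgebraicClosure k ⊗[k] D)
  have h3 : Function.Injective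
      (Algebra.TensorProduct.includeRight : D →ₐ[k] AlgebraicClosure k ⊗[k] D) :=
    Algebra.TensorProduct.includeRight_injective (algebraMap k (AlgebraicClosure k)).injective
  exact isReduced_of_injective _ h3

/-- Elements of the augmentation ideal of a local Hopf algebra are killed by a power of the
Frobenius. -/
lemma exists_pow (p : ℕ) [ExpChar k p] (D : Type u) [CommRing D] [HopfAlgebra k D]
    [Algebra.FiniteType k D] [IsLocalRing D] :
    ∃ n : ℕ, ∀ d : D, CoalgebraStruct.counit (R := k) d = 0 → d ^ p ^ n = 0 := by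
  rcases (inferInstance : ExpChar k p) with h | h
  · have := isReduced_of_charZero (k := k) D
    refine ⟨0, fun d hd ↦ ?_⟩
    rw [(isNilpotent_of_counit d hd).eq_zero]
    simp
  · have hN : IsNoetherianRing D := Algebra.FiniteType.isNoetherianRing k D
    obtain ⟨N, hN⟩ := IsNoetherianRing.isNilpotent_nilradical D
    refine ⟨N, fun d hd ↦ ?_⟩
    have h1 : d ∈ nilradical D := isNilpotent_of_counit d hd
    have h2 : d ^ N = 0 := by
      have := Ideal.pow_mem_pow h1 N
      rw [hN] at this
      exact this
    have hp : p.Prime := by assumption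
    exact pow_eq_zero_of_le (Nat.lt_pow_self hp.one_lt).le h2

variable {A : Type u} [CommRing A] [HopfAlgebra k A] 

/-- High `p`-th powers are coinvariants. -/
theorem pow_coinv (p : ℕ) [ExpChar k p] {D : Type u} [CommRing D] [HopfAlgebra k D]
    (n : ℕ) (hn : ∀ d : D, CoalgebraStruct.counit (R := k) d = 0 → d ^ p ^ n = 0)
    (π : A →ₐc[k] D) (a : A) :
    LinearMap.lTensor A (π : A →ₗ[k] D) (CoalgebraStruct.comul (R := k) (a ^ p ^ n)) =
      (a ^ p ^ n) ⊗ₜ[k] (1 : D) := by
  have : Nontrivial A := (Bialgebra.counitAlgHom k A).toRingHom.domain_nontrivial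
  have : Nontrivial D := (Bialgebra.counitAlgHom k D).toRingHom.domain_nontrivial
  have hA : ExpChar A p := expChar_of_injective_algebraMap (algebraMap k A).injective p
  have hD : ExpChar D p := expChar_of_injective_algebraMap (algebraMap k D).injective p
  have hAD : ExpChar (A ⊗[k] D) p :=
    expChar_of_injective_algebraMap (algebraMap k (A ⊗[k] D)).injective p
  have h1 : ∀ d : D, d ^ p ^ n = algebraMap k D (CoalgebraStruct.counit (R := k) d) ^ p ^ n := by
    intro d
    have h2 := hn (d - algebraMap k D (CoalgebraStruct.counit (R := k) d)) (by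
      rw [map_sub, Bialgebra.counit_algebraMap, sub_self])
    rwa [sub_pow_expChar_pow, sub_eq_zero] at h2
  have h3 : ∀ z : A ⊗[k] D, z ^ p ^ n =
      ((TensorProduct.rid k A (LinearMap.lTensor A (CoalgebraStruct.counit (R := k) (A := D)) z)) ^
        p ^ n) ⊗ₜ[k] (1 : D) := by
    intro z
    induction z with
    | zero =>
      have h0 : p ^ n ≠ 0 := (expChar_pow_pos k p n).ne'
      rw [map_zero, map_zero, zero_pow h0, zero_pow h0, TensorProduct.zero_tmul]
    | add x y hx hy =>
      rw [add_pow_expChar_pow, map_add, map_add, add_pow_expChar_pow, TensorProduct.add_tmul, hx, hy]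
    | tmul a d =>
      rw [Algebra.TensorProduct.tmul_pow, h1, ← map_pow, Algebra.algebraMap_eq_smul_one,
        TensorProduct.tmul_smul, LinearMap.lTensor_tmul, TensorProduct.rid_tmul, smul_pow,
        TensorProduct.smul_tmul']
  let F : A →ₐ[k] A ⊗[k] D :=
    (Algebra.TensorProduct.map (AlgHom.id k A) (π : A →ₐ[k] D)).comp (Bialgebra.comulAlgHom k A)
  have hF : ∀ x, F x = LinearMap.lTensor A (π : A →ₗ[k] D) (CoalgebraStruct.comul (R := k) x) :=
    fun x ↦ rfl
  rw [← hF, map_pow, h3, hF]
  have h4 : ∀ z : A ⊗[k] A, LinearMap.lTensor A (CoalgebraStruct.counit (R := k) (A := D))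
      (LinearMap.lTensor A (π : A →ₗ[k] D) z) =
      LinearMap.lTensor A (CoalgebraStruct.counit (R := k) (A := A)) z := by
    intro z
    rw [← LinearMap.comp_apply, ← LinearMap.lTensor_comp]
    congr 2
    exact CoalgHomClass.counit_comp π
  rw [h4, Coalgebra.lTensor_counit_comul, TensorProduct.rid_tmul, one_smul]

/-- Étale algebras over a perfect field are perfect. -/
theorem exists_root [PerfectField k] (p : ℕ) [ExpChar k p] (C : Type u) [CommRing C]
    [Algebra k C] [Algebra.Etale k C] (n : ℕ) (c : C) : ∃ d : C, d ^ p ^ n = c := by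
  have h1 : Module.Finite k C := Algebra.FormallyUnramified.finite_of_free k C
  have h2 : IsArtinianRing C := IsArtinianRing.of_finite k C
  have h3 : IsReduced C := Algebra.FormallyUnramified.isReduced_of_field k C
  let e := IsArtinianRing.equivPi C
  have h4 : ∀ I : MaximalSpectrum C, ∃ d : C ⧸ I.asIdeal, d ^ p ^ n = e c I := by
    intro I
    let := Ideal.Quotient.field I.asIdeal
    have h5 : Algebra.IsAlgebraic k (C ⧸ I.asIdeal) := inferInstance
    have h6 : PerfectField (C ⧸ I.asIdeal) := Algebra.IsAlgebraic.perfectField (K := k)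
    have h7 : ExpChar (C ⧸ I.asIdeal) p :=
      expChar_of_injective_algebraMap (algebraMap k (C ⧸ I.asIdeal)).injective p
    have h8 : PerfectRing (C ⧸ I.asIdeal) p := PerfectField.toPerfectRing p
    obtain ⟨d, hd⟩ := (iterateFrobeniusEquiv (C ⧸ I.asIdeal) p n).surjective (e c I)
    exact ⟨d, hd⟩
  choose d hd using h4
  refine ⟨e.symm d, ?_⟩
  apply e.injective
  rw [map_pow, AlgEquiv.apply_symm_apply]
  funext I
  exact hd I

section main

variable [PerfectField k] [Algebra.FiniteType k A] {C : Type u} [CommRing C] [HopfAlgebra k C]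
  [Algebra.Etale k C] (ψ : C →ₐc[k] A) (J : Ideal A) [J.IsHopfIdeal k]
  (hJ : J = Ideal.map (ψ : C →+* A) (RingHom.ker (Bialgebra.counitAlgHom k C)))
  [IsLocalRing (A ⧸ J)]

include hJ in
/-- Every function is the sum of a function on the étale quotient and a nilpotent function. -/
theorem exists_sub_isNilpotent (a : A) : ∃ c : C, IsNilpotent (a - ψ c) := by
  obtain ⟨p, hp⟩ := ExpChar.exists k
  obtain ⟨n, hn⟩ := exists_pow (k := k) p (A ⧸ J)
  have h1 := pow_coinv p n hn (Bialgebra.Quotient.mkBialgHom (R := k) J) a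
  obtain ⟨c, hc⟩ := Groth.Agent.Sga3.H809.Transfer.exists_of_coinv ψ J hJ _ h1
  obtain ⟨d, hd⟩ := exists_root (k := k) p C n c
  refine ⟨d, p ^ n, ?_⟩
  have : Nontrivial A := (Bialgebra.counitAlgHom k A).toRingHom.domain_nontrivial
  have hA : ExpChar A p := expChar_of_injective_algebraMap (algebraMap k A).injective p
  rw [sub_pow_expChar_pow, ← map_pow, hd, hc, sub_self]

include hJ in
/-- Maps to reduced rings are determined on the étale quotient. -/
theorem hom_ext_of_reduced {X : Type v} [CommRing X] [IsReduced X] (F G : A →+* X)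
    (h : ∀ c, F (ψ c) = G (ψ c)) : F = G := by
  ext a
  obtain ⟨c, hc⟩ := exists_sub_isNilpotent ψ J hJ a
  have h1 : F a = F (ψ c) := by
    rw [← sub_eq_zero, ← map_sub]
    exact (hc.map F).eq_zero
  have h2 : G a = G (ψ c) := by
    rw [← sub_eq_zero, ← map_sub]
    exact (hc.map G).eq_zero
  rw [h1, h2, h]

include hJ in
theorem existsUnique_retraction (hψ : Function.Injective ψ) :
    ∃! r : A →ₐc[k] C, r.comp ψ = BialgHom.id k C := by
  have hC : IsReduced C := Algebra.FormallyUnramified.isReduced_of_field k C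
  have hCC : Algebra.Etale k (C ⊗[k] C) := Algebra.Etale.comp k C (C ⊗[k] C)
  have hC2 : IsReduced (C ⊗[k] C) := Algebra.FormallyUnramified.isReduced_of_field k (C ⊗[k] C)
  let q : A →ₐ[k] A ⧸ nilradical A := Ideal.Quotient.mkₐ k (nilradical A)
  let e : C →ₐ[k] A ⧸ nilradical A := q.comp (ψ : C →ₐ[k] A)
  have he : Function.Bijective e := by
    constructor
    · rw [injective_iff_map_eq_zero]
      intro c hc
      have h1 : ψ c ∈ nilradical A := Ideal.Quotient.eq_zero_iff_mem.mp hc
      have h2 : IsNilpotent c := by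
        obtain ⟨n, hn⟩ := h1
        refine ⟨n, hψ ?_⟩
        rw [map_pow, map_zero]
        exact hn
      exact h2.eq_zero
    · intro x
      obtain ⟨a, rfl⟩ := Ideal.Quotient.mk_surjective x
      obtain ⟨c, hc⟩ := exists_sub_isNilpotent ψ J hJ a
      exact ⟨c, ((Ideal.Quotient.mk_eq_mk_iff_sub_mem _ _).mpr hc).symm⟩
  let E : C ≃ₐ[k] A ⧸ nilradical A := AlgEquiv.ofBijective e he
  let r₀ : A →ₐ[k] C := (E.symm : (A ⧸ nilradical A) →ₐ[k] C).comp q
  have hr₀ : ∀ c, r₀ (ψ c) = c := fun c ↦ E.symm_apply_apply c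
  refine ⟨BialgHom.ofAlgHom r₀ ?_ ?_, ?_, ?_⟩
  · apply AlgHom.coe_ringHom_injective
    refine hom_ext_of_reduced ψ J hJ _ _ fun c ↦ ?_
    change CoalgebraStruct.counit (R := k) (r₀ (ψ c)) = CoalgebraStruct.counit (R := k) (ψ c)
    rw [hr₀]
    exact (CoalgHomClass.counit_comp_apply ψ c).symm
  · apply AlgHom.coe_ringHom_injective
    refine hom_ext_of_reduced ψ J hJ _ _ fun c ↦ ?_
    change TensorProduct.map r₀.toLinearMap r₀.toLinearMap
      (CoalgebraStruct.comul (R := k) (ψ c)) = CoalgebraStruct.comul (R := k) (r₀ (ψ c))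
    rw [hr₀, ← CoalgHomClass.map_comp_comul_apply ψ c]
    generalize CoalgebraStruct.comul (R := k) c = z
    induction z with
    | zero => simp
    | add x y hx hy => simp only [map_add, hx, hy]
    | tmul x y =>
      rw [TensorProduct.map_tmul, TensorProduct.map_tmul]
      exact congrArg₂ (· ⊗ₜ ·) (hr₀ x) (hr₀ y)
  · apply DFunLike.ext
    intro c
    exact hr₀ c
  · intro r hr
    apply DFunLike.ext
    intro a
    have h1 := hom_ext_of_reduced ψ J hJ ((r : A →ₐ[k] C) : A →+* C) (r₀ : A →+* C) (fun c ↦ by
      refine Eq.trans ?_ (hr₀ c).symm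
      exact DFunLike.congr_fun hr c)
    exact DFunLike.congr_fun h1 a

include hJ in
theorem ker_retraction (r : A →ₐc[k] C) (hr : r.comp ψ = BialgHom.id k C) :
    RingHom.ker (r : A →+* C) = nilradical A := by
  have hC : IsReduced C := Algebra.FormallyUnramified.isReduced_of_field k C
  have hr' : ∀ c, r (ψ c) = c := fun c ↦ DFunLike.congr_fun hr c
  apply le_antisymm
  · intro a ha
    obtain ⟨c, hc⟩ := exists_sub_isNilpotent ψ J hJ a
    have h1 : r a = r (ψ c) := by
      rw [← sub_eq_zero, ← map_sub]
      exact (hc.map r).eq_zero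
    have h2 : r a = 0 := ha
    rw [hr', h2] at h1
    rw [← h1, map_zero, sub_zero] at hc
    exact hc
  · intro a ha
    exact (IsNilpotent.map (show IsNilpotent a from ha) (r : A →+* C)).eq_zero

end main

end K203.ExtEtale
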