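import Mathlib.GroupTheory.FiniteAbelian.Duality
import Mathlib.GroupTheory.FiniteAbelian.Basic
import Mathlib.RingTheory.RootsOfUnity.AlgebraicallyClosed
import Mathlib.RingTheory.Filtration
import Mathlib.FieldTheory.IsAlgClosed.Basic
import Mathlib.GroupTheory.Perm.Cycle.Type
import Mathlib.LinearAlgebra.LinearIndependent.Lemmas

/-!
# Characters of finitely generated abelian groups with values in roots of unity

* `exists_char`: `K` algebraically closed, `M` finitely generated without `char K`-torsion: characters of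
  finite order invertible in `K` separate the elements of `M`;
* `exists_char_finset`: version for a finite set;
* `exists_root_of_unity`: roots of unity of order invertible in `K` in a local `K`-algebra are in `K`.
-/

set_option autoImplicit false

namespace K203.CharSep

variable {K : Type*} [Field K] [IsAlgClosed K]

lemma notMem_pow {M : Type*} [CommGroup M] [Group.FG M] (x : M) (ℓ : ℕ)
    (hx : ∀ c : ℤ, x ^ ((ℓ : ℤ) * c - 1) ≠ 1) : ∃ j : ℕ, ∀ y : M, y ^ ℓ ^ j ≠ x := by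
  by_contra hcon
  push Not at hcon
  have : Module.Finite ℤ (Additive M) := Module.Finite.iff_addGroup_fg.mpr inferInstance
  have h1 := (Ideal.mem_iInf_smul_pow_eq_bot_iff (M := Additive M) (Ideal.span {(ℓ : ℤ)})
    (Additive.ofMul x)).mp (by
      rw [Submodule.mem_iInf]
      intro j
      obtain ⟨y, hy⟩ := hcon j
      have h2 : Additive.ofMul x = ((ℓ : ℤ) ^ j) • Additive.ofMul y := by
        rw [← hy]
        have : ((ℓ : ℤ) ^ j) = ((ℓ ^ j : ℕ) : ℤ) := by push_cast; rfl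
        rw [this, natCast_zsmul]
        rfl
      rw [h2]
      exact Submodule.smul_mem_smul (Ideal.pow_mem_pow (Ideal.mem_span_singleton_self _) j) trivial)
  obtain ⟨⟨r, hr⟩, hrx⟩ := h1
  obtain ⟨c, rfl⟩ := Ideal.mem_span_singleton.mp hr
  apply hx c
  have h2 : ((ℓ : ℤ) * c - 1) • Additive.ofMul x = 0 := by
    rw [sub_smul, one_smul, sub_eq_zero]
    exact hrx
  exact h2

theorem exists_char {M : Type*} [CommGroup M] [Group.FG M]
    (hM : ∀ p : ℕ, p.Prime → (p : K) = 0 → ∀ x : M, x ^ p = 1 → x = 1) (x : M) (hx : x ≠ 1) :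
    ∃ (N : ℕ) (_ : (N : K) ≠ 0) (χ : M →* Kˣ), (∀ y, χ y ^ N = 1) ∧ χ x ≠ 1 := by
  -- the prime
  obtain ⟨ℓ, hℓ, hℓK, hℓx⟩ : ∃ ℓ : ℕ, ℓ.Prime ∧ (ℓ : K) ≠ 0 ∧
      ∀ c : ℤ, x ^ ((ℓ : ℤ) * c - 1) ≠ 1 := by
    by_cases hfin : IsOfFinOrder x
    · have h1 : orderOf x ≠ 1 := fun h ↦ hx (orderOf_eq_one_iff.mp h)
      obtain ⟨ℓ, hℓ, hdvd⟩ := Nat.exists_prime_and_dvd h1
      refine ⟨ℓ, hℓ, fun h0 ↦ ?_, fun c hc ↦ ?_⟩
      · obtain ⟨m, hm⟩ := hdvd
        have h2 : x ^ m = 1 := hM ℓ hℓ h0 _ (by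
          rw [← pow_mul, mul_comm m ℓ, ← hm, pow_orderOf_eq_one])
        have h3 := orderOf_dvd_of_pow_eq_one h2
        have h4 : 0 < orderOf x := hfin.orderOf_pos
        have h5 : 0 < m := Nat.pos_of_ne_zero (by rintro rfl; omega)
        have h6 := Nat.le_of_dvd h5 h3
        have h7 := hℓ.two_le
        nlinarith
      · have h2 := orderOf_dvd_iff_zpow_eq_one.mpr hc
        have h3 : (ℓ : ℤ) ∣ (ℓ : ℤ) * c - 1 := (Int.natCast_dvd_natCast.mpr hdvd).trans h2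
        have h4 : (ℓ : ℤ) ∣ 1 := by
          have := (dvd_mul_right (ℓ : ℤ) c).sub h3
          simpa using this
        have h5 : ℓ ∣ 1 := by exact_mod_cast h4
        exact hℓ.one_lt.ne' (Nat.dvd_one.mp h5)
    · obtain ⟨p, hp⟩ := ExpChar.exists K
      obtain ⟨ℓ, hℓp, hℓ⟩ := Nat.exists_infinite_primes (p + 1)
      refine ⟨ℓ, hℓ, ?_, fun c hc ↦ ?_⟩
      · intro h0
        rcases hp with h | h
        · exact hℓ.ne_zero (Nat.cast_eq_zero.mp h0)
        · have h1 := (CharP.cast_eq_zero_iff K p ℓ).mp h0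
          rcases (Nat.dvd_prime hℓ).mp h1 with h2 | h2
          · exact (by assumption : p.Prime).one_lt.ne' h2
          · omega
      · apply hfin
        rw [isOfFinOrder_iff_zpow_eq_one]
        refine ⟨(ℓ : ℤ) * c - 1, ?_, hc⟩
        intro h0
        have h4 : (ℓ : ℤ) ∣ 1 := ⟨c, by linarith⟩
        have h5 : ℓ ∣ 1 := by exact_mod_cast h4
        exact hℓ.one_lt.ne' (Nat.dvd_one.mp h5)
  obtain ⟨j, hj⟩ := notMem_pow x ℓ hℓx
  let N := ℓ ^ j
  have hN : (N : K) ≠ 0 := by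
    rw [Nat.cast_pow]
    exact pow_ne_zero _ hℓK
  have hN0 : 0 < N := pow_pos hℓ.pos _
  let P : Subgroup M := (powMonoidHom N : M →* M).range
  have hxP : (QuotientGroup.mk x : M ⧸ P) ≠ 1 := by
    intro h
    rw [QuotientGroup.eq_one_iff] at h
    obtain ⟨y, hy⟩ := h
    exact hj y hy
  have hpow : ∀ q : M ⧸ P, q ^ N = 1 := by
    intro q
    obtain ⟨y, rfl⟩ := QuotientGroup.mk_surjective q
    rw [← QuotientGroup.mk_pow, QuotientGroup.eq_one_iff]
    exact ⟨y, rfl⟩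
  have : Group.FG (M ⧸ P) := QuotientGroup.fg P
  have hfin : Finite (M ⧸ P) := CommGroup.finite_of_fg_isMulTorsion _ fun q ↦
    isOfFinOrder_iff_pow_eq_one.mpr ⟨N, hN0, hpow q⟩
  have hdvd : Monoid.exponent (M ⧸ P) ∣ N := Monoid.exponent_dvd_of_forall_pow_eq_one hpow
  have hNK : NeZero (N : K) := ⟨hN⟩
  have hNN : NeZero N := ⟨hN0.ne'⟩
  have := HasEnoughRootsOfUnity.of_dvd K hdvd
  obtain ⟨φ, hφ⟩ := CommGroup.exists_apply_ne_one_of_hasEnoughRootsOfUnity (M ⧸ P) K hxP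
  refine ⟨N, hN, φ.comp (QuotientGroup.mk' P), fun y ↦ ?_, hφ⟩
  rw [MonoidHom.comp_apply, ← map_pow]
  have h1 : (QuotientGroup.mk' P y) ^ N = 1 := hpow _
  rw [h1, map_one]

/-- Version for finitely many elements. -/
theorem exists_char_finset {M : Type*} [CommGroup M] [Group.FG M]
    (hM : ∀ p : ℕ, p.Prime → (p : K) = 0 → ∀ x : M, x ^ p = 1 → x = 1) (S : Finset M) :
    ∃ (N : ℕ) (_ : (N : K) ≠ 0), ∀ m ∈ S, ∀ m' ∈ S, m ≠ m' →
      ∃ χ : M →* Kˣ, (∀ y, χ y ^ N = 1) ∧ χ m ≠ χ m' := by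
  classical
  have h : ∀ x : M, ∃ N : ℕ, (N : K) ≠ 0 ∧ (x ≠ 1 → ∃ χ : M →* Kˣ, (∀ y, χ y ^ N = 1) ∧ χ x ≠ 1) := by
    intro x
    by_cases hx : x = 1
    · exact ⟨1, by simp, fun h ↦ absurd hx h⟩
    · obtain ⟨N, hN, hχ⟩ := exists_char hM x hx
      exact ⟨N, hN, fun _ ↦ hχ⟩
  choose f hf hf' using h
  refine ⟨∏ q ∈ S ×ˢ S, f (q.1 / q.2), ?_, ?_⟩
  · rw [Nat.cast_prod]
    exact Finset.prod_ne_zero_iff.mpr fun q _ ↦ hf _
  · intro m hm m' hm' hne
    obtain ⟨χ, h1, h2⟩ := hf' (m / m') (by rwa [Ne, div_eq_one])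
    refine ⟨χ, fun y ↦ ?_, fun h ↦ h2 ?_⟩
    · obtain ⟨c, hc⟩ := Finset.dvd_prod_of_mem (fun q : M × M ↦ f (q.1 / q.2))
        (Finset.mk_mem_product hm hm')
      rw [hc, pow_mul, h1, one_pow]
    · rw [map_div, h, div_self']

/-- Roots of unity in local `K`-algebras. -/
theorem exists_root_of_unity {L : Type*} [CommRing L] [IsLocalRing L] [Algebra K L] (n : ℕ)
    (hn : (n : K) ≠ 0) (y : L) (hy : y ^ n = 1) : ∃ ζ : K, ζ ^ n = 1 ∧ algebraMap K L ζ = y := by
  classical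
  have hnz : NeZero (n : K) := ⟨hn⟩
  have hn0 : n ≠ 0 := by rintro rfl; simp at hn
  have hpos : 0 < n := Nat.pos_of_ne_zero hn0
  obtain ⟨ζ, hζ⟩ := HasEnoughRootsOfUnity.exists_primitiveRoot K n
  have h1 := Polynomial.X_pow_sub_one_eq_prod hpos hζ
  have h2 : ∏ ξ ∈ Polynomial.nthRootsFinset n (1 : K), (y - algebraMap K L ξ) = 0 := by
    have h3 := congrArg (Polynomial.aeval y) h1
    rw [map_prod] at h3
    simp only [map_sub, map_pow, Polynomial.aeval_X, map_one, Polynomial.aeval_C] at h3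
    rw [← h3, hy, sub_self]
  -- some factor is in the maximal ideal
  have h4 : ∃ ξ ∈ Polynomial.nthRootsFinset n (1 : K),
      y - algebraMap K L ξ ∈ IsLocalRing.maximalIdeal L := by
    have h5 : ∏ ξ ∈ Polynomial.nthRootsFinset n (1 : K), (y - algebraMap K L ξ) ∈
        IsLocalRing.maximalIdeal L := by rw [h2]; exact zero_mem _
    exact (Ideal.IsPrime.prod_mem_iff (p := IsLocalRing.maximalIdeal L)).mp h5
  obtain ⟨ξ, hξ, hmem⟩ := h4
  refine ⟨ξ, (Polynomial.mem_nthRootsFinset hpos _).mp hξ, ?_⟩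
  have h6 : IsUnit (∏ η ∈ (Polynomial.nthRootsFinset n (1 : K)).erase ξ, (y - algebraMap K L η)) := by
    rw [IsUnit.prod_iff]
    intro η hη
    have hne : ξ - η ≠ 0 := sub_ne_zero.mpr (Finset.ne_of_mem_erase hη).symm
    have h7 : y - algebraMap K L η = (y - algebraMap K L ξ) + algebraMap K L (ξ - η) := by
      rw [map_sub]; ring
    rw [h7]
    by_contra hnu
    have h8 := (IsLocalRing.mem_maximalIdeal _).mpr hnu
    have h9 := (Ideal.add_mem_iff_right _ hmem).mp h8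
    exact (IsLocalRing.mem_maximalIdeal _).mp h9 ((IsUnit.mk0 _ hne).map (algebraMap K L))
  rw [← Finset.mul_prod_erase _ _ hξ] at h2
  have h8 := (h6.mul_left_eq_zero).mp h2
  exact (sub_eq_zero.mp h8).symm

end K203.CharSep
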