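import Groth.Agent.SGA3.K203.CommRigid

/-!
# Conjugacy of liftings of smooth groups of multiplicative type, commutative unipotent kernel
-/

set_option autoImplicit false
set_option linter.unusedSectionVars false

universe u

open TensorProduct WithConv

namespace K203.CommConj

open K203.Pts K203.TorsPts K203.HomPt K203.Mean K203.CommLift K203.CommRigid
  Groth.Agent.Books.DynBasic Groth.Agent.Sga3A.MTBasis

/-- Restriction of the codomain of an algebra map. -/
lemma exists_algHom_of {k : Type*} [CommRing k] {A C D : Type*} [CommRing A] [Algebra k A] [CommRing C]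
    [Algebra k C] [CommRing D] [Algebra k D] (i : C →ₐ[k] D) (hi : Function.Injective i)
    (F : A →ₐ[k] D) (h : ∀ a, ∃ c, i c = F a) : ∃ F₀ : A →ₐ[k] C, ∀ a, i (F₀ a) = F a := by
  have hF : ∀ a, F a ∈ i.range := fun a => h a
  refine ⟨((AlgEquiv.ofInjective i hi).symm : i.range →ₐ[k] C).comp (F.codRestrict i.range hF),
    fun a ↦ ?_⟩
  have h2 := (AlgEquiv.ofInjective i hi).apply_symm_apply (F.codRestrict i.range hF a)
  exact congrArg Subtype.val h2

/-- Elements of `K` whose images in local `k`-algebras are unique are in `k`. -/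
theorem exists_of_loc' {k : Type u} [Field k] {K : Type u} [Field K] [Algebra k K] (z : K)
    (h : ∀ (L : Type u) [CommRing L] [Algebra k L] [IsLocalRing L] (φ₁ φ₂ : K →ₐ[k] L),
      φ₁ z = φ₂ z) : ∃ b : k, algebraMap k K b = z := by
  obtain ⟨b, hb⟩ := exists_of_loc (k := k) (B := k) (K := K) (z ⊗ₜ 1) (by
    intro L _ _ _ φ₁ φ₂
    rw [bc_tmul, bc_tmul, h L φ₁ φ₂])
  refine ⟨b, ?_⟩
  have h1 := congrArg (TensorProduct.rid k K) hb
  rw [TensorProduct.rid_tmul, TensorProduct.rid_tmul, one_smul] at h1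
  rw [← h1, Algebra.algebraMap_eq_smul_one]

section

variable {k : Type u} [Field k] {A : Type u} [CommRing A] [HopfAlgebra k A]
  {B : Type u} [CommRing B] [HopfAlgebra k B]

/-- `r'' = u r' u⁻¹`. -/
def IsConj (u : WithConv (A →ₐ[k] k)) (r' r'' : WithConv (A →ₐ[k] B)) : Prop :=
  r'' = mapPt (Algebra.ofId k B) u * r' * (mapPt (Algebra.ofId k B) u)⁻¹

lemma IsConj.eq_conv3 {u : WithConv (A →ₐ[k] k)} {r' r'' : A →ₐc[k] B}
    (h : IsConj u (pt r') (pt r'')) : (r'' : A →ₐ[k] B) =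
      Dyn.conv3 k A ((Algebra.ofId k B).comp u.ofConv) (r' : A →ₐ[k] B)
        (((Algebra.ofId k B).comp u.ofConv).comp (HopfAlgebra.antipodeAlgHom k A)) := by
  rw [conv3_eq]
  exact congrArg WithConv.ofConv h

lemma IsConj.trans {u v : WithConv (A →ₐ[k] k)} {r₁ r₂ r₃ : WithConv (A →ₐ[k] B)}
    (h : IsConj u r₁ r₂) (h' : IsConj v r₂ r₃) : IsConj (v * u) r₁ r₃ := by
  rw [IsConj] at *
  rw [h', h, map_mul, mul_inv_rev]
  have : ∀ {G : Type u} [Group G] (a b c : G), b * (a * c * a⁻¹) * b⁻¹ = b * a * c * (a⁻¹ * b⁻¹) := by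
    intro G _ a b c
    group
  exact this (G := WithConv (A →ₐ[k] B)) _ _ _

/-- Conjugacy may be checked over an extension. -/
lemma isConj_of_ext {K : Type u} [Field K] [Algebra k K] (u : WithConv (A →ₐ[k] k))
    (r' r'' : WithConv (A →ₐ[k] B))
    (h : ofB K r'' = cst B (mapPt (Algebra.ofId k K) u) * ofB K r' *
      (cst B (mapPt (Algebra.ofId k K) u))⁻¹) : IsConj u r' r'' := by
  let i : B →ₐ[k] K ⊗[k] B := Algebra.TensorProduct.includeRight
  have hi : Function.Injective i := one_tmul_injective (R := k) K B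
  apply mapPt_injective i hi
  rw [map_mul, map_mul, map_inv]
  have h1 : mapPt i (mapPt (Algebra.ofId k B) u) = cst B (mapPt (Algebra.ofId k K) u) := by
    apply Pts.ext
    intro a
    change (1 : K) ⊗ₜ[k] algebraMap k B (u.ofConv a) = algebraMap k K (u.ofConv a) ⊗ₜ[k] (1 : B)
    rw [Algebra.algebraMap_eq_smul_one, TensorProduct.tmul_smul, TensorProduct.smul_tmul',
      Algebra.algebraMap_eq_smul_one]
  rw [h1]
  exact h

end

section comm

variable {k : Type u} [Field k] {A : Type u} [CommRing A] [HopfAlgebra k A]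
  [Algebra.FiniteType k A]
  {B : Type u} [CommRing B] [HopfAlgebra k B] [Coalgebra.IsCocomm k B]
  (ψ : B →ₐc[k] A) (J : Ideal A) [J.IsHopfIdeal k] (hJ : J = kerIdeal ψ)
  (hU : HopfRep.IsUnipotent k (A ⧸ J)) [Coalgebra.IsCocomm k (A ⧸ J)]
  {K : Type u} [Field K] [Algebra k K] [IsAlgClosed K]
  {M : Type u} [CommGroup M] (g : GBasis K (K ⊗[k] B) M) (hM : Group.FG M)
  (hp : ∀ p : ℕ, p.Prime → (p : K) = 0 → ∀ x : M, x ^ p = 1 → x = 1)

lemma isLift_ofB {L : Type u} [CommRing L] [Algebra k L] (r : A →ₐc[k] B) (hr : ∀ b, r (ψ b) = b) :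
    IsLift ψ (ofB L (pt r)) := by
  intro b
  change (1 : L) ⊗ₜ[k] r (ψ b) = _
  rw [hr]

lemma bc_ofB {L L' : Type u} [CommRing L] [Algebra k L] [CommRing L'] [Algebra k L'] (φ : L →ₐ[k] L')
    (r : WithConv (A →ₐ[k] B)) : mapPt (bc B φ) (ofB L r) = ofB L' r := by
  apply Pts.ext
  intro a
  change bc B φ ((1 : L) ⊗ₜ[k] r.ofConv a) = (1 : L') ⊗ₜ[k] r.ofConv a
  rw [bc_tmul, map_one]

include hJ hU g hM hp in
theorem exists_isConj (r' r'' : A →ₐc[k] B) (hr' : ∀ b, r' (ψ b) = b) (hr'' : ∀ b, r'' (ψ b) = b) :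
    ∃ u ∈ (res (R := k) ψ).ker, IsConj u (pt r') (pt r'') := by
  let x' : WithConv (A →ₐ[k] K ⊗[k] B) := ofB K (pt r')
  let x'' : WithConv (A →ₐ[k] K ⊗[k] B) := ofB K (pt r'')
  obtain ⟨N₀, hN₀, hstab⟩ := exists_stab (ev x') (ev x'')
  have := finite_torsC g hM N₀ hN₀
  let F : Fintype (torsC (k := k) B K N₀) := Fintype.ofFinite _
  have hcomm := UDiv.isMulCommutative_ker (R := K) ψ J hJ
  have hdiv := div_torsC (L := K) ψ J hJ hU g hM (AlgHom.id k K) N₀ hN₀
  obtain ⟨u, hu, hmean, hconj⟩ := exists_conj hdiv (resTors (L := K) (isHom_ofB r') N₀)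
    (resTors (L := K) (isHom_ofB r'') N₀) (by
    intro h
    rw [MonoidHom.mem_ker, map_mul, map_inv, resTors_apply, resTors_apply,
      (isLift_ofB ψ r' hr').res_ev, (isLift_ofB ψ r'' hr'').res_ev, mul_inv_cancel])
  -- `u` is defined over `k`
  have hdesc : ∀ (L : Type u) [CommRing L] [Algebra k L] [IsLocalRing L] (φ₁ φ₂ : K →ₐ[k] L),
      mapPt φ₁ u = mapPt φ₂ u := by
    intro L _ _ _ φ₁ φ₂
    have hcommL := UDiv.isMulCommutative_ker (R := L) ψ J hJ
    have := finite_torsC' g hM φ₁ N₀ hN₀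
    let FL : Fintype (torsC (k := k) B L N₀) := Fintype.ofFinite _
    have hmeanL : ∀ φ : K →ₐ[k] L, IsMean (res (R := L) ψ).ker
        (fun h : torsC (k := k) B L N₀ ↦ ev (ofB L (pt r'')) h.1 * (ev (ofB L (pt r')) h.1)⁻¹)
        (mapPt φ u) := by
      intro φ
      let e := Equiv.ofBijective _ (torsMap_bijective (B := B) g φ N₀ hN₀)
      have h1 := (hmean.map (mapPt φ) (ker_map ψ φ)).reindex e.symm
      convert h1 using 1
      funext a
      have h4 : a.1 = mapPt φ (e.symm a).1 := (congrArg Subtype.val (e.apply_symm_apply a)).symm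
      rw [map_mul, map_inv, resTors_apply, resTors_apply, ← ev_bc, ← ev_bc, bc_ofB, bc_ofB, ← h4]
    exact (hmeanL φ₁).unique (div_torsC (L := L) ψ J hJ hU g hM φ₁ N₀ hN₀) (hmeanL φ₂)
  obtain ⟨u₀, hu₀⟩ := exists_algHom_of (Algebra.ofId k K) (algebraMap k K).injective u.ofConv
    (fun a ↦ exists_of_loc' _ fun L _ _ _ φ₁ φ₂ ↦
      DFunLike.congr_fun (congrArg WithConv.ofConv (hdesc L φ₁ φ₂)) a)
  have hu₀' : mapPt (Algebra.ofId k K) (toConv u₀) = u := Pts.ext hu₀
  refine ⟨toConv u₀, ?_, ?_⟩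
  · rw [MonoidHom.mem_ker] at hu ⊢
    apply mapPt_injective (Algebra.ofId k K) (algebraMap k K).injective
    rw [mapPt_res, hu₀', hu, map_one]
  · apply isConj_of_ext (K := K)
    rw [hu₀']
    refine eq_of_ev g hM hp (AlgHom.id k K) _ _ ?_
    intro N hN h hh
    have h1 : mapPt (AlgHom.id k K) h = h := rfl
    rw [h1, ev_mul', ev_mul', ev_inv, ev_cst, eq_mul_inv_iff_mul_eq]
    exact hstab K (AlgHom.id k K) u (fun h hh ↦ hconj ⟨h, hh⟩) N hN h hh

end comm

end K203.CommConj
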