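import Mathlib.Tactic.Group
import Mathlib.GroupTheory.Subgroup.Centralizer
import Mathlib.Algebra.BigOperators.Group.Finset.Basic
import Mathlib.Algebra.Group.Subgroup.Finite
import Mathlib.GroupTheory.QuotientGroup.Basic
import Mathlib.Algebra.BigOperators.GroupWithZero.Action

/-!
# Means in cosets of a uniquely divisible abelian normal subgroup

`N` a commutative normal subgroup of a group `G` on which `x ↦ x ^ n` is bijective.
`IsMean N x m` : `m` is the mean of the finite family `x` of elements of a coset of `N`.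

* `exists_isMean`, `IsMean.unique`, `IsMean.mul`, `isMean_const`, `IsMean.reindex`, `IsMean.map`;
* `exists_conj`: two homomorphisms `Γ → G` from a group of order `n` which agree modulo `N` are conjugate
  by the mean of `f' f⁻¹`;
* `exists_hom`: a map `Γ → G` which is a homomorphism modulo `N` is congruent to a homomorphism.
-/

set_option autoImplicit false

namespace K203.Mean

open Subgroup
open scoped IsMulCommutative

variable {G : Type*} [Group G] (N : Subgroup G) [IsMulCommutative N]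

/-- `m` is the mean of the family `x`. -/
def IsMean {ι : Type*} [Fintype ι] (x : ι → G) (m : G) : Prop :=
  ∃ v : ι → N, (∀ i, x i = m * v i) ∧ ∏ i, v i = 1

/-- `x ↦ x ^ n` is bijective on `N`. -/
structure Div (N : Subgroup G) (n : ℕ) : Prop where
  surj : ∀ x ∈ N, ∃ y ∈ N, y ^ n = x
  inj : ∀ x ∈ N, x ^ n = 1 → x = 1

variable {N}

section

variable {ι : Type*} [Fintype ι]

lemma isMean_const (g : G) : IsMean N (fun _ : ι ↦ g) g :=
  ⟨fun _ ↦ 1, fun _ ↦ by simp, by simp⟩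

lemma IsMean.reindex {κ : Type*} [Fintype κ] {x : ι → G} {m : G} (h : IsMean N x m) (e : κ ≃ ι) :
    IsMean N (fun i ↦ x (e i)) m := by
  obtain ⟨v, hv, hv1⟩ := h
  refine ⟨fun i ↦ v (e i), fun i ↦ hv (e i), ?_⟩
  rw [← hv1]
  exact Fintype.prod_equiv e _ _ fun _ ↦ rfl

lemma IsMean.mul [N.Normal] {x y : ι → G} {m m' : G} (h : IsMean N x m) (h' : IsMean N y m') :
    IsMean N (fun i ↦ x i * y i) (m * m') := by
  obtain ⟨v, hv, hv1⟩ := h
  obtain ⟨w, hw, hw1⟩ := h'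
  let φ : N →* N := ((MulAut.conjNormal (m'⁻¹) : MulAut N) : N →* N)
  refine ⟨fun i ↦ φ (v i) * w i, fun i ↦ ?_, ?_⟩
  · have h1 : ((φ (v i) : N) : G) = m'⁻¹ * v i * m' := by
      have := MulAut.conjNormal_apply (H := N) (m'⁻¹) (v i)
      rw [inv_inv] at this
      exact this
    dsimp only
    rw [hv, hw, Subgroup.coe_mul, h1]
    group
  · rw [Finset.prod_mul_distrib, ← map_prod, hv1, hw1, map_one, one_mul]

lemma IsMean.mem_coset {x : ι → G} {m : G} (h : IsMean N x m) (i : ι) : m⁻¹ * x i ∈ N := by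
  obtain ⟨v, hv, -⟩ := h
  rw [hv, inv_mul_cancel_left]
  exact (v i).2

lemma IsMean.map {G' : Type*} [Group G'] {N' : Subgroup G'} [IsMulCommutative N'] (f : G →* G')
    (hf : ∀ x ∈ N, f x ∈ N') {x : ι → G} {m : G} (h : IsMean N x m) :
    IsMean N' (fun i ↦ f (x i)) (f m) := by
  obtain ⟨v, hv, hv1⟩ := h
  let φ : N →* N' := (f.comp N.subtype).codRestrict N' fun x ↦ hf x x.2
  refine ⟨fun i ↦ φ (v i), fun i ↦ ?_, ?_⟩
  · dsimp only
    rw [hv, map_mul]
    rfl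
  · rw [← map_prod, hv1, map_one]

lemma IsMean.unique (hN : Div N (Fintype.card ι)) [Nonempty ι] {x : ι → G} {m m' : G}
    (h : IsMean N x m) (h' : IsMean N x m') : m = m' := by
  obtain ⟨v, hv, hv1⟩ := h
  obtain ⟨w, hw, hw1⟩ := h'
  have hmem : m⁻¹ * m' ∈ N := by
    have i := Classical.arbitrary ι
    have h1 : m⁻¹ * m' = (v i : G) * (w i : G)⁻¹ := by
      have h2 := hv i
      rw [hw i] at h2
      rw [inv_mul_eq_iff_eq_mul, ← mul_assoc, eq_mul_inv_iff_mul_eq]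
      exact h2
    rw [h1]
    exact N.mul_mem (v i).2 (N.inv_mem (w i).2)
  let d : N := ⟨m⁻¹ * m', hmem⟩
  have h1 : ∀ i, v i = d * w i := by
    intro i
    apply Subtype.ext
    rw [Subgroup.coe_mul]
    have h2 := hv i
    rw [hw i] at h2
    change (v i : G) = m⁻¹ * m' * w i
    rw [mul_assoc, h2, inv_mul_cancel_left]
  have h2 : d ^ Fintype.card ι = 1 := by
    have h3 : ∏ i, v i = ∏ i, d * w i := Finset.prod_congr rfl fun i _ ↦ h1 i
    rw [hv1, Finset.prod_mul_distrib, hw1, mul_one, Finset.prod_const, Finset.card_univ] at h3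
    exact h3.symm
  have h3 : m⁻¹ * m' = 1 := hN.inj _ hmem (by
    have := congrArg Subtype.val h2
    exact this)
  exact (inv_mul_eq_one.mp h3)

lemma exists_isMean (hN : Div N (Fintype.card ι)) [Nonempty ι] (x : ι → G)
    (hx : ∀ i j, (x i)⁻¹ * x j ∈ N) : ∃ m, IsMean N x m := by
  have i₀ := Classical.arbitrary ι
  let u : ι → N := fun i ↦ ⟨(x i₀)⁻¹ * x i, hx i₀ i⟩
  obtain ⟨y, hy, hy1⟩ := hN.surj _ (∏ i, u i).2
  refine ⟨x i₀ * y, fun i ↦ ⟨y, hy⟩⁻¹ * u i, fun i ↦ ?_, ?_⟩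
  · rw [Subgroup.coe_mul, Subgroup.coe_inv]
    change x i = x i₀ * y * (y⁻¹ * ((x i₀)⁻¹ * x i))
    group
  · rw [Finset.prod_mul_distrib, Finset.prod_const, Finset.card_univ]
    have h1 : (⟨y, hy⟩ : N) ^ Fintype.card ι = ∏ i, u i := Subtype.ext hy1
    rw [inv_pow, h1, inv_mul_cancel]

end

section hom

variable {Γ : Type*} [Group Γ] [Fintype Γ] [N.Normal]

/-- Two homomorphisms from a finite group which agree modulo `N` are conjugate by the mean of
`f' f⁻¹`. -/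
theorem conj_of_isMean (hN : Div N (Fintype.card Γ)) (f f' : Γ →* G) {w : G}
    (hw : IsMean N (fun h ↦ f' h * (f h)⁻¹) w) (g : Γ) : f' g * w = w * f g := by
  have h1 : IsMean N (fun h ↦ f' g * (f' h * (f h)⁻¹) * (f g)⁻¹) (f' g * w * (f g)⁻¹) :=
    ((isMean_const _).mul hw).mul (isMean_const _)
  have h2 := hw.reindex (Equiv.mulLeft g)
  have h3 : (fun i ↦ f' (Equiv.mulLeft g i) * (f (Equiv.mulLeft g i))⁻¹) =
      fun h ↦ f' g * (f' h * (f h)⁻¹) * (f g)⁻¹ := by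
    funext h
    rw [Equiv.coe_mulLeft, map_mul, map_mul, mul_inv_rev]
    group
  rw [h3] at h2
  have h4 := h1.unique hN h2
  exact mul_inv_eq_iff_eq_mul.mp h4

theorem exists_conj (hN : Div N (Fintype.card Γ)) (f f' : Γ →* G)
    (h : ∀ g, f' g * (f g)⁻¹ ∈ N) :
    ∃ w ∈ N, IsMean N (fun h ↦ f' h * (f h)⁻¹) w ∧ ∀ g, f' g * w = w * f g := by
  obtain ⟨w, hw⟩ := exists_isMean hN (fun h ↦ f' h * (f h)⁻¹)
    (fun i j ↦ N.mul_mem (N.inv_mem (h i)) (h j))
  refine ⟨w, ?_, hw, conj_of_isMean hN f f' hw⟩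
  have h1 := hw.mem_coset 1
  have h2 := h 1
  have h3 := N.mul_mem h2 (N.inv_mem h1)
  simpa using h3

/-- A map from a finite group which is a homomorphism modulo `N` is congruent to a homomorphism. -/
theorem exists_hom (hN : Div N (Fintype.card Γ)) (σ : Γ → G)
    (hσ : ∀ g h, (σ (g * h))⁻¹ * (σ g * σ h) ∈ N) :
    ∃ s : Γ →* G, (∀ h, (s h)⁻¹ * σ h ∈ N) ∧ ∀ h, IsMean N (fun g ↦ (σ g)⁻¹ * σ (g * h)) (s h) := by
  -- all the `(σ g)⁻¹ * σ (g * h)` are in the coset of `σ h`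
  have h0 : ∀ g h, (σ h)⁻¹ * ((σ g)⁻¹ * σ (g * h)) ∈ N := by
    intro g h
    have h1 := N.inv_mem (hσ g h)
    have h2 : ((σ (g * h))⁻¹ * (σ g * σ h))⁻¹ = (σ h)⁻¹ * ((σ g)⁻¹ * σ (g * h)) := by group
    rwa [h2] at h1
  have hex : ∀ h, ∃ m, IsMean N (fun g ↦ (σ g)⁻¹ * σ (g * h)) m := by
    intro h
    refine exists_isMean hN _ fun i j ↦ ?_
    have h1 := N.mul_mem (N.inv_mem (h0 i h)) (h0 j h)
    have h2 : ((σ h)⁻¹ * ((σ i)⁻¹ * σ (i * h)))⁻¹ * ((σ h)⁻¹ * ((σ j)⁻¹ * σ (j * h))) =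
      ((σ i)⁻¹ * σ (i * h))⁻¹ * ((σ j)⁻¹ * σ (j * h)) := by group
    rwa [h2] at h1
  choose s hs using hex
  have hmul : ∀ h h', s (h * h') = s h * s h' := by
    intro h h'
    have h1 := (hs h).mul ((hs h').reindex (Equiv.mulRight h))
    have h2 : (fun i ↦ (σ i)⁻¹ * σ (i * h) *
        ((σ (Equiv.mulRight h i))⁻¹ * σ (Equiv.mulRight h i * h'))) =
        fun g ↦ (σ g)⁻¹ * σ (g * (h * h')) := by
      funext g
      rw [Equiv.coe_mulRight, ← mul_assoc g]
      group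
    rw [h2] at h1
    exact (hs (h * h')).unique hN h1
  have hone : s 1 = 1 := by
    have h1 := hmul 1 1
    rw [mul_one] at h1
    have h2 := congrArg (fun x ↦ (s 1)⁻¹ * x) h1
    simpa using h2.symm
  refine ⟨{ toFun := s, map_one' := hone, map_mul' := hmul }, fun h ↦ ?_, hs⟩
  change (s h)⁻¹ * σ h ∈ N
  have h1 := (hs h).mem_coset 1
  have h2 := N.inv_mem (h0 1 h)
  have h3 := N.mul_mem h1 h2
  have h4 : (s h)⁻¹ * ((σ 1)⁻¹ * σ (1 * h)) * ((σ h)⁻¹ * ((σ 1)⁻¹ * σ (1 * h)))⁻¹ =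
    (s h)⁻¹ * σ h := by group
  rwa [h4] at h3

end hom

end K203.Mean
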