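import Groth.Agent.SGA3.K203.Desc
import Groth.Agent.SGA3.K203.Mean
import Groth.Agent.Sga3.H793.UnipPart3

/-!
# Unique divisibility of the points of commutative unipotent groups

* `pow_bijective`: for a cocommutative unipotent Hopf algebra `C` over a field `k` and `n` invertible in `k` the
  comorphism of `x ↦ x ^ n` is bijective; hence `x ↦ x ^ n` is bijective on the points of `C` in any `k`-algebra;
* `ker_comm`, `ker_div`: the same for the kernel of `G(R) → H(R)`.
-/

set_option autoImplicit false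
set_option linter.unusedSectionVars false

universe u

open TensorProduct WithConv

namespace K203.UDiv

open K203.Pts Groth.Agent.Books.DynBasic Groth.Agent.Sga3A.ComodBasic Groth.Agent.Sga3A.ComodUnip
  Groth.Agent.Sga3.H793.UnipPart Groth.Agent.Sga3.H793.UnipPart3

section prim

variable {k : Type u} [CommRing k] {C : Type u} [CommRing C] [HopfAlgebra k C]
  {R : Type u} [CommRing R] [Algebra k R]

lemma mul_prim (x y : WithConv (C →ₐ[k] R)) {p : C}
    (hp : CoalgebraStruct.comul (R := k) p = p ⊗ₜ 1 + 1 ⊗ₜ p) :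
    (x * y).ofConv p = x.ofConv p + y.ofConv p := by
  rw [mul_apply, hp, map_add, Algebra.TensorProduct.lift_tmul, Algebra.TensorProduct.lift_tmul,
    map_one, map_one, mul_one, one_mul]

lemma pow_prim (x : WithConv (C →ₐ[k] R)) {p : C}
    (hp : CoalgebraStruct.comul (R := k) p = p ⊗ₜ 1 + 1 ⊗ₜ p) (n : ℕ) :
    (x ^ n).ofConv p = n • x.ofConv p := by
  induction n with
  | zero =>
    have h1 := mul_prim (1 : WithConv (C →ₐ[k] R)) 1 hp
    rw [one_mul] at h1
    rw [pow_zero, zero_smul]
    exact (left_eq_add.mp h1)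
  | succ n ih => rw [pow_succ, mul_prim _ _ hp, ih, succ_nsmul]

lemma mul_comm_pt [Coalgebra.IsCocomm k C] (x y : WithConv (C →ₐ[k] R)) : x * y = y * x := by
  apply Pts.ext
  intro a
  rw [mul_apply, mul_apply]
  conv_lhs => rw [← Coalgebra.comm_comul]
  generalize (CoalgebraStruct.comul (R := k) a : C ⊗[k] C) = z
  induction z with
  | zero => simp
  | add x y hx hy => simp only [map_add, hx, hy]
  | tmul x y => simp [mul_comm]

end prim

section pow

variable {k : Type u} [Field k] {C : Type u} [CommRing C] [HopfAlgebra k C] [Coalgebra.IsCocomm k C]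

variable (k C) in
/-- The comorphism of `x ↦ x ^ n`. -/
noncomputable def pw (n : ℕ) : C →ₐ[k] C := ((toConv (AlgHom.id k C)) ^ n).ofConv

lemma pow_eq_mapPt {R : Type u} [CommRing R] [Algebra k R] (x : WithConv (C →ₐ[k] R)) (n : ℕ) :
    x ^ n = toConv (x.ofConv.comp (pw k C n)) := by
  have h1 : mapPt x.ofConv (toConv (AlgHom.id k C)) = x := rfl
  conv_lhs => rw [← h1, ← map_pow]
  rfl

lemma comul_pw (n : ℕ) (c : C) : CoalgebraStruct.comul (R := k) (pw k C n c) =
    Algebra.TensorProduct.map (pw k C n) (pw k C n) (CoalgebraStruct.comul (R := k) c) := by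
  let i : WithConv (C →ₐ[k] C ⊗[k] C) := toConv Algebra.TensorProduct.includeLeft
  let j : WithConv (C →ₐ[k] C ⊗[k] C) := toConv Algebra.TensorProduct.includeRight
  have h1 : toConv (Bialgebra.comulAlgHom k C) = i * j := by
    apply Pts.ext
    intro c
    rw [mul_apply]
    change CoalgebraStruct.comul (R := k) c = _
    generalize (CoalgebraStruct.comul (R := k) c : C ⊗[k] C) = z
    induction z with
    | zero => simp
    | add x y hx hy => simp only [map_add, ← hx, ← hy]
    | tmul x y =>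
      rw [Algebra.TensorProduct.lift_tmul]
      change _ = (x ⊗ₜ 1) * (1 ⊗ₜ y)
      simp
  have h2 : mapPt (Bialgebra.comulAlgHom k C) ((toConv (AlgHom.id k C)) ^ n) = i ^ n * j ^ n := by
    rw [map_pow, ← Commute.mul_pow (mul_comm_pt i j), ← h1]
    rfl
  have h3 : mapPt (Algebra.TensorProduct.map (pw k C n) (pw k C n)) (i * j) = i ^ n * j ^ n := by
    rw [map_mul, pow_eq_mapPt i, pow_eq_mapPt j]
    congr 1
    · apply Pts.ext
      intro c
      change Algebra.TensorProduct.map (pw k C n) (pw k C n) (c ⊗ₜ 1) = pw k C n c ⊗ₜ 1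
      rw [Algebra.TensorProduct.map_tmul, map_one]
    · apply Pts.ext
      intro c
      change Algebra.TensorProduct.map (pw k C n) (pw k C n) (1 ⊗ₜ c) = 1 ⊗ₜ pw k C n c
      rw [Algebra.TensorProduct.map_tmul, map_one]
  rw [← h1] at h3
  exact DFunLike.congr_fun (congrArg WithConv.ofConv (h2.trans h3.symm)) c

lemma T_pw (n : ℕ) (g : C →ₗ[k] k) (c : C) :
    T C g (pw k C n c) = pw k C n (T C (g ∘ₗ (pw k C n).toLinearMap) c) := by
  rw [T_apply, T_apply]
  change TensorProduct.rid k C (LinearMap.lTensor C g (CoalgebraStruct.comul (R := k) (pw k C n c))) =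
    pw k C n (TensorProduct.rid k C (LinearMap.lTensor C (g ∘ₗ (pw k C n).toLinearMap)
      (CoalgebraStruct.comul (R := k) c)))
  rw [comul_pw]
  generalize (CoalgebraStruct.comul (R := k) c : C ⊗[k] C) = z
  induction z with
  | zero => simp
  | add x y hx hy => simp only [map_add, hx, hy]
  | tmul x y => simp

lemma T_linear_sub (g h : C →ₗ[k] k) (a : k) (c : C) : T C (g - a • h) c = T C g c - a • T C h c := by
  simp only [T_apply, LinearMap.lTensor_sub, LinearMap.lTensor_smul, LinearMap.sub_apply, map_sub,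
    LinearMap.smul_apply, map_smul]

lemma eq_const_of_mem_soc_one {c : C} (hc : c ∈ soc k C C 1) :
    c = algebraMap k C (CoalgebraStruct.counit (R := k) c) := by
  rw [mem_soc_succ_iff] at hc
  obtain ⟨z, hz⟩ := hc
  have h0 : (soc k C C 0).subtype = 0 := by
    ext x
    exact (mem_soc_zero _).mp x.2
  rw [h0, LinearMap.rTensor_zero, LinearMap.zero_apply] at hz
  have h1 := congrArg (fun z => TensorProduct.lid k C
      (LinearMap.rTensor C (CoalgebraStruct.counit (R := k) (A := C)) z)) (sub_eq_zero.mp hz.symm)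
  simp only [Coalgebra.rTensor_counit_comul, LinearMap.rTensor_tmul, TensorProduct.lid_tmul,
    one_smul] at h1
  rw [Algebra.algebraMap_eq_smul_one]
  exact h1

lemma exists_prim_of_mem_soc_two {p : C} (hp : p ∈ soc k C C 2) :
    CoalgebraStruct.comul (R := k) (p - algebraMap k C (CoalgebraStruct.counit (R := k) p)) =
      (p - algebraMap k C (CoalgebraStruct.counit (R := k) p)) ⊗ₜ 1 +
      1 ⊗ₜ (p - algebraMap k C (CoalgebraStruct.counit (R := k) p)) := by
  rw [mem_soc_succ_iff] at hp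
  obtain ⟨z, hz⟩ := hp
  have h1 : ∀ z : (soc k C C 1) ⊗[k] C, ∃ q : C,
      LinearMap.rTensor C (soc k C C 1).subtype z = 1 ⊗ₜ q := by
    intro z
    induction z with
    | zero => exact ⟨0, by simp⟩
    | add x y hx hy =>
      obtain ⟨a, ha⟩ := hx
      obtain ⟨b, hb⟩ := hy
      exact ⟨a + b, by rw [map_add, ha, hb, TensorProduct.tmul_add]⟩
    | tmul x y =>
      refine ⟨CoalgebraStruct.counit (R := k) (x : C) • y, ?_⟩
      rw [LinearMap.rTensor_tmul]
      change (x : C) ⊗ₜ y = _
      conv_lhs => rw [eq_const_of_mem_soc_one x.2, Algebra.algebraMap_eq_smul_one]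
      rw [TensorProduct.smul_tmul]
  obtain ⟨q, hq⟩ := h1 z
  rw [hq, eq_sub_iff_add_eq] at hz
  have h2 := congrArg (fun z => TensorProduct.lid k C
      (LinearMap.rTensor C (CoalgebraStruct.counit (R := k) (A := C)) z)) hz
  simp only [Coalgebra.rTensor_counit_comul, LinearMap.rTensor_tmul, TensorProduct.lid_tmul,
    one_smul, map_add, Bialgebra.counit_one] at h2
  have h3 : q = p - algebraMap k C (CoalgebraStruct.counit (R := k) p) := by
    rw [eq_sub_iff_add_eq, Algebra.algebraMap_eq_smul_one]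
    exact h2
  rw [map_sub, ← hz, ← h3, Algebra.algebraMap_eq_smul_one, map_smul, Bialgebra.comul_one,
    Algebra.TensorProduct.one_def, h3, Algebra.algebraMap_eq_smul_one, TensorProduct.sub_tmul,
    TensorProduct.tmul_sub, ← TensorProduct.smul_tmul', TensorProduct.tmul_smul]
  abel

lemma pw_sub_mem_one (n : ℕ) {p : C} (hp : p ∈ soc k C C 2) :
    pw k C n p - (n : k) • p ∈ soc k C C 1 := by
  have h1 := pow_prim (toConv (AlgHom.id k C)) (exists_prim_of_mem_soc_two hp) n
  change pw k C n (p - algebraMap k C (CoalgebraStruct.counit (R := k) p)) =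
    n • (p - algebraMap k C (CoalgebraStruct.counit (R := k) p)) at h1
  rw [map_sub, AlgHom.commutes, sub_eq_iff_eq_add, ← Nat.cast_smul_eq_nsmul k] at h1
  rw [h1, smul_sub]
  have h2 : (n : k) • p - (n : k) • algebraMap k C (CoalgebraStruct.counit (R := k) p) +
      algebraMap k C (CoalgebraStruct.counit (R := k) p) - (n : k) • p =
      (1 - (n : k)) • algebraMap k C (CoalgebraStruct.counit (R := k) p) := by
    rw [sub_smul, one_smul]
    abel
  rw [h2]
  exact Submodule.smul_mem _ _ (algebraMap_mem_soc _)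

/-- The operator `D_g = T_g - g(1)`. -/
noncomputable def Dg (g : C →ₗ[k] k) (c : C) : C := T C g c - g 1 • c

lemma Dg_sub (g : C →ₗ[k] k) (x y : C) : Dg g (x - y) = Dg g x - Dg g y := by
  simp only [Dg, map_sub, smul_sub]; abel

lemma Dg_smul (g : C →ₗ[k] k) (a : k) (x : C) : Dg g (a • x) = a • Dg g x := by
  simp only [Dg, map_smul, smul_sub]
  rw [smul_comm (g 1) a x]

lemma Dg_comm (g h : C →ₗ[k] k) (x : C) : Dg g (Dg h x) = Dg h (Dg g x) := by
  simp only [Dg, map_sub, map_smul, smul_sub, T_comm g h]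
  rw [smul_comm (g 1) (h 1) x]
  abel

lemma Dg_linear (g h : C →ₗ[k] k) (a : k) (c : C) : Dg (g - a • h) c = Dg g c - a • Dg h c := by
  simp only [Dg, T_linear_sub, LinearMap.sub_apply, LinearMap.smul_apply, sub_smul, smul_sub,
    smul_eq_mul, mul_smul]
  abel

lemma Dg_pw (n : ℕ) (g : C →ₗ[k] k) (c : C) :
    Dg g (pw k C n c) = pw k C n (Dg (g ∘ₗ (pw k C n).toLinearMap) c) := by
  simp only [Dg, T_pw, map_sub, map_smul]
  congr 2
  exact congrArg g (map_one (pw k C n)).symm

lemma mem_soc_Dg (m : ℕ) (c : C) : c ∈ soc k C C (m + 1) ↔ ∀ g : C →ₗ[k] k, Dg g c ∈ soc k C C m :=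
  mem_soc_succ m c

lemma Dg_mem_of_kills (h : C →ₗ[k] k) (hh : ∀ p ∈ soc k C C 2, Dg h p = 0) (m : ℕ) :
    ∀ c ∈ soc k C C (m + 2), Dg h c ∈ soc k C C m := by
  induction m with
  | zero => intro c hc; rw [hh c hc]; exact zero_mem _
  | succ m ih =>
    intro c hc
    rw [mem_soc_Dg]
    intro g
    rw [Dg_comm]
    exact ih _ ((mem_soc_Dg _ _).mp hc g)

lemma pw_sub_mem (n : ℕ) (m : ℕ) :
    ∀ c ∈ soc k C C (m + 1), pw k C n c - ((n : k) ^ m) • c ∈ soc k C C m := by
  induction m with
  | zero =>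
    intro c hc
    rw [eq_const_of_mem_soc_one hc, AlgHom.commutes, pow_zero, one_smul, sub_self]
    exact zero_mem _
  | succ m ih =>
    intro c hc
    rw [mem_soc_Dg]
    intro g
    let h : C →ₗ[k] k := g ∘ₗ (pw k C n).toLinearMap - (n : k) • g
    have hkill : ∀ p ∈ soc k C C 2, Dg h p = 0 := by
      intro p hp
      rw [Dg_linear]
      have h1 := (mem_soc_Dg _ _).mp hp (g ∘ₗ (pw k C n).toLinearMap)
      have h2 : Dg (g ∘ₗ (pw k C n).toLinearMap) p = Dg g (pw k C n p) := by
        rw [Dg_pw, eq_const_of_mem_soc_one h1, AlgHom.commutes]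
      rw [h2, ← Dg_smul, ← Dg_sub]
      exact (mem_soc_zero _).mp ((mem_soc_Dg _ _).mp (pw_sub_mem_one n hp) g)
    have h1 := Dg_mem_of_kills h hkill m c hc
    have h2 := ih _ ((mem_soc_Dg _ _).mp hc (g ∘ₗ (pw k C n).toLinearMap))
    rw [Dg_sub, Dg_pw, Dg_smul]
    have h3 : pw k C n (Dg (g ∘ₗ (pw k C n).toLinearMap) c) - (n : k) ^ (m + 1) • Dg g c =
        (pw k C n (Dg (g ∘ₗ (pw k C n).toLinearMap) c) -
          (n : k) ^ m • Dg (g ∘ₗ (pw k C n).toLinearMap) c) + (n : k) ^ m • Dg h c := by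
      rw [Dg_linear, smul_sub, smul_smul, ← pow_succ]
      abel
    rw [h3]
    exact add_mem h2 (Submodule.smul_mem _ _ h1)

theorem pw_bijective (hC : HopfRep.IsUnipotent k C) (n : ℕ) (hn : (n : k) ≠ 0) :
    Function.Bijective (pw k C n) := by
  rw [Groth.Agent.Sga3.H793.UnipPart2.isUnipotent_iff_soc] at hC
  constructor
  · rw [injective_iff_map_eq_zero]
    intro c hc
    obtain ⟨m, hm⟩ := hC c
    induction m with
    | zero => exact (mem_soc_zero _).mp hm
    | succ m ih =>
      apply ih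
      have h1 := pw_sub_mem n m c hm
      rw [hc, zero_sub, Submodule.neg_mem_iff] at h1
      exact (Submodule.smul_mem_iff _ (pow_ne_zero m hn)).mp h1
  · intro c
    obtain ⟨m, hm⟩ := hC c
    change c ∈ LinearMap.range (pw k C n).toLinearMap
    induction m generalizing c with
    | zero => rw [(mem_soc_zero _).mp hm]; exact zero_mem _
    | succ m ih =>
      have h1 := ih _ (pw_sub_mem n m c hm)
      have h2 : pw k C n c ∈ LinearMap.range (pw k C n).toLinearMap := ⟨c, rfl⟩
      have h3 := sub_mem h2 h1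
      rw [sub_sub_cancel] at h3
      exact (Submodule.smul_mem_iff _ (pow_ne_zero m hn)).mp h3

/-- `x ↦ x ^ n` is bijective on the points of a commutative unipotent group. -/
theorem pow_bijective (hC : HopfRep.IsUnipotent k C) (n : ℕ) (hn : (n : k) ≠ 0)
    (R : Type u) [CommRing R] [Algebra k R] :
    Function.Bijective (fun x : WithConv (C →ₐ[k] R) ↦ x ^ n) := by
  let e := AlgEquiv.ofBijective (pw k C n) (pw_bijective hC n hn)
  constructor
  · intro x y h
    have h1 : x ^ n = y ^ n := h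
    rw [pow_eq_mapPt, pow_eq_mapPt] at h1
    apply Pts.ext
    intro c
    have h2 := DFunLike.congr_fun (congrArg WithConv.ofConv h1) (e.symm c)
    change x.ofConv (e (e.symm c)) = y.ofConv (e (e.symm c)) at h2
    rwa [e.apply_symm_apply] at h2
  · intro x
    refine ⟨toConv (x.ofConv.comp (e.symm : C →ₐ[k] C)), ?_⟩
    change (toConv (x.ofConv.comp (e.symm : C →ₐ[k] C))) ^ n = x
    rw [pow_eq_mapPt]
    apply Pts.ext
    intro c
    change x.ofConv (e.symm (e c)) = x.ofConv c
    rw [e.symm_apply_apply]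

end pow

section ker

variable {k : Type u} [Field k] {A : Type u} [CommRing A] [HopfAlgebra k A]
  {B : Type u} [CommRing B] [HopfAlgebra k B] (ψ : B →ₐc[k] A) (J : Ideal A) [J.IsHopfIdeal k]
  (hJ : J = kerIdeal ψ) {R : Type u} [CommRing R] [Algebra k R]

include hJ in
lemma mem_ker_iff (x : WithConv (A →ₐ[k] R)) : x ∈ (res (R := R) ψ).ker ↔
    ∃ y : WithConv ((A ⧸ J) →ₐ[k] R), res (Bialgebra.Quotient.mkBialgHom (R := k) J) y = x := by
  rw [MonoidHom.mem_ker, ← kill_iff, ← hJ]
  constructor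
  · intro h
    exact ⟨toConv (Ideal.Quotient.liftₐ J x.ofConv h), rfl⟩
  · rintro ⟨y, rfl⟩ a ha
    rw [res_apply]
    have h1 : (Bialgebra.Quotient.mkBialgHom (R := k) J) a = 0 := Ideal.Quotient.eq_zero_iff_mem.mpr ha
    rw [h1, map_zero]

lemma res_mk_injective : Function.Injective
    (res (R := R) (Bialgebra.Quotient.mkBialgHom (R := k) J)) := by
  intro x y h
  apply Pts.ext
  intro c
  obtain ⟨a, rfl⟩ := Ideal.Quotient.mk_surjective c
  exact DFunLike.congr_fun (congrArg WithConv.ofConv h) a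

include hJ in
lemma isMulCommutative_ker [Coalgebra.IsCocomm k (A ⧸ J)] : IsMulCommutative (res (R := R) ψ).ker := by
  refine ⟨⟨fun x y ↦ Subtype.ext ?_⟩⟩
  obtain ⟨a, ha⟩ := (mem_ker_iff ψ J hJ x.1).mp x.2
  obtain ⟨b, hb⟩ := (mem_ker_iff ψ J hJ y.1).mp y.2
  change x.1 * y.1 = y.1 * x.1
  rw [← ha, ← hb, ← map_mul, mul_comm_pt, map_mul]

include hJ in
lemma div_ker [Coalgebra.IsCocomm k (A ⧸ J)] (hU : HopfRep.IsUnipotent k (A ⧸ J)) (n : ℕ)
    (hn : (n : k) ≠ 0) : Mean.Div (res (R := R) ψ).ker n where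
  surj x hx := by
    obtain ⟨a, rfl⟩ := (mem_ker_iff ψ J hJ x).mp hx
    obtain ⟨b, hb⟩ := (pow_bijective hU n hn R).2 a
    refine ⟨_, (mem_ker_iff ψ J hJ _).mpr ⟨b, rfl⟩, ?_⟩
    rw [← map_pow]
    congr 1
  inj x hx h := by
    obtain ⟨a, rfl⟩ := (mem_ker_iff ψ J hJ x).mp hx
    have h1 : a ^ n = 1 ^ n := by
      apply res_mk_injective J
      rw [map_pow, h, one_pow, map_one]
    rw [(pow_bijective hU n hn R).1 h1, map_one]

end ker

end K203.UDiv
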