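import Groth.Agent.SGA3.K203.HomPt
import Groth.Agent.SGA3.K203.UDiv

/-!
# Liftings of smooth groups of multiplicative type in extensions by commutative unipotent groups
-/

set_option autoImplicit false
set_option linter.unusedSectionVars false

universe u

open TensorProduct WithConv

namespace K203.CommLift

open K203.Pts K203.TorsPts K203.HomPt K203.Mean Groth.Agent.Books.DynBasic
  Groth.Agent.Sga3A.MTBasis

section cocomm

variable {k : Type u} [Field k] {B : Type u} [CommRing B] [HopfAlgebra k B]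
  {K : Type u} [Field K] [Algebra k K] {M : Type u} [CommGroup M] (g : GBasis K (K ⊗[k] B) M)

include g in
theorem isCocomm_of_gbasis : Coalgebra.IsCocomm k B := by
  let i : B ⊗[k] B →ₐ[k] K ⊗[k] (B ⊗[k] B) := Algebra.TensorProduct.includeRight
  have hi : Function.Injective i := one_tmul_injective (R := k) K (B ⊗[k] B)
  let x : WithConv (B →ₐ[k] B ⊗[k] B) := toConv Algebra.TensorProduct.includeLeft
  let y : WithConv (B →ₐ[k] B ⊗[k] B) := toConv Algebra.TensorProduct.includeRight
  have h1 : x * y = y * x := by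
    apply mapPt_injective i hi
    rw [map_mul, map_mul]
    exact mul_comm_pt g _ _
  refine ⟨?_⟩
  apply LinearMap.ext
  intro b
  have h2 := DFunLike.congr_fun (congrArg WithConv.ofConv h1) b
  rw [mul_apply, mul_apply] at h2
  have h3 : ∀ z : B ⊗[k] B, Algebra.TensorProduct.lift x.ofConv y.ofConv (fun _ _ ↦ .all _ _) z = z := by
    intro z
    induction z with
    | zero => simp
    | add u v hu hv => rw [map_add, hu, hv]
    | tmul u v =>
      rw [Algebra.TensorProduct.lift_tmul]
      change (u ⊗ₜ[k] (1 : B)) * ((1 : B) ⊗ₜ[k] v) = _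
      simp
  have h4 : ∀ z : B ⊗[k] B, Algebra.TensorProduct.lift y.ofConv x.ofConv (fun _ _ ↦ .all _ _) z =
      TensorProduct.comm k B B z := by
    intro z
    induction z with
    | zero => simp
    | add u v hu hv => rw [map_add, map_add, hu, hv]
    | tmul u v =>
      rw [Algebra.TensorProduct.lift_tmul]
      change ((1 : B) ⊗ₜ[k] u) * (v ⊗ₜ[k] (1 : B)) = _
      simp
  rw [h3, h4] at h2
  exact h2.symm

end cocomm

section torsC

variable {k : Type u} [CommRing k] (B : Type u) [CommRing B] [HopfAlgebra k B]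
  [Coalgebra.IsCocomm k B]

/-- The points killed by `N`. -/
noncomputable def torsC (L : Type u) [CommRing L] [Algebra k L] (N : ℕ) :
    Subgroup (WithConv (B →ₐ[k] L)) where
  carrier := {x | x ^ N = 1}
  one_mem' := one_pow N
  mul_mem' {x y} hx hy := by
    change (x * y) ^ N = 1
    rw [Commute.mul_pow (UDiv.mul_comm_pt x y), show x ^ N = 1 from hx, show y ^ N = 1 from hy,
      one_mul]
  inv_mem' {x} hx := by
    change x⁻¹ ^ N = 1
    rw [inv_pow, show x ^ N = 1 from hx, inv_one]

variable {B}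

lemma mem_torsC {L : Type u} [CommRing L] [Algebra k L] {N : ℕ} {x : WithConv (B →ₐ[k] L)} :
    x ∈ torsC B L N ↔ x ^ N = 1 := Iff.rfl

lemma torsC_le {L : Type u} [CommRing L] [Algebra k L] {N N' : ℕ} (h : N ∣ N') :
    torsC (k := k) B L N ≤ torsC B L N' := by
  intro x hx
  obtain ⟨c, rfl⟩ := h
  rw [mem_torsC] at hx ⊢
  rw [pow_mul, hx, one_pow]

/-- functoriality -/
noncomputable def torsMap {L L' : Type u} [CommRing L] [Algebra k L] [CommRing L'] [Algebra k L']
    (φ : L →ₐ[k] L') (N : ℕ) : torsC (k := k) B L N →* torsC (k := k) B L' N :=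
  ((mapPt φ).comp (torsC B L N).subtype).codRestrict (torsC B L' N) fun x ↦ by
    rw [mem_torsC, MonoidHom.comp_apply, ← map_pow]
    have h1 : (x : WithConv (B →ₐ[k] L)) ^ N = 1 := x.2
    change mapPt φ ((x : WithConv (B →ₐ[k] L)) ^ N) = 1
    rw [h1, map_one]

lemma coe_torsMap {L L' : Type u} [CommRing L] [Algebra k L] [CommRing L'] [Algebra k L']
    (φ : L →ₐ[k] L') (N : ℕ) (x : torsC (k := k) B L N) :
    (torsMap φ N x : WithConv (B →ₐ[k] L')) = mapPt φ x := rfl

end torsC

section bij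

variable {k : Type u} [Field k] {B : Type u} [CommRing B] [HopfAlgebra k B]
  [Coalgebra.IsCocomm k B]
  {K : Type u} [Field K] [Algebra k K] {M : Type u} [CommGroup M] (g : GBasis K (K ⊗[k] B) M)

lemma tors_eq (N : ℕ) : tors g K N = torsC (k := k) B K N := rfl

include g in
theorem torsMap_bijective [IsAlgClosed K] {L : Type u} [CommRing L] [Algebra k L] [IsLocalRing L]
    (φ : K →ₐ[k] L) (N : ℕ) (hN : (N : K) ≠ 0) : Function.Bijective (torsMap (B := B) φ N) := by
  let _ : Algebra K L := φ.toRingHom.toAlgebra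
  have : IsScalarTower k K L := .of_algebraMap_eq' φ.comp_algebraMap.symm
  constructor
  · intro x y h
    apply Subtype.ext
    exact mapPt_injective φ φ.toRingHom.injective (congrArg Subtype.val h)
  · intro x
    obtain ⟨y, hy, hyx⟩ := exists_lift_tors g (K := K) (L := L) N hN x.1 x.2
    exact ⟨⟨y, hy⟩, Subtype.ext hyx⟩

end bij

section loc

variable {k : Type u} [Field k] {B : Type u} [CommRing B] [Bialgebra k B]

lemma equivFinsupp_bc {ι : Type*} [DecidableEq ι] (b : Module.Basis ι k B) {L L' : Type u} [CommRing L] [Algebra k L]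
    [CommRing L'] [Algebra k L'] (φ : L →ₐ[k] L') (z : L ⊗[k] B) (i : ι) :
    TensorProduct.equivFinsuppOfBasisRight (M := L') b (bc B φ z) i =
      φ (TensorProduct.equivFinsuppOfBasisRight (M := L) b z i) := by
  induction z with
  | zero => simp
  | add x y hx hy => simp only [map_add, Finsupp.add_apply, hx, hy]
  | tmul c a =>
    rw [bc_tmul, TensorProduct.equivFinsuppOfBasisRight_apply_tmul_apply,
      TensorProduct.equivFinsuppOfBasisRight_apply_tmul_apply, map_smul]

/-- Elements of `L ⊗ B` are determined by their images in the `L_P ⊗ B`. -/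
theorem eq_of_localization {L : Type u} [CommRing L] [Algebra k L] (z z' : L ⊗[k] B)
    (h : ∀ (P : Ideal L) [P.IsMaximal],
      bc B (IsScalarTower.toAlgHom k L (Localization.AtPrime P)) z =
      bc B (IsScalarTower.toAlgHom k L (Localization.AtPrime P)) z') : z = z' := by
  classical
  let b := Module.Basis.ofVectorSpace k B
  apply (TensorProduct.equivFinsuppOfBasisRight (M := L) b).injective
  ext i
  rw [← sub_eq_zero]
  apply eq_zero_of_localization
  intro P hP
  rw [map_sub, sub_eq_zero]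
  have h1 := congrArg (fun w ↦ TensorProduct.equivFinsuppOfBasisRight b w i) (h P)
  simp only [equivFinsupp_bc] at h1
  exact h1

/-- Elements of `K` whose two images in `K ⊗ K` agree are in `k`. -/
theorem exists_of_loc {K : Type u} [Field K] [Algebra k K] (z : K ⊗[k] B)
    (h : ∀ (L : Type u) [CommRing L] [Algebra k L] [IsLocalRing L] (φ₁ φ₂ : K →ₐ[k] L),
      bc B φ₁ z = bc B φ₂ z) : ∃ b : B, (1 : K) ⊗ₜ[k] b = z := by
  apply exists_of_bc_eq
  apply eq_of_localization
  intro P hP
  rw [bc_bc, bc_bc]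
  exact h _ _ _

end loc

section stab

variable {k : Type u} [Field k] {A : Type u} [CommRing A] [HopfAlgebra k A]
  [Algebra.FiniteType k A]
  {B : Type u} [CommRing B] [HopfAlgebra k B] [Coalgebra.IsCocomm k B]
  {K : Type u} [Field K] [Algebra k K]

/-- Noetherian stabilisation of the transporter of `f` to `f'` on the torsion points. -/
theorem exists_stab (f f' : WithConv (B →ₐ[k] K) → WithConv (A →ₐ[k] K)) :
    ∃ N₀ : ℕ, (N₀ : K) ≠ 0 ∧ ∀ (L : Type u) [CommRing L] [Algebra k L] (φ : K →ₐ[k] L)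
      (u : WithConv (A →ₐ[k] L)),
      (∀ h ∈ torsC (k := k) B K N₀, mapPt φ (f' h) * u = u * mapPt φ (f h)) →
      ∀ N : ℕ, (N : K) ≠ 0 → ∀ h ∈ torsC (k := k) B K N, mapPt φ (f' h) * u = u * mapPt φ (f h) := by
  let ι : K →ₐ[k] K ⊗[k] A := Algebra.TensorProduct.includeLeft
  let univ : WithConv (A →ₐ[k] K ⊗[k] A) := toConv Algebra.TensorProduct.includeRight
  let κ : WithConv (B →ₐ[k] K) → WithConv (A →ₐ[k] K ⊗[k] A) := fun h ↦ mapPt ι (f' h) * univ
  let κ' : WithConv (B →ₐ[k] K) → WithConv (A →ₐ[k] K ⊗[k] A) := fun h ↦ univ * mapPt ι (f h)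
  let I : ℕ → Ideal (K ⊗[k] A) := fun N ↦ Ideal.span
    {z | ∃ h ∈ torsC (k := k) B K N, ∃ a : A, z = (κ h).ofConv a - (κ' h).ofConv a}
  have hI : ∀ N N', N ∣ N' → I N ≤ I N' := by
    intro N N' hd
    apply Ideal.span_mono
    rintro z ⟨h, hh, a, rfl⟩
    exact ⟨h, torsC_le hd hh, a, rfl⟩
  -- the maximal ideal
  have hnoeth : IsNoetherianRing (K ⊗[k] A) := Algebra.FiniteType.isNoetherianRing K _
  obtain ⟨J₀, ⟨N₀, hN₀, rfl⟩, hmax⟩ := set_has_maximal_iff_noetherian.mpr hnoeth
    {J | ∃ N : ℕ, (N : K) ≠ 0 ∧ I N = J} ⟨I 1, 1, by simp, rfl⟩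
  refine ⟨N₀, hN₀, ?_⟩
  intro L _ _ φ u hu N hN h hh
  let e : K ⊗[k] A →ₐ[k] L := Algebra.TensorProduct.lift φ u.ofConv (fun _ _ ↦ .all _ _)
  have he1 : e.comp ι = φ := by
    apply AlgHom.ext
    intro c
    change e (c ⊗ₜ 1) = _
    simp [e]
  have he2 : mapPt e univ = u := by
    apply Pts.ext
    intro a
    change e (1 ⊗ₜ a) = _
    simp [e]
  have he3 : ∀ h, mapPt e (κ h) = mapPt φ (f' h) * u := by
    intro h
    rw [map_mul, he2, ← mapPt_comp, he1]
  have he4 : ∀ h, mapPt e (κ' h) = u * mapPt φ (f h) := by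
    intro h
    rw [map_mul, he2, ← mapPt_comp, he1]
  have hle : I N ≤ I N₀ := by
    refine (hI N (N₀ * N) (dvd_mul_left N N₀)).trans ?_
    have h1 : ¬ I N₀ < I (N₀ * N) := hmax _ ⟨N₀ * N, by rw [Nat.cast_mul]; exact mul_ne_zero hN₀ hN, rfl⟩
    have h2 := hI N₀ (N₀ * N) (dvd_mul_right N₀ N)
    exact (eq_of_le_of_not_lt h2 h1).ge
  have hk : I N₀ ≤ RingHom.ker (e : K ⊗[k] A →+* L) := by
    rw [Ideal.span_le]
    rintro z ⟨h, hh, a, rfl⟩
    have h1 := hu h hh
    rw [← he3, ← he4] at h1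
    have h2 := DFunLike.congr_fun (congrArg WithConv.ofConv h1) a
    change e ((κ h).ofConv a - (κ' h).ofConv a) = 0
    rw [map_sub, sub_eq_zero]
    exact h2
  rw [← he3, ← he4]
  apply Pts.ext
  intro a
  have h1 : (κ h).ofConv a - (κ' h).ofConv a ∈ I N := Ideal.subset_span ⟨h, hh, a, rfl⟩
  have h2 := hk (hle h1)
  change e ((κ h).ofConv a - (κ' h).ofConv a) = 0 at h2
  rw [map_sub, sub_eq_zero] at h2
  exact h2

end stab

end K203.CommLift
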