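import Groth.Agent.SGA3.K203.TorsPts
import Groth.Agent.SGA3.K203.Desc

/-!
# Homomorphisms `H_L → G_L` as points of `G` with values in `L ⊗ B`

`A`, `B` Hopf algebras over a ring `k`, `L` a `k`-algebra; `x : WithConv (A →ₐ[k] L ⊗ B)`.

* `ev x h`: the value of `x` at `h : B → L`;
* `IsHom x`: `x` is a homomorphism of `L`-groups;
* `IsHom.bc`, `IsHom.conj`, `isHom_of_bialgHom`, `exists_of_isHom` (descent).
-/

set_option autoImplicit false

universe u

open TensorProduct WithConv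

namespace K203.HomPt

open K203.Pts K203.TorsPts Groth.Agent.Books.DynBasic Groth.Agent.Sga3A.MTBasis

lemma conj_mul_aux {G : Type*} [Group G] (c l r : G) :
    c * (l * r) * c⁻¹ = c * l * c⁻¹ * (c * r * c⁻¹) := by group

section ring

variable {k : Type u} [CommRing k] {A : Type u} [CommRing A] [HopfAlgebra k A]
  {B : Type u} [CommRing B] [HopfAlgebra k B] {L : Type u} [CommRing L] [Algebra k L]

/-- evaluation at a point -/
noncomputable def evL (h : WithConv (B →ₐ[k] L)) : L ⊗[k] B →ₐ[k] L :=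
  Algebra.TensorProduct.lift (AlgHom.id k L) h.ofConv (fun _ _ ↦ .all _ _)

@[simp] lemma evL_tmul (h : WithConv (B →ₐ[k] L)) (c : L) (b : B) :
    evL h (c ⊗ₜ b) = c * h.ofConv b := by
  rw [evL, Algebra.TensorProduct.lift_tmul]; rfl

/-- The value of `x` at `h`. -/
noncomputable def ev (x : WithConv (A →ₐ[k] L ⊗[k] B)) (h : WithConv (B →ₐ[k] L)) :
    WithConv (A →ₐ[k] L) := mapPt (evL h) x

variable (B L) in
/-- `c ⊗ b ↦ c ⊗ (b ⊗ 1)` -/
noncomputable def mL : L ⊗[k] B →ₐ[k] L ⊗[k] (B ⊗[k] B) :=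
  Algebra.TensorProduct.map (AlgHom.id k L) Algebra.TensorProduct.includeLeft

variable (B L) in
/-- `c ⊗ b ↦ c ⊗ (1 ⊗ b)` -/
noncomputable def mR : L ⊗[k] B →ₐ[k] L ⊗[k] (B ⊗[k] B) :=
  Algebra.TensorProduct.map (AlgHom.id k L) Algebra.TensorProduct.includeRight

variable (B L) in
/-- `c ⊗ b ↦ c ⊗ Δ b` -/
noncomputable def mD : L ⊗[k] B →ₐ[k] L ⊗[k] (B ⊗[k] B) :=
  Algebra.TensorProduct.map (AlgHom.id k L) (Bialgebra.comulAlgHom k B)

/-- `x` is a homomorphism of `L`-groups. -/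
def IsHom (x : WithConv (A →ₐ[k] L ⊗[k] B)) : Prop :=
  mapPt (mD B L) x = mapPt (mL B L) x * mapPt (mR B L) x

lemma IsHom.ev_mul {x : WithConv (A →ₐ[k] L ⊗[k] B)} (hx : IsHom x) (h h' : WithConv (B →ₐ[k] L)) :
    ev x (h * h') = ev x h * ev x h' := by
  let e : L ⊗[k] (B ⊗[k] B) →ₐ[k] L := Algebra.TensorProduct.lift (AlgHom.id k L)
    (Algebra.TensorProduct.lift h.ofConv h'.ofConv (fun _ _ ↦ .all _ _)) (fun _ _ ↦ .all _ _)
  have h1 : e.comp (mD B L) = evL (h * h') := by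
    apply Algebra.TensorProduct.ext
    · apply AlgHom.ext
      intro c
      change e (c ⊗ₜ Bialgebra.comulAlgHom k B 1) = _
      rw [map_one]
      simp [e, evL]
    · apply AlgHom.ext
      intro b
      change e (1 ⊗ₜ CoalgebraStruct.comul (R := k) b) = evL (h * h') (1 ⊗ₜ b)
      rw [evL_tmul, one_mul, mul_apply, Algebra.TensorProduct.lift_tmul, map_one, one_mul]
  have h2 : e.comp (mL B L) = evL h := by
    apply Algebra.TensorProduct.ext
    · apply AlgHom.ext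
      intro c
      change e (c ⊗ₜ (1 ⊗ₜ 1)) = _
      simp [e, evL]
    · apply AlgHom.ext
      intro b
      change e (1 ⊗ₜ (b ⊗ₜ 1)) = _
      simp [e, evL]
  have h3 : e.comp (mR B L) = evL h' := by
    apply Algebra.TensorProduct.ext
    · apply AlgHom.ext
      intro c
      change e (c ⊗ₜ (1 ⊗ₜ 1)) = _
      simp [e, evL]
    · apply AlgHom.ext
      intro b
      change e (1 ⊗ₜ (1 ⊗ₜ b)) = _
      simp [e, evL]
  rw [ev, ev, ev, ← h1, ← h2, ← h3]
  have h4 := congrArg (mapPt e) hx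
  rw [map_mul] at h4
  exact h4

lemma IsHom.ev_one {x : WithConv (A →ₐ[k] L ⊗[k] B)} (hx : IsHom x) : ev x 1 = 1 := by
  have h1 := hx.ev_mul 1 1
  rw [mul_one] at h1
  exact (left_eq_mul.mp h1)

/-- The homomorphism on points. -/
noncomputable def IsHom.toHom {x : WithConv (A →ₐ[k] L ⊗[k] B)} (hx : IsHom x) :
    WithConv (B →ₐ[k] L) →* WithConv (A →ₐ[k] L) where
  toFun := ev x
  map_one' := hx.ev_one
  map_mul' := hx.ev_mul

variable {L' : Type u} [CommRing L'] [Algebra k L']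

lemma ev_bc (φ : L →ₐ[k] L') (x : WithConv (A →ₐ[k] L ⊗[k] B)) (h : WithConv (B →ₐ[k] L)) :
    ev (mapPt (bc B φ) x) (mapPt φ h) = mapPt φ (ev x h) := by
  have h1 : (evL (mapPt φ h)).comp (bc B φ) = φ.comp (evL h) := by
    apply Algebra.TensorProduct.ext
    · apply AlgHom.ext
      intro c
      simp [evL]
    · apply AlgHom.ext
      intro b
      simp [evL]
  rw [ev, ev, ← mapPt_comp, ← mapPt_comp, h1]

lemma IsHom.bc {x : WithConv (A →ₐ[k] L ⊗[k] B)} (hx : IsHom x) (φ : L →ₐ[k] L') :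
    IsHom (mapPt (bc B φ) x) := by
  let b₂ : L ⊗[k] (B ⊗[k] B) →ₐ[k] L' ⊗[k] (B ⊗[k] B) :=
    Algebra.TensorProduct.map φ (AlgHom.id k (B ⊗[k] B))
  have h1 : (mD B L').comp (Groth.Agent.Sga3A.MTBasis.bc B φ) = b₂.comp (mD B L) := by
    apply Algebra.TensorProduct.ext <;> ext <;> simp [mD, b₂]
  have h2 : (mL B L').comp (Groth.Agent.Sga3A.MTBasis.bc B φ) = b₂.comp (mL B L) := by
    apply Algebra.TensorProduct.ext <;> ext <;> simp [mL, b₂]
  have h3 : (mR B L').comp (Groth.Agent.Sga3A.MTBasis.bc B φ) = b₂.comp (mR B L) := by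
    apply Algebra.TensorProduct.ext <;> ext <;> simp [mR, b₂]
  have h4 := congrArg (mapPt b₂) hx
  rw [map_mul] at h4
  rw [IsHom, ← mapPt_comp, ← mapPt_comp, ← mapPt_comp, h1, h2, h3]
  exact h4

variable (B) in
/-- constants -/
noncomputable def cst (w : WithConv (A →ₐ[k] L)) : WithConv (A →ₐ[k] L ⊗[k] B) :=
  mapPt Algebra.TensorProduct.includeLeft w

lemma ev_cst (w : WithConv (A →ₐ[k] L)) (h : WithConv (B →ₐ[k] L)) : ev (cst B w) h = w := by
  apply Pts.ext
  intro a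
  change evL h (w.ofConv a ⊗ₜ 1) = _
  rw [evL_tmul, map_one, mul_one]

lemma ev_mul' (x y : WithConv (A →ₐ[k] L ⊗[k] B)) (h : WithConv (B →ₐ[k] L)) :
    ev (x * y) h = ev x h * ev y h := map_mul _ _ _

lemma ev_inv (x : WithConv (A →ₐ[k] L ⊗[k] B)) (h : WithConv (B →ₐ[k] L)) :
    ev x⁻¹ h = (ev x h)⁻¹ := map_inv _ _

lemma IsHom.conj {x : WithConv (A →ₐ[k] L ⊗[k] B)} (hx : IsHom x) (w : WithConv (A →ₐ[k] L)) :
    IsHom (cst B w * x * (cst B w)⁻¹) := by
  let c : WithConv (A →ₐ[k] L ⊗[k] (B ⊗[k] B)) := mapPt Algebra.TensorProduct.includeLeft w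
  have h1 : mapPt (mD B L) (cst B w) = c := by
    apply Pts.ext
    intro a
    change w.ofConv a ⊗ₜ Bialgebra.comulAlgHom k B 1 = w.ofConv a ⊗ₜ 1
    rw [map_one]
  have h2 : mapPt (mL B L) (cst B w) = c := rfl
  have h3 : mapPt (mR B L) (cst B w) = c := rfl
  rw [IsHom, map_mul, map_mul, map_mul, map_mul, map_mul, map_mul, map_inv, map_inv, map_inv, h1,
    h2, h3, show mapPt (mD B L) x = _ from hx]
  exact conj_mul_aux (G := WithConv (A →ₐ[k] L ⊗[k] (B ⊗[k] B))) c _ _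

/-- A lifting of `H`. -/
def IsLift (ψ : B →ₐc[k] A) (x : WithConv (A →ₐ[k] L ⊗[k] B)) : Prop :=
  ∀ b, x.ofConv (ψ b) = 1 ⊗ₜ b

lemma IsLift.res_ev {ψ : B →ₐc[k] A} {x : WithConv (A →ₐ[k] L ⊗[k] B)} (hx : IsLift ψ x)
    (h : WithConv (B →ₐ[k] L)) : res ψ (ev x h) = h := by
  apply Pts.ext
  intro b
  change evL h (x.ofConv (ψ b)) = _
  rw [hx, evL_tmul, one_mul]

lemma IsLift.bc {ψ : B →ₐc[k] A} {x : WithConv (A →ₐ[k] L ⊗[k] B)} (hx : IsLift ψ x)
    (φ : L →ₐ[k] L') : IsLift ψ (mapPt (Groth.Agent.Sga3A.MTBasis.bc B φ) x) := by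
  intro b
  change Groth.Agent.Sga3A.MTBasis.bc B φ (x.ofConv (ψ b)) = _
  rw [hx, bc_tmul, map_one]

lemma IsLift.conj {ψ : B →ₐc[k] A} {x : WithConv (A →ₐ[k] L ⊗[k] B)} (hx : IsLift ψ x)
    (w : WithConv (A →ₐ[k] L)) (hw : res ψ w = 1) : IsLift ψ (cst B w * x * (cst B w)⁻¹) := by
  have h1 : res ψ (cst B w) = 1 := by
    have h2 := congrArg (mapPt (Algebra.TensorProduct.includeLeft : L →ₐ[k] L ⊗[k] B)) hw
    rw [map_one] at h2
    exact h2
  have h2 : res ψ (cst B w * x * (cst B w)⁻¹) = res ψ x := by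
    rw [map_mul, map_mul, map_inv, h1, inv_one, mul_one, one_mul]
  intro b
  have h3 := DFunLike.congr_fun (congrArg WithConv.ofConv h2) b
  exact h3.trans (hx b)

/-- A point of `G(B)` as a point with values in `k ⊗ B`... and in `L ⊗ B`. -/
noncomputable def ofB (L : Type u) [CommRing L] [Algebra k L] (r : WithConv (A →ₐ[k] B)) :
    WithConv (A →ₐ[k] L ⊗[k] B) := mapPt Algebra.TensorProduct.includeRight r

lemma ev_ofB (r : WithConv (A →ₐ[k] B)) (h : WithConv (B →ₐ[k] L)) :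
    ev (ofB L r) h = mapPt h.ofConv r := by
  apply Pts.ext
  intro a
  change evL h (1 ⊗ₜ r.ofConv a) = h.ofConv (r.ofConv a)
  rw [evL_tmul, one_mul]

lemma isHom_ofB (r : A →ₐc[k] B) : IsHom (ofB L (pt r)) := by
  rw [IsHom]
  apply Pts.ext
  intro a
  rw [mul_apply]
  change (1 : L) ⊗ₜ[k] (CoalgebraStruct.comul (R := k) (r a)) = _
  rw [← CoalgHomClass.map_comp_comul_apply r a]
  generalize (CoalgebraStruct.comul (R := k) a : A ⊗[k] A) = z
  induction z with
  | zero => simp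
  | add x y hx hy => rw [map_add, map_add, TensorProduct.tmul_add, hx, hy]
  | tmul x y =>
    rw [TensorProduct.map_tmul, Algebra.TensorProduct.lift_tmul]
    change _ = ((1 : L) ⊗ₜ[k] (r x ⊗ₜ[k] (1 : B))) * ((1 : L) ⊗ₜ[k] ((1 : B) ⊗ₜ[k] r y))
    rw [Algebra.TensorProduct.tmul_mul_tmul, Algebra.TensorProduct.tmul_mul_tmul, one_mul, one_mul,
      mul_one]
    rfl

end ring

section field

variable {k : Type u} [Field k] {A : Type u} [CommRing A] [HopfAlgebra k A]
  {B : Type u} [CommRing B] [HopfAlgebra k B] {K : Type u} [Field K] [Algebra k K]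

/-- `K ⊗ (B ⊗ B) → (K ⊗ B) ⊗_K (K ⊗ B)` -/
lemma dist_mul (u v : K ⊗[k] B) : TensorProduct.AlgebraTensorModule.distribBaseChange k K B B
    (mL B K u * mR B K v) = u ⊗ₜ[K] v := by
  induction u with
  | zero => simp
  | add x y hx hy => rw [map_add, add_mul, map_add, hx, hy, TensorProduct.add_tmul]
  | tmul c b =>
    induction v with
    | zero => simp
    | add x y hx hy => rw [map_add, mul_add, map_add, hx, hy, TensorProduct.tmul_add]
    | tmul d e =>
      change TensorProduct.AlgebraTensorModule.distribBaseChange k K B B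
        ((c ⊗ₜ (b ⊗ₜ 1)) * (d ⊗ₜ (1 ⊗ₜ e))) = _
      rw [Algebra.TensorProduct.tmul_mul_tmul, Algebra.TensorProduct.tmul_mul_tmul, one_mul, mul_one]
      have h1 : (c * d) ⊗ₜ[k] (b ⊗ₜ[k] e) = (c * d) • ((1 : K) ⊗ₜ[k] (b ⊗ₜ[k] e)) := by
        rw [TensorProduct.smul_tmul', smul_eq_mul, mul_one]
      rw [h1, map_smul]
      have h2 : TensorProduct.AlgebraTensorModule.distribBaseChange k K B B
          ((1 : K) ⊗ₜ[k] (b ⊗ₜ[k] e)) = ((1 : K) ⊗ₜ[k] b) ⊗ₜ[K] ((1 : K) ⊗ₜ[k] e) :=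
        K203.Desc.ι₂_tmul K B b e
      rw [h2, mul_comm c d, mul_smul, TensorProduct.smul_tmul', ← TensorProduct.tmul_smul,
        TensorProduct.smul_tmul', TensorProduct.smul_tmul', smul_eq_mul, smul_eq_mul, mul_one,
        mul_one]

theorem isHom_of_bialgHom (R : (K ⊗[k] A) →ₐc[K] (K ⊗[k] B)) :
    IsHom (toConv (((R : (K ⊗[k] A) →ₐ[K] (K ⊗[k] B)).restrictScalars k).comp
      (Algebra.TensorProduct.includeRight : A →ₐ[k] K ⊗[k] A))) := by
  rw [IsHom]
  apply Pts.ext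
  intro a
  apply (TensorProduct.AlgebraTensorModule.distribBaseChange k K B B).injective
  have h1 : TensorProduct.AlgebraTensorModule.distribBaseChange k K B B (mD B K (R (1 ⊗ₜ a))) =
      CoalgebraStruct.comul (R := K) (R (1 ⊗ₜ a)) := by
    rw [Groth.Agent.Sga3.H809.Transfer.comul_eq]
    congr 1
  refine h1.trans ?_
  rw [← CoalgHomClass.map_comp_comul_apply R, comul_one_tmul, mul_apply]
  generalize (CoalgebraStruct.comul (R := k) a : A ⊗[k] A) = z
  induction z with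
  | zero => simp
  | add x y hx hy => rw [TensorProduct.tmul_add, map_add, map_add, map_add, map_add, hx, hy]
  | tmul x y =>
    rw [Algebra.TensorProduct.lift_tmul]
    refine Eq.trans ?_ (dist_mul (R (1 ⊗ₜ x)) (R (1 ⊗ₜ y))).symm
    have h2 : TensorProduct.AlgebraTensorModule.distribBaseChange k K A A
          ((1 : K) ⊗ₜ[k] (x ⊗ₜ[k] y)) = ((1 : K) ⊗ₜ[k] x) ⊗ₜ[K] ((1 : K) ⊗ₜ[k] y) :=
        K203.Desc.ι₂_tmul K A x y
    rw [h2]
    rfl

/-- Descent of a homomorphism. -/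
theorem exists_of_isHom (ψ : B →ₐc[k] A) (x : WithConv (A →ₐ[k] K ⊗[k] B)) (hx : IsHom x)
    (hψ : IsLift ψ x) (h : ∀ a : A, ∃ b : B, (1 : K) ⊗ₜ[k] b = x.ofConv a) :
    ∃ r : A →ₐc[k] B, r.comp ψ = BialgHom.id k B := by
  let i : B →ₐ[k] K ⊗[k] B := Algebra.TensorProduct.includeRight
  have hi : Function.Injective i := one_tmul_injective (R := k) K B
  let F : A →ₐ[k] K ⊗[k] B := x.ofConv
  have hF : ∀ a, F a ∈ i.range := fun a => h a
  let r₀ : A →ₐ[k] B := ((AlgEquiv.ofInjective i hi).symm : i.range →ₐ[k] B).comp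
    (F.codRestrict i.range hF)
  have hr₀ : ∀ a, (1 : K) ⊗ₜ[k] r₀ a = x.ofConv a := by
    intro a
    have h2 := (AlgEquiv.ofInjective i hi).apply_symm_apply (F.codRestrict i.range hF a)
    exact congrArg Subtype.val h2
  have h1 : ∀ a, (evL (1 : WithConv (B →ₐ[k] K))) (x.ofConv a) =
      algebraMap k K (CoalgebraStruct.counit (R := k) a) := by
    intro a
    exact DFunLike.congr_fun (congrArg WithConv.ofConv hx.ev_one) a
  refine ⟨BialgHom.ofAlgHom r₀ ?_ ?_, ?_⟩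
  · apply AlgHom.ext
    intro a
    have h2 := h1 a
    rw [← hr₀, evL_tmul, one_mul, one_apply] at h2
    exact (algebraMap k K).injective h2
  · apply AlgHom.ext
    intro a
    apply one_tmul_injective (R := k) K (B ⊗[k] B)
    have hx' : mapPt (mD B K) x = mapPt (mL B K) x * mapPt (mR B K) x := hx
    have h2 := DFunLike.congr_fun (congrArg WithConv.ofConv hx') a
    rw [mul_apply] at h2
    have h3 : (mapPt (mD B K) x).ofConv a = (1 : K) ⊗ₜ[k] CoalgebraStruct.comul (R := k) (r₀ a) := by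
      change mD B K (x.ofConv a) = _
      rw [← hr₀]
      rfl
    refine Eq.trans ?_ (h2.symm.trans h3)
    change (1 : K) ⊗ₜ[k] (TensorProduct.map r₀.toLinearMap r₀.toLinearMap
      (CoalgebraStruct.comul (R := k) a)) = _
    generalize (CoalgebraStruct.comul (R := k) a : A ⊗[k] A) = z
    induction z with
    | zero => simp
    | add x y hx hy => rw [map_add, map_add, TensorProduct.tmul_add, hx, hy]
    | tmul u v =>
      rw [TensorProduct.map_tmul, Algebra.TensorProduct.lift_tmul]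
      change _ = mL B K (x.ofConv u) * mR B K (x.ofConv v)
      rw [← hr₀, ← hr₀]
      change _ = ((1 : K) ⊗ₜ[k] (r₀ u ⊗ₜ[k] (1 : B))) * ((1 : K) ⊗ₜ[k] ((1 : B) ⊗ₜ[k] r₀ v))
      rw [Algebra.TensorProduct.tmul_mul_tmul, Algebra.TensorProduct.tmul_mul_tmul, one_mul, one_mul,
        mul_one]
      rfl
  · apply DFunLike.ext
    intro b
    apply one_tmul_injective (R := k) K B
    exact (hr₀ (ψ b)).trans (hψ b)

end field

end K203.HomPt
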