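import Mathlib.AlgebraicGeometry.Morphisms.Flat
import Mathlib.AlgebraicGeometry.Morphisms.UniversallyOpen
import Mathlib.AlgebraicGeometry.Morphisms.Smooth

/-!
# A property of morphisms which holds in a neighbourhood of a point of the source

`Near P f x`: the restriction of `f` to some open neighbourhood of `x` has the property `P`.
-/

set_option autoImplicit false

universe u

open CategoryTheory AlgebraicGeometry Limits

namespace K203.Loc

/-- `f` has the property `P` in a neighbourhood of `x`. -/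
def Near (P : MorphismProperty Scheme.{u}) ⦃X Y : Scheme.{u}⦄ (f : X ⟶ Y) (x : X) : Prop :=
  ∃ U : X.Opens, x ∈ U ∧ P (U.ι ≫ f)

/-- Invariance under isomorphisms of a property of a morphism at a point of the source. -/
def IsoInv (Q : ∀ ⦃X Y : Scheme.{u}⦄ (_ : X ⟶ Y), X → Prop) : Prop :=
  ∀ ⦃X Y X' Y' : Scheme.{u}⦄ (f : X ⟶ Y) (f' : X' ⟶ Y') (e : X ⟶ X') (e' : Y ⟶ Y') [IsIso e]
    [IsIso e'], e ≫ f' = f ≫ e' → ∀ x, Q f x ↔ Q f' (e x)

variable {P : MorphismProperty Scheme.{u}}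

lemma Near.of_property {X Y : Scheme.{u}} {f : X ⟶ Y} [P.RespectsIso] (h : P f) (x : X) :
    Near P f x := by
  refine ⟨⊤, trivial, ?_⟩
  have h1 : (⊤ : X.Opens).ι = X.topIso.hom := rfl
  rw [h1]
  exact (P.cancel_left_of_respectsIso _ _).mpr h

/-- The set of points near which `f` has the property `P` is open. -/
lemma isOpen_setOf {X Y : Scheme.{u}} (f : X ⟶ Y) : IsOpen {x | Near P f x} := by
  rw [isOpen_iff_forall_mem_open]
  rintro x ⟨U, hx, hU⟩
  exact ⟨U, fun y hy ↦ ⟨U, hy, hU⟩, U.isOpen, hx⟩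

/-- Restriction of the neighbourhood. -/
lemma restrict [IsZariskiLocalAtSource P] {X Y : Scheme.{u}} {f : X ⟶ Y} {U V : X.Opens} (hVU : V ≤ U)
    (h : P (U.ι ≫ f)) : P (V.ι ≫ f) := by
  have : V.ι = X.homOfLE hVU ≫ U.ι := by simp
  rw [this, Category.assoc]
  exact IsZariskiLocalAtSource.comp h _

lemma exists_le [IsZariskiLocalAtSource P] {X Y : Scheme.{u}} {f : X ⟶ Y} {x : X} (h : Near P f x)
    (V : X.Opens) (hV : x ∈ V) : ∃ U : X.Opens, x ∈ U ∧ U ≤ V ∧ P (U.ι ≫ f) := by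
  obtain ⟨U, hx, hU⟩ := h
  exact ⟨U ⊓ V, ⟨hx, hV⟩, inf_le_right, restrict inf_le_left hU⟩

/-- `f` has the property `P` if it has it near every point. -/
lemma property_of_forall [IsZariskiLocalAtSource P] {X Y : Scheme.{u}} {f : X ⟶ Y}
    (h : ∀ x, Near P f x) : P f := by
  choose U hU hP using h
  have hcov : ⨆ x, U x = ⊤ := by
    rw [eq_top_iff]
    intro x _
    rw [TopologicalSpace.Opens.mem_iSup]
    exact ⟨x, hU x⟩
  rw [IsZariskiLocalAtSource.iff_of_openCover (P := P) (X.openCoverOfIsOpenCover U hcov)]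
  exact hP

lemma property_iff_forall [IsZariskiLocalAtSource P] {X Y : Scheme.{u}} (f : X ⟶ Y) :
    P f ↔ ∀ x, Near P f x :=
  ⟨fun h x ↦ Near.of_property h x, property_of_forall⟩

lemma near_comp_iff [IsZariskiLocalAtSource P] {X' X Y : Scheme.{u}} (j : X' ⟶ X) [IsOpenImmersion j]
    (f : X ⟶ Y) (x : X') : Near P (j ≫ f) x ↔ Near P f (j x) := by
  constructor
  · rintro ⟨U, hx, hU⟩
    refine ⟨j ''ᵁ U, ⟨x, hx, rfl⟩, ?_⟩
    have h1 : (j ''ᵁ U).ι = (j.isoImage U).inv ≫ U.ι ≫ j := by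
      rw [Iso.eq_inv_comp]
      simp
    rw [h1]
    simp only [Category.assoc]
    exact (P.cancel_left_of_respectsIso _ _).mpr hU
  · rintro ⟨U, hx, hU⟩
    refine ⟨j ⁻¹ᵁ U, hx, ?_⟩
    have h1 : (j ⁻¹ᵁ U).ι ≫ j ≫ f = (j ∣_ U) ≫ U.ι ≫ f := by
      rw [morphismRestrict_ι_assoc]
    rw [h1]
    exact IsZariskiLocalAtSource.comp hU _

lemma near_isoInv [IsZariskiLocalAtSource P] : IsoInv (Near P) := by
  intro X Y X' Y' f f' e e' _ _ h x
  rw [← near_comp_iff e f', h]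
  constructor
  · rintro ⟨U, hx, hU⟩
    refine ⟨U, hx, ?_⟩
    rw [← Category.assoc]
    exact (P.cancel_right_of_respectsIso _ _).mpr hU
  · rintro ⟨U, hx, hU⟩
    refine ⟨U, hx, ?_⟩
    rw [← Category.assoc] at hU
    exact (P.cancel_right_of_respectsIso _ _).mp hU

/-- Base change of open restrictions. -/
lemma isPullback_restrict {X Y X' Y' : Scheme.{u}} {g' : X' ⟶ X} {f' : X' ⟶ Y'} {f : X ⟶ Y} {g : Y' ⟶ Y}
    (h : IsPullback g' f' f g) (W : X.Opens) :
    IsPullback (g' ∣_ W) ((g' ⁻¹ᵁ W).ι ≫ f') (W.ι ≫ f) g :=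
  (isPullback_morphismRestrict g' W).paste_vert h

/-- The property holds near a point of the base change if it holds near the image. -/
lemma near_of_isPullback [P.IsStableUnderBaseChange] {X Y X' Y' : Scheme.{u}} {g' : X' ⟶ X}
    {f' : X' ⟶ Y'} {f : X ⟶ Y} {g : Y' ⟶ Y} (h : IsPullback g' f' f g) (x : X')
    (hx : Near P f (g' x)) : Near P f' x := by
  obtain ⟨U, hU, hP⟩ := hx
  exact ⟨g' ⁻¹ᵁ U, hU, P.of_isPullback (isPullback_restrict h U) hP⟩

end K203.Loc
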