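import Groth.Agent.Books.DynBasic
import Mathlib.RingTheory.Bialgebra.Quotient
import Mathlib.RingTheory.HopfAlgebra.Quotient

/-!
# Groups of points of Hopf algebras, kernels and semidirect decompositions

The group of `R`-points of `Spec A` is `WithConv (A →ₐ[k] R)` (group structure `DynBasic.ptGroup`).

* `res φ`: restriction of points along a bialgebra map; `mapPt` functoriality in `R`;
* `kill_iff`: a point kills the ideal generated by the augmentation ideal of `B` iff its image in `Spec B` is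
  trivial;
* `theta`, `theta_bijective`: if `r : A → B` is a bialgebra retraction of `ψ : B → A` then
  `A → (A/J) ⊗ B`, the comorphism of `(u, h) ↦ u s(h)`, is bijective.
-/

set_option autoImplicit false

universe u

open TensorProduct WithConv

namespace K203.Pts

open Groth.Agent.Books.DynBasic

variable {k : Type u} [CommRing k] {A : Type u} [CommRing A] [HopfAlgebra k A]
  {B : Type u} [CommRing B] [HopfAlgebra k B] {C : Type u} [CommRing C] [HopfAlgebra k C]
  {R : Type u} [CommRing R] [Algebra k R] {S : Type u} [CommRing S] [Algebra k S]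

/-- Restriction of points along a bialgebra map (the homomorphism of groups of points). -/
noncomputable def res (φ : B →ₐc[k] A) : WithConv (A →ₐ[k] R) →* WithConv (B →ₐ[k] R) where
  toFun n := toConv (n.ofConv.comp (φ : B →ₐ[k] A))
  map_one' := by
    apply WithConv.ext
    apply AlgHom.ext
    intro a
    change algebraMap k R (CoalgebraStruct.counit (R := k) (φ a)) =
      algebraMap k R (CoalgebraStruct.counit (R := k) a)
    rw [CoalgHomClass.counit_comp_apply]
  map_mul' f g := by
    apply WithConv.ext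
    exact AlgHom.convMul_comp_bialgHom_distrib f g φ

lemma res_apply (φ : B →ₐc[k] A) (n : WithConv (A →ₐ[k] R)) (b : B) :
    (res φ n).ofConv b = n.ofConv (φ b) := rfl

lemma mapPt_res (f : R →ₐ[k] S) (φ : B →ₐc[k] A) (n : WithConv (A →ₐ[k] R)) :
    mapPt f (res φ n) = res φ (mapPt f n) := rfl

lemma res_comp (φ : B →ₐc[k] A) (χ : C →ₐc[k] B) (n : WithConv (A →ₐ[k] R)) :
    res (φ.comp χ) n = res χ (res φ n) := rfl

lemma res_id (n : WithConv (A →ₐ[k] R)) : res (BialgHom.id k A) n = n := rfl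

lemma mapPt_comp {T : Type u} [CommRing T] [Algebra k T] (f : R →ₐ[k] S) (g : S →ₐ[k] T)
    (n : WithConv (A →ₐ[k] R)) : mapPt (g.comp f) n = mapPt g (mapPt f n) := rfl

lemma one_apply (a : A) : (1 : WithConv (A →ₐ[k] R)).ofConv a =
    algebraMap k R (CoalgebraStruct.counit (R := k) a) := rfl

lemma mul_apply (x y : WithConv (A →ₐ[k] R)) (a : A) : (x * y).ofConv a =
    Algebra.TensorProduct.lift x.ofConv y.ofConv (fun _ _ ↦ .all _ _)
      (CoalgebraStruct.comul (R := k) a) := by
  refine (AlgHom.convMul_apply x y a).trans ?_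
  rfl

lemma ext {x y : WithConv (A →ₐ[k] R)} (h : ∀ a, x.ofConv a = y.ofConv a) : x = y :=
  WithConv.ext (AlgHom.ext h)

/-- A bialgebra map as a point. -/
noncomputable def pt (φ : A →ₐc[k] B) : WithConv (A →ₐ[k] B) := toConv (φ : A →ₐ[k] B)

@[simp] lemma pt_apply (φ : A →ₐc[k] B) (a : A) : (pt φ).ofConv a = φ a := rfl

/-- Composition with a bialgebra map is compatible with products. -/
lemma map_one_point (φ : A →ₐc[k] B) :
    mapPt (Bialgebra.counitAlgHom k B) (pt φ) = (1 : WithConv (A →ₐ[k] k)) := by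
  apply ext
  intro a
  exact CoalgHomClass.counit_comp_apply φ a

section Ker

variable (ψ : B →ₐc[k] A)

/-- The ideal of the kernel of the homomorphism defined by `ψ`. -/
noncomputable def kerIdeal : Ideal A :=
  Ideal.map (ψ : B →+* A) (RingHom.ker (Bialgebra.counitAlgHom k B))

variable {ψ}

/-- A point kills the kernel ideal iff its image is trivial. -/
theorem kill_iff (x : WithConv (A →ₐ[k] R)) :
    (∀ a ∈ kerIdeal ψ, x.ofConv a = 0) ↔ res ψ x = 1 := by
  constructor
  · intro h
    apply ext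
    intro b
    have h1 := h (ψ (b - algebraMap k B (CoalgebraStruct.counit (R := k) b)))
      (Ideal.mem_map_of_mem (ψ : B →+* A) (by
        rw [RingHom.mem_ker, map_sub, AlgHom.commutes]
        exact sub_self _))
    rw [map_sub, map_sub, sub_eq_zero] at h1
    rw [res_apply, h1, one_apply]
    have h2 : ψ (algebraMap k B (CoalgebraStruct.counit (R := k) b)) =
        algebraMap k A (CoalgebraStruct.counit (R := k) b) := AlgHomClass.commutes ψ _
    rw [h2, AlgHom.commutes]
  · intro h
    have h1 : kerIdeal ψ ≤ RingHom.ker (x.ofConv : A →+* R) := by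
      rw [kerIdeal, Ideal.map_le_iff_le_comap]
      intro b hb
      have h2 : CoalgebraStruct.counit (R := k) b = 0 := hb
      change x.ofConv (ψ b) = 0
      rw [← res_apply, h, one_apply, h2, map_zero]
    exact fun a ha ↦ h1 ha

end Ker

section Semi

variable (ψ : B →ₐc[k] A) (r : A →ₐc[k] B) (hr : r.comp ψ = BialgHom.id k B) (J : Ideal A)
  (hJ : J = kerIdeal ψ)

include hr in
lemma res_r (b : B) : r (ψ b) = b := DFunLike.congr_fun hr b

/-- The universal point of the kernel part: `g ↦ g s(q(g))⁻¹`. -/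
noncomputable def yPt : WithConv (A →ₐ[k] A) :=
  toConv (AlgHom.id k A) * (toConv ((ψ : B →ₐ[k] A).comp (r : A →ₐ[k] B)))⁻¹

include hr in
lemma res_yPt : res ψ (yPt ψ r) = 1 := by
  rw [yPt, map_mul, map_inv, mul_inv_eq_one]
  apply ext
  intro b
  rw [res_apply, res_apply]
  change ψ b = ψ (r (ψ b))
  rw [res_r ψ r hr]

/-- The algebra map `A/J → A`. -/
noncomputable def tau : (A ⧸ J) →ₐ[k] A :=
  Ideal.Quotient.liftₐ J (yPt ψ r).ofConv (by
    rw [hJ]
    exact (kill_iff _).mpr (res_yPt ψ r hr))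

@[simp] lemma tau_mk (a : A) :
    tau ψ r hr J hJ (Ideal.Quotient.mk J a) = (yPt ψ r).ofConv a := rfl

/-- The point `u`. -/
noncomputable def iL : WithConv (A →ₐ[k] (A ⧸ J) ⊗[k] B) :=
  toConv ((Algebra.TensorProduct.includeLeft : (A ⧸ J) →ₐ[k] (A ⧸ J) ⊗[k] B).comp
    (Ideal.Quotient.mkₐ k J))

/-- The point `s(h)`. -/
noncomputable def iR : WithConv (A →ₐ[k] (A ⧸ J) ⊗[k] B) :=
  toConv ((Algebra.TensorProduct.includeRight : B →ₐ[k] (A ⧸ J) ⊗[k] B).comp (r : A →ₐ[k] B))

/-- The comorphism of `(u, h) ↦ u s(h)`. -/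
noncomputable def theta : A →ₐ[k] (A ⧸ J) ⊗[k] B := (iL J * iR r J).ofConv

lemma toConv_theta : toConv (theta r J) = iL J * iR r J := rfl

lemma theta_eq : theta r J = (Algebra.TensorProduct.map (Ideal.Quotient.mkₐ k J)
    (r : A →ₐ[k] B)).comp (Bialgebra.comulAlgHom k A) := by
  apply AlgHom.ext
  intro a
  rw [theta, mul_apply]
  change _ = Algebra.TensorProduct.map (Ideal.Quotient.mkₐ k J) (r : A →ₐ[k] B)
    (CoalgebraStruct.comul (R := k) a)
  generalize CoalgebraStruct.comul (R := k) a = z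
  induction z with
  | zero => rw [map_zero, map_zero]
  | add x y hx hy => rw [map_add, map_add, hx, hy]
  | tmul x y =>
    rw [Algebra.TensorProduct.lift_tmul, Algebra.TensorProduct.map_tmul]
    change (Ideal.Quotient.mk J x ⊗ₜ 1) * (1 ⊗ₜ r y) = _
    rw [Algebra.TensorProduct.tmul_mul_tmul, mul_one, one_mul]
    rfl

/-- The inverse of `theta`. -/
noncomputable def phi : (A ⧸ J) ⊗[k] B →ₐ[k] A :=
  Algebra.TensorProduct.lift (tau ψ r hr J hJ) (ψ : B →ₐ[k] A) (fun _ _ ↦ .all _ _)

lemma phi_comp_theta : (phi ψ r hr J hJ).comp (theta r J) = AlgHom.id k A := by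
  have h1 : mapPt (phi ψ r hr J hJ) (toConv (theta r J)) = toConv (AlgHom.id k A) := by
    rw [toConv_theta, map_mul]
    have h2 : mapPt (phi ψ r hr J hJ) (iL J) = yPt ψ r := by
      apply ext
      intro a
      change phi ψ r hr J hJ (Ideal.Quotient.mk J a ⊗ₜ 1) = _
      rw [phi, Algebra.TensorProduct.lift_tmul, map_one, mul_one, tau_mk]
    have h3 : mapPt (phi ψ r hr J hJ) (iR r J) =
        toConv ((ψ : B →ₐ[k] A).comp (r : A →ₐ[k] B)) := by
      apply ext
      intro a
      change phi ψ r hr J hJ (1 ⊗ₜ r a) = _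
      rw [phi, Algebra.TensorProduct.lift_tmul, map_one, one_mul]
      rfl
    rw [h2, h3, yPt, inv_mul_cancel_right]
  exact congrArg WithConv.ofConv h1

include hJ in
lemma res_iL : res ψ (iL (B := B) J) = 1 := by
  have h1 : res ψ (toConv (Ideal.Quotient.mkₐ k J)) = (1 : WithConv (B →ₐ[k] A ⧸ J)) := by
    rw [← kill_iff]
    intro a ha
    rw [← hJ] at ha
    exact Ideal.Quotient.eq_zero_iff_mem.mpr ha
  have h3 := congrArg (mapPt (Algebra.TensorProduct.includeLeft :
    (A ⧸ J) →ₐ[k] (A ⧸ J) ⊗[k] B)) h1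
  rw [map_one] at h3
  exact h3

include hr in
lemma res_iR : res ψ (iR r J) = toConv (Algebra.TensorProduct.includeRight :
    B →ₐ[k] (A ⧸ J) ⊗[k] B) := by
  apply ext
  intro b
  change 1 ⊗ₜ r (ψ b) = 1 ⊗ₜ b
  rw [res_r ψ r hr]

include hr hJ in
lemma theta_psi (b : B) : theta r J (ψ b) = 1 ⊗ₜ b := by
  have h1 : res ψ (toConv (theta r J)) = toConv (Algebra.TensorProduct.includeRight :
      B →ₐ[k] (A ⧸ J) ⊗[k] B) := by
    rw [toConv_theta, map_mul, res_iL ψ J hJ, res_iR ψ r hr J]
    exact _root_.one_mul (M := WithConv (B →ₐ[k] (A ⧸ J) ⊗[k] B)) _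
  exact DFunLike.congr_fun (congrArg WithConv.ofConv h1) b

lemma theta_comp_phi : (theta r J).comp (phi ψ r hr J hJ) = AlgHom.id k _ := by
  apply Algebra.TensorProduct.ext
  · apply AlgHom.ext
    intro d
    obtain ⟨a, rfl⟩ := Ideal.Quotient.mk_surjective d
    change theta r J (phi ψ r hr J hJ (Ideal.Quotient.mk J a ⊗ₜ 1)) = Ideal.Quotient.mk J a ⊗ₜ 1
    rw [phi, Algebra.TensorProduct.lift_tmul, map_one, mul_one, tau_mk]
    have h1 : mapPt (theta r J) (yPt ψ r) = iL J := by
      rw [yPt, map_mul, map_inv]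
      have h2 : mapPt (theta r J) (toConv ((ψ : B →ₐ[k] A).comp (r : A →ₐ[k] B))) = iR r J := by
        apply ext
        intro a
        exact theta_psi ψ r hr J hJ (r a)
      rw [h2, mul_inv_eq_iff_eq_mul]
      rfl
    exact DFunLike.congr_fun (congrArg WithConv.ofConv h1) a
  · apply AlgHom.ext
    intro b
    change theta r J (phi ψ r hr J hJ (1 ⊗ₜ b)) = 1 ⊗ₜ b
    rw [phi, Algebra.TensorProduct.lift_tmul, map_one, one_mul]
    exact theta_psi ψ r hr J hJ b

include hr hJ in
/-- `A ≅ (A/J) ⊗ B`. -/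
theorem theta_bijective : Function.Bijective (theta r J) := by
  have h1 := phi_comp_theta ψ r hr J hJ
  have h2 := theta_comp_phi ψ r hr J hJ
  constructor
  · exact Function.LeftInverse.injective (g := phi ψ r hr J hJ) fun a ↦ DFunLike.congr_fun h1 a
  · exact Function.RightInverse.surjective (g := phi ψ r hr J hJ) fun a ↦ DFunLike.congr_fun h2 a

end Semi

end K203.Pts
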