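import Groth.Agent.Sga3A.MTBasis
import Groth.Agent.Books.ComodBasic
import Groth.Agent.Books.ComodHom
import Mathlib.Algebra.CharP.Algebra
import Mathlib.Algebra.CharP.Lemmas
import Mathlib.Algebra.CharP.Frobenius

/-!
# Hopf algebras with a basis of group-like elements

* `coord_of_skew`: the coordinates of an element `β` with `Δβ = 1 ⊗ β + β ⊗ g`;
* `coord_pow`: the coordinate at `1` of a `p`-th power;
* `exists_decomp`: weight decomposition of comodules.
-/

set_option autoImplicit false

universe u v

open TensorProduct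

namespace K203.RetB

open Groth.Agent.Sga3A.MTBasis Groth.Agent.Books.ComodBasic Groth.Agent.Books.ComodHom

variable {k : Type u} [Field k] {B : Type u} [CommRing B] [HopfAlgebra k B] {M : Type u} [CommGroup M]
  (g : GBasis k B M)

lemma coord_b [DecidableEq M] (m n : M) : g.b.coord n (g.b m) = if m = n then 1 else 0 := by
  rw [Module.Basis.coord_apply, Module.Basis.repr_self, Finsupp.single_apply]

/-- coordinates of the comultiplication -/
lemma coord_comul [DecidableEq M] (β : B) (m n : M) :
    TensorProduct.lid k k (TensorProduct.map (g.b.coord m) (g.b.coord n)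
      (CoalgebraStruct.comul (R := k) β)) = if m = n then g.b.coord m β else 0 := by
  let L : B →ₗ[k] k := (TensorProduct.lid k k).toLinearMap ∘ₗ
    (TensorProduct.map (g.b.coord m) (g.b.coord n)) ∘ₗ (CoalgebraStruct.comul (R := k) (A := B))
  let L' : B →ₗ[k] k := if m = n then g.b.coord m else 0
  have h : L = L' := by
    apply g.b.ext
    intro i
    change TensorProduct.lid k k (TensorProduct.map (g.b.coord m) (g.b.coord n)
      (CoalgebraStruct.comul (R := k) (g.b i))) = _
    have h1 : CoalgebraStruct.comul (R := k) (g.b i) = g.b i ⊗ₜ[k] g.b i := (g.gl i).comul_eq_tmul_self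
    rw [h1, TensorProduct.map_tmul, TensorProduct.lid_tmul, coord_b, coord_b]
    by_cases hmn : m = n
    · subst hmn
      simp only [L', if_true]
      rw [coord_b]
      split_ifs <;> simp
    · simp only [L', if_neg hmn, LinearMap.zero_apply]
      by_cases h1 : i = m
      · rw [if_pos h1, if_neg (fun h2 => hmn (h1.symm.trans h2)), smul_zero]
      · rw [if_neg h1, zero_smul]
  have h2 := LinearMap.congr_fun h β
  refine h2.trans ?_
  simp only [L']
  split_ifs <;> rfl

/-- `Δβ = 1 ⊗ β + β ⊗ g`. -/
def IsSkew (m : M) (β : B) : Prop :=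
  CoalgebraStruct.comul (R := k) β = (1 : B) ⊗ₜ[k] β + β ⊗ₜ[k] g.b m

variable {g}

theorem IsSkew.coord_eq_zero {m : M} {β : B} (h : IsSkew g m β) {n : M} (h1 : n ≠ 1) (hm : n ≠ m) :
    g.b.coord n β = 0 := by
  classical
  have h2 := coord_comul g β n n
  rw [h, map_add, TensorProduct.map_tmul, TensorProduct.map_tmul, map_add, TensorProduct.lid_tmul,
    TensorProduct.lid_tmul, if_pos rfl, coord_b, ← g.one, coord_b, if_neg (Ne.symm h1), if_neg (Ne.symm hm),
    zero_smul, smul_zero, add_zero] at h2
  exact h2.symm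

theorem IsSkew.eq_zero {β : B} (h : IsSkew g 1 β) : β = 0 := by
  classical
  have h3 : g.b.coord 1 β = 0 := by
    have h2 := coord_comul g β 1 1
    rw [h, map_add, TensorProduct.map_tmul, TensorProduct.map_tmul, map_add, TensorProduct.lid_tmul,
      TensorProduct.lid_tmul, if_pos rfl] at h2
    have h4 : g.b.coord 1 (1 : B) = 1 := by
      conv_lhs => rw [← g.one]
      rw [coord_b, if_pos rfl]
    rw [h4, coord_b, if_pos rfl, one_smul, smul_eq_mul, mul_one] at h2
    exact add_eq_right.1 h2
  apply g.b.repr.injective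
  rw [map_zero]
  ext n
  by_cases hn : n = 1
  · rw [hn]
    exact h3
  · exact h.coord_eq_zero hn hn

theorem IsSkew.coord_one {m : M} {β : B} (h : IsSkew g m β) (hm : m ≠ 1) :
    g.b.coord m β = - g.b.coord 1 β := by
  classical
  have h2 := coord_comul g β 1 m
  have h4 : g.b.coord 1 (1 : B) = 1 := by
    conv_lhs => rw [← g.one]
    rw [coord_b, if_pos rfl]
  rw [h, map_add, TensorProduct.map_tmul, TensorProduct.map_tmul, map_add, TensorProduct.lid_tmul,
    TensorProduct.lid_tmul, if_neg (Ne.symm hm), h4, coord_b, if_pos rfl, one_smul, smul_eq_mul, mul_one] at h2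
  exact eq_neg_of_add_eq_zero_left h2

/-- the form of a skew primitive element -/
theorem IsSkew.eq {m : M} {β : B} (h : IsSkew g m β) : β = (- g.b.coord 1 β) • (g.b m - 1) := by
  classical
  by_cases hm : m = 1
  · subst hm
    rw [g.one, sub_self, smul_zero]
    exact h.eq_zero
  · apply g.b.repr.injective
    ext n
    have h4 : g.b.repr (1 : B) = Finsupp.single 1 1 := by
      conv_lhs => rw [← g.one]
      rw [Module.Basis.repr_self]
    rw [map_smul, map_sub, h4, Module.Basis.repr_self, Finsupp.smul_apply, Finsupp.sub_apply,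
      Finsupp.single_apply, Finsupp.single_apply]
    by_cases h1 : n = 1
    · subst h1
      rw [if_neg hm, if_pos rfl, zero_sub, smul_eq_mul, neg_mul_neg, mul_one]
      rfl
    · by_cases h2 : n = m
      · subst h2
        rw [if_pos rfl, if_neg (Ne.symm h1), sub_zero, smul_eq_mul, mul_one]
        exact h.coord_one hm
      · rw [if_neg (Ne.symm h2), if_neg (Ne.symm h1), sub_zero, smul_zero]
        exact h.coord_eq_zero h1 h2

theorem isSkew_sub (m : M) : IsSkew g m (g.b m - 1) := by
  have h1 : CoalgebraStruct.comul (R := k) (g.b m) = g.b m ⊗ₜ[k] g.b m := (g.gl m).comul_eq_tmul_self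
  have h2 : CoalgebraStruct.comul (R := k) (1 : B) = (1 : B) ⊗ₜ[k] (1 : B) := Bialgebra.comul_one
  change CoalgebraStruct.comul (R := k) (g.b m - 1) = _
  rw [map_sub, h1, h2, TensorProduct.tmul_sub, TensorProduct.sub_tmul]
  abel

theorem IsSkew.add {m : M} {β γ : B} (h : IsSkew g m β) (h' : IsSkew g m γ) : IsSkew g m (β + γ) := by
  change CoalgebraStruct.comul (R := k) (β + γ) = _
  rw [map_add, h, h', TensorProduct.tmul_add, TensorProduct.add_tmul]
  abel

theorem IsSkew.smul {m : M} {β : B} (h : IsSkew g m β) (c : k) : IsSkew g m (c • β) := by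
  change CoalgebraStruct.comul (R := k) (c • β) = _
  rw [map_smul, h, smul_add, TensorProduct.smul_tmul', TensorProduct.smul_tmul', TensorProduct.smul_tmul]

theorem IsSkew.sub {m : M} {β γ : B} (h : IsSkew g m β) (h' : IsSkew g m γ) : IsSkew g m (β - γ) := by
  have := h.add (h'.smul (-1))
  rwa [neg_one_smul, ← sub_eq_add_neg] at this

variable (g)

/-- The coordinate at `1` of a `p`-th power. -/
theorem coord_pow (p : ℕ) [Fact p.Prime] [CharP k p] (d : B)
    (hd : ∀ n : M, n ≠ 1 → n ^ p = 1 → g.b.coord n d = 0) : g.b.coord 1 (d ^ p) = g.b.coord 1 d ^ p := by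
  classical
  have hnt : Nontrivial B := (Bialgebra.counitAlgHom k B).toRingHom.domain_nontrivial
  have hp : CharP B p := charP_of_injective_algebraMap (algebraMap k B).injective p
  have h1 : d = (g.b.repr d).sum fun i a => a • g.b i := (g.b.linearCombination_repr d).symm
  have hpow : ∀ (n : M) (j : ℕ), g.b n ^ j = g.b (n ^ j) := by
    intro n j
    induction j with
    | zero => rw [pow_zero, pow_zero, g.one]
    | succ j ih => rw [pow_succ, pow_succ, g.mul, ih]
  have h2 : d ^ p = ∑ i ∈ (g.b.repr d).support, (g.b.repr d i) ^ p • g.b (i ^ p) := by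
    conv_lhs => rw [h1]
    rw [Finsupp.sum, sum_pow_char]
    refine Finset.sum_congr rfl fun i _ => ?_
    rw [smul_pow, hpow]
  rw [h2, map_sum]
  have h3 : ∀ i ∈ (g.b.repr d).support, i ≠ 1 → g.b.coord 1 ((g.b.repr d i) ^ p • g.b (i ^ p)) = 0 := by
    intro i _ hi
    rw [map_smul, coord_b]
    split_ifs with h
    · have h4 : g.b.repr d i = 0 := hd i hi h
      rw [h4, zero_pow (Fact.out : p.Prime).ne_zero, zero_smul]
    · rw [smul_zero]
  rw [Finset.sum_eq_single 1 h3]
  · rw [map_smul, one_pow, coord_b, if_pos rfl, smul_eq_mul, mul_one]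
    rfl
  · intro h
    rw [Finsupp.notMem_support_iff.1 h, zero_pow (Fact.out : p.Prime).ne_zero, zero_smul, map_zero]

section Comod

variable {V : Type v} [AddCommGroup V] [Module k V] [HopfRep.Comod k B V]

theorem dmul_coord (φ : B →ₗ[k] k) (m : M) : dmul k B φ (g.b.coord m) = φ (g.b m) • g.b.coord m := by
  classical
  apply g.b.ext
  intro n
  rw [dmul, LinearMap.comp_apply, LinearMap.comp_apply, (g.gl n).comul_eq_tmul_self,
      TensorProduct.map_tmul, LinearMap.mul'_apply, LinearMap.smul_apply, coord_b, smul_eq_mul]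
  split_ifs with h
  · rw [h]
  · rw [mul_zero, mul_zero]

theorem coact_dact (m : M) (v : V) : HopfRep.Comod.coact (k := k) (A := B) (dact V (g.b.coord m) v) =
    dact V (g.b.coord m) v ⊗ₜ[k] g.b m := by
  rw [coact_eq_tmul_iff]
  intro ψ
  rw [dact_dact, dmul_coord]
  rw [dact_apply, dact_apply]
  induction HopfRep.Comod.coact (k := k) (A := B) v with
  | zero => simp
  | add x y hx hy => rw [map_add, hx, hy, map_add, smul_add]
  | tmul x y => rw [slice_tmul, slice_tmul, LinearMap.smul_apply, smul_eq_mul, mul_smul]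

/-- weight decomposition of a comodule -/
theorem exists_decomp (v : V) : ∃ s : Finset M, v = ∑ m ∈ s, dact V (g.b.coord m) v := by
  classical
  have h : ∀ z : V ⊗[k] B, ∃ s : Finset M, ∀ t : Finset M, s ⊆ t →
      slice V (CoalgebraStruct.counit (R := k) (A := B)) z = ∑ m ∈ t, slice V (g.b.coord m) z := by
    intro z
    induction z with
    | zero => exact ⟨∅, fun t _ => by simp⟩
    | add x y hx hy =>
      obtain ⟨s, hs⟩ := hx
      obtain ⟨s', hs'⟩ := hy
      refine ⟨s ∪ s', fun t ht => ?_⟩
      rw [map_add, hs t (Finset.union_subset_left ht), hs' t (Finset.union_subset_right ht),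
        ← Finset.sum_add_distrib]
      exact Finset.sum_congr rfl fun m _ => (map_add _ _ _).symm
    | tmul x y =>
      refine ⟨(g.b.repr y).support, fun t ht => ?_⟩
      have h1 : CoalgebraStruct.counit (R := k) y = ∑ m ∈ t, g.b.coord m y := by
        have h2 : y = ∑ i ∈ t, g.b.repr y i • g.b i := by
          conv_lhs => rw [← g.b.linearCombination_repr y]
          rw [Finsupp.linearCombination_apply]
          exact Finsupp.sum_of_support_subset _ ht _ (fun i _ => zero_smul _ _)
        conv_lhs => rw [h2]
        rw [map_sum]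
        refine Finset.sum_congr rfl fun m _ => ?_
        rw [map_smul]
        have h3 : CoalgebraStruct.counit (R := k) (g.b m) = 1 := (g.gl m).counit_eq_one
        rw [h3, smul_eq_mul, mul_one]
        rfl
      rw [slice_tmul, h1, Finset.sum_smul]
      exact Finset.sum_congr rfl fun m _ => (slice_tmul _ _ _).symm
  obtain ⟨s, hs⟩ := h (HopfRep.Comod.coact (k := k) (A := B) v)
  refine ⟨s, ?_⟩
  conv_lhs => rw [← dact_counit (k := k) (A := B) v]
  exact hs s (Finset.Subset.refl _)

end Comod

end K203.RetB
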