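import Groth.Agent.SGA3.K203.RetU
import Groth.Agent.SGA3.K203.CommConj
import Groth.Agent.SGA3.K983.FrobRoot
import Groth.Agent.SGA3.K520.PrimQuot
import Groth.Agent.S3294
import Groth.Agent.Sga7.H740.GaSub

/-!
# Conjugation of retractions and the cut theorem

* `conjR`: the conjugate of a bialgebra retraction by a `k`-point;
* `isHopfIdeal_span`: skew primitive functions generate a Hopf ideal;
* `oneStep`: over an algebraically closed field of characteristic `p`, if the kernel is smooth and non-trivial, then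
  after conjugation two retractions kill a non-zero Hopf ideal such that the kernel of the quotient is smooth.
-/

set_option autoImplicit false

universe u

open TensorProduct HopfRep WithConv

namespace K203.RetCut

open Groth.Agent.Sga3A.MTBasis Groth.Agent.Books.CharZeroUnip2 Groth.Agent.Books.DynBasic
open K503.Frame K503.CrMod K203.RetB K203.RetP K203.Pts K203.CommConj

variable {k : Type u} [Field k] {A B C : Type u} [CommRing A] [HopfAlgebra k A] [CommRing B] [HopfAlgebra k B]
  [CommRing C] [HopfAlgebra k C]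

section conj

/-- a bialgebra map is a homomorphism on points -/
theorem pt_hom (r : A →ₐc[k] B) : mapPt (Bialgebra.comulAlgHom k B) (pt r) =
    mapPt (Algebra.TensorProduct.includeLeft : B →ₐ[k] B ⊗[k] B) (pt r) *
    mapPt (Algebra.TensorProduct.includeRight : B →ₐ[k] B ⊗[k] B) (pt r) := by
  apply Pts.ext
  intro a
  rw [mul_apply]
  have h1 : (mapPt (Bialgebra.comulAlgHom k B) (pt r)).ofConv a =
      TensorProduct.map (r : A →ₐ[k] B).toLinearMap (r : A →ₐ[k] B).toLinearMap
        (CoalgebraStruct.comul (R := k) a) := (CoalgHomClass.map_comp_comul_apply r a).symm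
  rw [h1]
  generalize CoalgebraStruct.comul (R := k) a = z
  induction z with
  | zero => rw [map_zero, map_zero]
  | add x y hx hy => rw [map_add, map_add, hx, hy]
  | tmul x y =>
    rw [TensorProduct.map_tmul, Algebra.TensorProduct.lift_tmul]
    change (r x) ⊗ₜ[k] (r y) = ((r x) ⊗ₜ[k] (1 : B)) * ((1 : B) ⊗ₜ[k] (r y))
    rw [Algebra.TensorProduct.tmul_mul_tmul, mul_one, one_mul]

/-- the conjugate of a homomorphism by a constant point, as a point -/
noncomputable def conjPt (w : WithConv (A →ₐ[k] k)) (r : A →ₐc[k] B) : WithConv (A →ₐ[k] B) :=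
  mapPt (Algebra.ofId k B) w * pt r * (mapPt (Algebra.ofId k B) w)⁻¹

theorem conjPt_comul (w : WithConv (A →ₐ[k] k)) (r : A →ₐc[k] B) :
    mapPt (Bialgebra.comulAlgHom k B) (conjPt w r) =
    mapPt (Algebra.TensorProduct.includeLeft : B →ₐ[k] B ⊗[k] B) (conjPt w r) *
    mapPt (Algebra.TensorProduct.includeRight : B →ₐ[k] B ⊗[k] B) (conjPt w r) := by
  have h1 : ∀ f : B →ₐ[k] B ⊗[k] B, mapPt f (mapPt (Algebra.ofId k B) w) =
      mapPt (Algebra.ofId k (B ⊗[k] B)) w := by
    intro f
    rw [← mapPt_comp]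
    have h2 : f.comp (Algebra.ofId k B) = Algebra.ofId k (B ⊗[k] B) := by ext
    rw [h2]
  simp only [conjPt, map_mul, map_inv, h1]
  rw [pt_hom]
  have : ∀ {G : Type u} [Group G] (w x y : G), w * (x * y) * w⁻¹ = (w * x * w⁻¹) * (w * y * w⁻¹) := by
    intro G _ w x y
    group
  exact this (G := WithConv (A →ₐ[k] B ⊗[k] B)) _ _ _

/-- the conjugate of a bialgebra map by a `k`-point -/
noncomputable def conjR (w : WithConv (A →ₐ[k] k)) (r : A →ₐc[k] B) : A →ₐc[k] B :=
  BialgHom.ofAlgHom (conjPt w r).ofConv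
    (by
      apply AlgHom.ext
      intro a
      have h1 : mapPt (Bialgebra.counitAlgHom k B) (conjPt w r) = 1 := by
        simp only [conjPt, map_mul, map_inv]
        have h2 : mapPt (Bialgebra.counitAlgHom k B) (mapPt (Algebra.ofId k B) w) = w := by
          rw [← mapPt_comp]
          have : (Bialgebra.counitAlgHom k B).comp (Algebra.ofId k B) = AlgHom.id k k := by ext
          rw [this]
          rfl
        rw [h2, map_one_point, mul_one, mul_inv_cancel]
      have h2 := congrArg (fun x : WithConv (A →ₐ[k] k) => x.ofConv a) h1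
      exact h2)
    (by
      apply AlgHom.ext
      intro a
      have h2 := congrArg (fun x : WithConv (A →ₐ[k] B ⊗[k] B) => x.ofConv a) (conjPt_comul w r)
      refine Eq.trans ?_ h2.symm
      rw [mul_apply]
      change Algebra.TensorProduct.map (conjPt w r).ofConv (conjPt w r).ofConv (CoalgebraStruct.comul (R := k) a) = _
      generalize CoalgebraStruct.comul (R := k) a = z
      induction z with
      | zero => rw [map_zero, map_zero]
      | add x y hx hy => rw [map_add, map_add, hx, hy]
      | tmul x y =>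
        rw [Algebra.TensorProduct.map_tmul, Algebra.TensorProduct.lift_tmul]
        change _ = (((conjPt w r).ofConv x) ⊗ₜ[k] (1 : B)) * ((1 : B) ⊗ₜ[k] ((conjPt w r).ofConv y))
        rw [Algebra.TensorProduct.tmul_mul_tmul, mul_one, one_mul])

theorem isConj_conjR (w : WithConv (A →ₐ[k] k)) (r : A →ₐc[k] B) : IsConj w (pt r) (pt (conjR w r)) := rfl

variable {ψ : B →ₐc[k] A}

theorem conjR_psi (w : WithConv (A →ₐ[k] k)) (r : A →ₐc[k] B) (hr : ∀ b, r (ψ b) = b) (hw : res ψ w = 1) (b : B) :
    conjR w r (ψ b) = b := by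
  have h1 : res ψ (conjPt w r) = res ψ (pt r) := by
    simp only [conjPt, map_mul, map_inv]
    have h2 : res ψ (mapPt (Algebra.ofId k B) w) = 1 := by
      rw [← mapPt_res, hw, map_one]
    rw [h2, one_mul, inv_one, mul_one]
  have h2 := congrArg (fun x : WithConv (B →ₐ[k] B) => x.ofConv b) h1
  exact h2.trans (hr b)

variable {M : Type u} [CommGroup M] {g : GBasis k B M}

/-- product of points on a skew primitive function -/
theorem mul_skew {R : Type u} [CommRing R] [Algebra k R] (x y : WithConv (A →ₐ[k] R)) {m : M} {a : A}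
    (ha : a ∈ Pw g ψ m) : (x * y).ofConv a = y.ofConv a + x.ofConv a * y.ofConv (ψ (g.b m)) := by
  rw [mul_apply, mem_Pw.1 ha, map_add, Algebra.TensorProduct.lift_tmul, Algebra.TensorProduct.lift_tmul, map_one,
    one_mul]

theorem conjR_skew (w : WithConv (A →ₐ[k] k)) (r : A →ₐc[k] B) (hr : ∀ b, r (ψ b) = b) (hw : res ψ w = 1) {m : M}
    {a : A} (ha : a ∈ Pw g ψ m) : conjR w r a = r a + w.ofConv a • (g.b m - 1) := by
  let W : WithConv (A →ₐ[k] B) := mapPt (Algebra.ofId k B) w
  have hW : res ψ W = 1 := by rw [← mapPt_res, hw, map_one]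
  have hWi : res ψ W⁻¹ = 1 := by rw [map_inv, hW, inv_one]
  have h1 : W⁻¹.ofConv (ψ (g.b m)) = 1 := by
    rw [← res_apply, hWi, one_apply]
    have h3 : CoalgebraStruct.counit (R := k) (g.b m) = 1 := (g.gl m).counit_eq_one
    rw [h3, map_one]
  have h2 : W⁻¹.ofConv a = - W.ofConv a := by
    have h3 := mul_skew W W⁻¹ ha
    rw [mul_inv_cancel, one_apply, h1, mul_one] at h3
    have h4 : CoalgebraStruct.counit (R := k) a = 0 := Pw_counit ha
    rw [h4, map_zero] at h3
    exact eq_neg_of_add_eq_zero_left h3.symm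
  have h3 : conjR w r a = ((W * pt r) * W⁻¹).ofConv a := rfl
  rw [h3, mul_skew _ _ ha, h1, mul_one, mul_skew _ _ ha, h2, pt_apply, pt_apply, hr]
  have h4 : W.ofConv a = w.ofConv a • (1 : B) := by
    rw [← Algebra.algebraMap_eq_smul_one]
    rfl
  rw [h4, smul_sub, smul_mul_assoc, one_mul]
  abel

end conj

section ideal

variable {M : Type u} [CommGroup M] (g : GBasis k B M) (ψ : B →ₐc[k] A)

/-- Skew primitive functions generate a Hopf ideal. -/
theorem isHopfIdeal_span (S : Set A) (hS : ∀ a ∈ S, ∃ m, a ∈ Pw g ψ m) : (Ideal.span S).IsHopfIdeal k := by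
  refine Groth.Agent.S3294.isHopfIdeal_of k _ ?_ ?_ ?_
  · have h1 : Ideal.span S ≤ RingHom.ker (Bialgebra.counitAlgHom k A) := by
      rw [Ideal.span_le]
      intro a ha
      obtain ⟨m, hm⟩ := hS a ha
      exact Pw_counit hm
    exact fun x hx => h1 hx
  · have h1 : Ideal.span S ≤ RingHom.ker ((Algebra.TensorProduct.map (Ideal.Quotient.mkₐ k (Ideal.span S))
        (Ideal.Quotient.mkₐ k (Ideal.span S))).comp (Bialgebra.comulAlgHom k A)) := by
      rw [Ideal.span_le]
      intro a ha
      obtain ⟨m, hm⟩ := hS a ha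
      have h2 : Bialgebra.comulAlgHom k A a = (1 : A) ⊗ₜ[k] a + a ⊗ₜ[k] ψ (g.b m) := hm
      have h3 : (Ideal.Quotient.mkₐ k (Ideal.span S)) a = 0 :=
        Ideal.Quotient.eq_zero_iff_mem.2 (Ideal.subset_span ha)
      change (Algebra.TensorProduct.map (Ideal.Quotient.mkₐ k (Ideal.span S))
        (Ideal.Quotient.mkₐ k (Ideal.span S))) (Bialgebra.comulAlgHom k A a) = 0
      rw [h2, map_add, Algebra.TensorProduct.map_tmul, Algebra.TensorProduct.map_tmul, h3,
        TensorProduct.tmul_zero, TensorProduct.zero_tmul, add_zero]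
    exact fun x hx => h1 hx
  · have h1 : Ideal.span S ≤ (Ideal.span S).comap (HopfAlgebra.antipodeAlgHom k A) := by
      rw [Ideal.span_le]
      intro a ha
      obtain ⟨m, hm⟩ := hS a ha
      have h2 := HopfAlgebra.mul_antipode_rTensor_comul_apply (R := k) a
      have h3 : Coalgebra.comul (R := k) a = (1 : A) ⊗ₜ[k] a + a ⊗ₜ[k] ψ (g.b m) := hm
      rw [h3, map_add, map_add, LinearMap.rTensor_tmul, LinearMap.rTensor_tmul, LinearMap.mul'_apply,
        LinearMap.mul'_apply, HopfAlgebra.antipode_one, one_mul, Pw_counit hm, map_zero] at h2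
      have h4 : ψ (g.b m) * ψ (g.b m⁻¹) = 1 := by
        rw [← map_mul, ← g.mul, mul_inv_cancel, g.one, map_one]
      have h5 : HopfAlgebra.antipode k a = - (a * ψ (g.b m⁻¹)) := by
        have h6 : HopfAlgebra.antipode k a * ψ (g.b m) = - a := eq_neg_of_add_eq_zero_right h2
        calc HopfAlgebra.antipode k a = HopfAlgebra.antipode k a * (ψ (g.b m) * ψ (g.b m⁻¹)) := by
              rw [h4, mul_one]
          _ = _ := by rw [← mul_assoc, h6, neg_mul]
      change HopfAlgebra.antipode k a ∈ Ideal.span S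
      rw [h5]
      exact Submodule.neg_mem _ (Ideal.mul_mem_right _ _ (Ideal.subset_span ha))
    exact fun x hx => h1 hx

end ideal

section step

variable {ψ : B →ₐc[k] A} {π : A →ₐc[k] C} {M : Type u} [CommGroup M] {g : GBasis k B M}

/-- correction of a skew primitive function by an element of `ψ(B)`, killed by a retraction -/
theorem corr_mem (h : Ext ψ π) {r : A →ₐc[k] B} (hr : ∀ b, r (ψ b) = b) {m : M} {a : A} (ha : a ∈ Pw g ψ m) :
    a - ψ (r a) ∈ Pw g ψ m ∧ r (a - ψ (r a)) = 0 ∧ π (a - ψ (r a)) = π a := by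
  have h1 := (isSkew_r hr ha).eq
  refine ⟨Submodule.sub_mem _ ha ?_, by rw [map_sub, hr, sub_self], ?_⟩
  · rw [h1]
    have h2 : ψ ((-g.b.coord 1 (r a)) • (g.b m - 1)) = (-g.b.coord 1 (r a)) • ψ (g.b m - 1) :=
      map_smul (ψ : B →ₐ[k] A) _ _
    rw [h2]
    exact Submodule.smul_mem _ _ (psi_sub_mem m)
  · have h2 : Coalgebra.counit (R := k) (r a) = 0 := by
      rw [CoalgHomClass.counit_comp_apply]
      exact Pw_counit ha
    rw [map_sub, h.pi_psi, h2, map_zero, sub_zero]

/-- **The main step.** -/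
theorem oneStep (p : ℕ) [Fact p.Prime] [CharP k p] [IsAlgClosed k] (h : Ext ψ π) [Algebra.FiniteType k A]
    [Algebra.FormallySmooth k C] [IsReduced C] (hU : HopfRep.IsUnipotent k C)
    (hC : (⊥ : Ideal C) ≠ RingHom.ker (Bialgebra.counitAlgHom k C)) {r r' : A →ₐc[k] B} (g : GBasis k B M)
    (hr : ∀ b, r (ψ b) = b) (hr' : ∀ b, r' (ψ b) = b) :
    ∃ (w : WithConv (A →ₐ[k] k)) (I : Ideal A), res ψ w = 1 ∧ I.IsHopfIdeal k ∧ I ≠ ⊥ ∧
      (∀ a ∈ I, conjR w r a = 0 ∧ r' a = 0) ∧ Algebra.FormallySmooth k (C ⧸ I.map π) := by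
  have hft : Algebra.FiniteType k C := Algebra.FiniteType.of_surjective (π : A →ₐ[k] C) h.surj
  obtain ⟨u, hu⟩ := K203.RetU.exists_u p h (g := g) hr hr'
  let w : WithConv (A →ₐ[k] k) := toConv (u.comp (π : A →ₐ[k] C))
  have hw : res ψ w = 1 := by
    apply Pts.ext
    intro b
    rw [res_apply, one_apply]
    change u (π (ψ b)) = _
    rw [h.pi_psi, AlgHom.commutes]
  have hconj : ∀ (m : M) (a : A), a ∈ Pw g ψ m → conjR w r a = r' a := by
    intro m a ha
    rw [conjR_skew w r hr hw ha]
    have h1 := sub_eq hr hr' ha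
    by_cases hm : m = 1
    · subst hm
      rw [g.one, sub_self, smul_zero] at h1 ⊢
      rw [add_zero]
      exact sub_eq_zero.1 h1
    · have h2 : w.ofConv a = nu g r r' a :=
        hu a ((le_iSup₂_of_le (f := fun (m : M) (_ : m ≠ 1) => Pw g ψ m) m hm le_rfl) ha)
      rw [h2]
      have h3 : nu g r r' a • (g.b m - 1) = r' a - r a := by
        rw [← neg_sub (r a) (r' a), h1, neg_smul, neg_neg]
      rw [h3, add_sub_cancel]
  -- vanishing on the ideal
  have hkill : ∀ S : Set A, (∀ a ∈ S, ∃ m, a ∈ Pw g ψ m ∧ r' a = 0) →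
      ∀ a ∈ Ideal.span S, conjR w r a = 0 ∧ r' a = 0 := by
    intro S hS a ha
    constructor
    · have h1 : Ideal.span S ≤ RingHom.ker (conjR w r : A →ₐ[k] B) := by
        rw [Ideal.span_le]
        intro x hx
        obtain ⟨m, hm, h0⟩ := hS x hx
        change conjR w r x = 0
        rw [hconj m x hm, h0]
      exact h1 ha
    · have h1 : Ideal.span S ≤ RingHom.ker (r' : A →ₐ[k] B) := by
        rw [Ideal.span_le]
        intro x hx
        obtain ⟨m, hm, h0⟩ := hS x hx
        exact h0
      exact h1 ha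
  by_cases hcase : ∃ f : C, IsPrim k f ∧ f ∉ RingHom.ker (Bialgebra.counitAlgHom k C) ^ 2
  · obtain ⟨f, hf, hf2⟩ := hcase
    obtain ⟨a, ha, rfl⟩ := exists_mem_P h hf
    obtain ⟨s, φ, hφ, rfl⟩ := exists_sum (g := g) h ha
    obtain ⟨m, hm⟩ : ∃ m, π (φ m) ∉ RingHom.ker (Bialgebra.counitAlgHom k C) ^ 2 := by
      by_contra hcon
      push Not at hcon
      apply hf2
      rw [map_sum]
      exact Submodule.sum_mem _ fun m _ => hcon m
    obtain ⟨h1, h2, h3⟩ := corr_mem h hr' (hφ m)
    let a' : A := φ m - ψ (r' (φ m))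
    have h4 : IsPrim k (π a') := prim_of_mem (Pw_mem_P h h1)
    have h5 : (Ideal.span {a'} : Ideal A).map π = Ideal.span (((k ∙ (π a')) : Submodule k C) : Set C) := by
      rw [Ideal.map_span, Set.image_singleton]
      apply le_antisymm
      · rw [Ideal.span_le, Set.singleton_subset_iff]
        exact Ideal.subset_span (Submodule.mem_span_singleton_self _)
      · rw [Ideal.span_le]
        intro x hx
        obtain ⟨c, rfl⟩ := Submodule.mem_span_singleton.1 hx
        have h6 : c • π a' = algebraMap k C c * π a' := Algebra.smul_def _ _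
        rw [SetLike.mem_coe, h6]
        exact Ideal.mul_mem_left _ _ (Ideal.subset_span rfl)
    refine ⟨w, Ideal.span {a'}, hw, isHopfIdeal_span g ψ _ ?_, ?_, hkill _ ?_, ?_⟩
    · rintro _ rfl
      exact ⟨m, h1⟩
    · intro h6
      rw [Ideal.span_singleton_eq_bot] at h6
      apply hm
      rw [← h3]
      change π a' ∈ _
      rw [h6, map_zero]
      exact Submodule.zero_mem _
    · rintro _ rfl
      exact ⟨m, h1, h2⟩
    · rw [h5]
      refine K520.PrimQuot.formallySmooth_quotient k C _ ?_ ?_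
      · intro x hx
        obtain ⟨c, rfl⟩ := Submodule.mem_span_singleton.1 hx
        rw [map_smul, h4, smul_add, TensorProduct.smul_tmul', ← TensorProduct.tmul_smul]
      · intro x hx hx2
        obtain ⟨c, rfl⟩ := Submodule.mem_span_singleton.1 hx
        by_cases hc : c = 0
        · rw [hc, zero_smul]
        · exfalso
          apply hm
          rw [← h3]
          change π a' ∈ _
          have h6 : π a' = algebraMap k C c⁻¹ * (c • π a') := by
            rw [← Algebra.smul_def, smul_smul, inv_mul_cancel₀ hc, one_smul]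
          rw [h6]
          exact Ideal.mul_mem_left _ _ hx2
  · push Not at hcase
    let S : Set A := {a | ∃ m, a ∈ Pw g ψ m ∧ r' a = 0}
    have hmem : ∀ f : C, IsPrim k f → f ∈ (Ideal.span S).map π := by
      intro f hf
      obtain ⟨a, ha, rfl⟩ := exists_mem_P h hf
      obtain ⟨s, φ, hφ, rfl⟩ := exists_sum (g := g) h ha
      rw [map_sum]
      refine Submodule.sum_mem _ fun m _ => ?_
      obtain ⟨h1, h2, h3⟩ := corr_mem h hr' (hφ m)
      rw [← h3]
      exact Ideal.mem_map_of_mem π (Ideal.subset_span ⟨m, h1, h2⟩)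
    refine ⟨w, Ideal.span S, hw, isHopfIdeal_span g ψ _ ?_, ?_, hkill _ ?_, ?_⟩
    · rintro a ⟨m, hm, _⟩
      exact ⟨m, hm⟩
    · intro h6
      obtain ⟨f, hf0, hf⟩ := Groth.Agent.Sga7.H740.GaSub.exists_prim_of_isUnipotent hU hC
      apply hf0
      have h7 := hmem f hf
      rw [h6, Ideal.map_bot] at h7
      exact h7
    · exact fun a ha => ha
    · have hid : IsIdempotentElem ((Ideal.span S).map π) := by
        have h7 : (Ideal.span S).map π ≤ (Ideal.span S).map π * (Ideal.span S).map π := by
          rw [Ideal.map_span, Ideal.span_le]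
          rintro _ ⟨a, ⟨m, hm, _⟩, rfl⟩
          have h8 : IsPrim k (π a) := prim_of_mem (Pw_mem_P h hm)
          obtain ⟨x, hx, hxp⟩ := K983.FrobRoot.exists_root k p C (π a) h8 (hcase _ h8)
          have h9 : x ∈ (Ideal.span S).map π := hmem x hx
          rw [← hxp, ← Ideal.map_span, ← pow_two]
          exact Ideal.pow_le_pow_right (Fact.out : p.Prime).two_le (Ideal.pow_mem_pow h9 p)
        exact le_antisymm Ideal.mul_le_left h7
      have h7 : Algebra.FormallySmooth C (C ⧸ (Ideal.span S).map π) := by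
        rw [Algebra.FormallySmooth.iff_of_surjective Ideal.Quotient.mk_surjective]
        have h8 : RingHom.ker (algebraMap C (C ⧸ (Ideal.span S).map π)) = (Ideal.span S).map π := Ideal.mk_ker
        rw [h8]
        exact hid
      exact Algebra.FormallySmooth.comp k C _

end step

end K203.RetCut
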