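import Groth.Agent.S4103
import Groth.Agent.Agf.H621.VecGrp
import Groth.Agent.Etcore.FGLim
import Groth.Agent.SGA3.K507.PrimPBW

/-!
# Points of a commutative Hopf algebra with prescribed values on primitive elements

`exists_extend`: over an algebraically closed field, an algebra map defined on the subalgebra generated by primitive
elements extends to the whole Hopf algebra of finite type. `exists_point`: if `W` is a space of pairs `(f, t)`, `f`
primitive, stable under `p`-th powers and without pairs `(0, t)`, `t ≠ 0`, there is a point `u` with `u f = t` for all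
pairs of `W`.
-/

set_option autoImplicit false

universe u

open TensorProduct

namespace K203.RetPt

open Groth.Agent.Books.CharZeroUnip2

variable {k : Type u} [Field k] [IsAlgClosed k] {C : Type u} [CommRing C] [HopfAlgebra k C] [Algebra.FiniteType k C]

/-- Extension of an algebra map from a subalgebra generated by primitive elements. -/
theorem exists_extend {s : Set C} (hs : ∀ x ∈ s, IsPrim k x) (n : Algebra.adjoin k s →ₐ[k] k) :
    ∃ u : C →ₐ[k] k, ∀ x : Algebra.adjoin k s, u x = n x := by
  have hff : Module.FaithfullyFlat (Algebra.adjoin k s) C :=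
    Groth.Agent.S4103.result k C _ (Groth.Agent.Agf.H621.VecGrp.isHopfSubalgebra_adjoin hs)
  let R := Algebra.adjoin k s
  have hmax : (RingHom.ker n).IsMaximal := by
    refine RingHom.ker_isMaximal_of_surjective n ?_
    intro c
    exact ⟨algebraMap k R c, by rw [AlgHom.commutes]; rfl⟩
  let I : Ideal C := Ideal.map (algebraMap R C) (RingHom.ker n)
  have hI : I ≠ ⊤ := by
    intro h
    have h1 := (Module.FaithfullyFlat.submodule_ne_top (R := R) (M := C) (m := RingHom.ker n) hmax)
    apply h1
    rw [Ideal.smul_top_eq_map]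
    have h2 : Ideal.map (algebraMap R C) (RingHom.ker n) = ⊤ := h
    rw [h2]
    rfl
  have hnt : Nontrivial (C ⧸ I) := Ideal.Quotient.nontrivial_iff.2 hI
  have hft : Algebra.FiniteType k (C ⧸ I) := inferInstance
  obtain ⟨v⟩ := Groth.Agent.Etcore.FGLim.exists_algHom_of_isAlgClosed k (C ⧸ I)
  refine ⟨v.comp (Ideal.Quotient.mkₐ k I), fun x => ?_⟩
  have h1 : (x : C) - algebraMap k C (n x) ∈ I := by
    have h2 : x - algebraMap k R (n x) ∈ RingHom.ker n := by
      rw [RingHom.mem_ker, map_sub, AlgHom.commutes, sub_eq_zero]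
      rfl
    have h3 := Ideal.mem_map_of_mem (algebraMap R C) h2
    rw [map_sub] at h3
    exact h3
  have h2 : v (Ideal.Quotient.mk I ((x : C) - algebraMap k C (n x))) = 0 := by
    rw [Ideal.Quotient.eq_zero_iff_mem.2 h1, map_zero]
  have h3 : (v.comp (Ideal.Quotient.mkₐ k I)) ((x : C) - algebraMap k C (n x)) = 0 := h2
  rw [map_sub, AlgHom.commutes, sub_eq_zero] at h3
  exact h3

/-- A point with prescribed values on a space of primitive elements. -/
theorem exists_point (W : Submodule k (C × k)) (hW : ∀ w ∈ W, IsPrim k w.1)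
    (hinj : ∀ w ∈ W, w.1 = 0 → w = 0) (hF : ∀ p : ℕ, p.Prime → CharP k p → ∀ w ∈ W, w ^ p ∈ W) :
    ∃ u : C →ₐ[k] k, ∀ w ∈ W, u w.1 = w.2 := by
  let π : C × k →ₐ[k] C := AlgHom.fst k C k
  have h1 := K507.PrimPBW.injOn_adjoin k (C × k) C π W (fun a ha => hW a ha) (fun a ha h => hinj a ha h) hF
  let s : Set C := π '' (W : Set (C × k))
  have hs : ∀ x ∈ s, IsPrim k x := by
    rintro _ ⟨w, hw, rfl⟩
    exact hW w hw
  have hmap : (Algebra.adjoin k (W : Set (C × k))).map π = Algebra.adjoin k s := AlgHom.map_adjoin π _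
  let f : Algebra.adjoin k (W : Set (C × k)) →ₐ[k] Algebra.adjoin k s :=
    (π.comp (Algebra.adjoin k (W : Set (C × k))).val).codRestrict _ (by
      intro x
      rw [← hmap]
      exact ⟨x, x.2, rfl⟩)
  have hf : Function.Bijective f := by
    constructor
    · rw [injective_iff_map_eq_zero]
      intro x hx
      have h2 : π (x : C × k) = 0 := congrArg Subtype.val hx
      exact Subtype.ext (h1 x x.2 h2)
    · rintro ⟨y, hy⟩
      rw [← hmap] at hy
      obtain ⟨x, hx, rfl⟩ := hy
      exact ⟨⟨x, hx⟩, rfl⟩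
  let e := AlgEquiv.ofBijective f hf
  obtain ⟨u, hu⟩ := exists_extend hs ((AlgHom.snd k C k).comp
    ((Algebra.adjoin k (W : Set (C × k))).val.comp (e.symm : Algebra.adjoin k s →ₐ[k] _)))
  refine ⟨u, fun w hw => ?_⟩
  have h2 := hu (f ⟨w, Algebra.subset_adjoin hw⟩)
  refine h2.trans ?_
  change ((e.symm (f ⟨w, Algebra.subset_adjoin hw⟩) : C × k)).2 = w.2
  have h3 : e.symm (f ⟨w, Algebra.subset_adjoin hw⟩) = ⟨w, Algebra.subset_adjoin hw⟩ :=
    e.symm_apply_apply _
  rw [h3]

end K203.RetPt
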