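import Groth.Agent.SGA3.K503.CrMod
import Groth.Agent.SGA3.K203.RetB
import Groth.Agent.SGA3.K203.RetPt

/-!
# Skew primitive functions on an extension of a diagonalizable group by a unipotent group

`Pw g ψ m` : functions `a` on `E` with `Δa = 1 ⊗ a + a ⊗ ψ(g m)`. They span the functions additive along the kernel
(`exists_sum`). For two retractions `r, r'` of `ψ` one has `r a - r' a = - ν(a) (g m - 1)`; in characteristic `p`, if
the algebra of the kernel is reduced, `ν` is compatible with all relations between `p`-powers (`relation`).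
-/

set_option autoImplicit false

universe u

open TensorProduct HopfRep

namespace K203.RetP

open Groth.Agent.Sga3A.MTBasis Groth.Agent.Books.ComodBasic Groth.Agent.Books.CharZeroUnip2
open K503.Frame K503.CrMod K203.RetB

variable {k : Type u} [Field k] {A B C : Type u} [CommRing A] [HopfAlgebra k A] [CommRing B] [HopfAlgebra k B]
  [CommRing C] [HopfAlgebra k C] {M : Type u} [CommGroup M]

section defs

variable (g : GBasis k B M) (ψ : B →ₐc[k] A)

/-- skew primitive functions of weight `m` -/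
noncomputable def Pw (m : M) : Submodule k A where
  carrier := {a | CoalgebraStruct.comul (R := k) a = (1 : A) ⊗ₜ[k] a + a ⊗ₜ[k] ψ (g.b m)}
  add_mem' := by
    intro a b ha hb
    simp only [Set.mem_ofPred_eq] at ha hb ⊢
    rw [map_add, ha, hb, TensorProduct.tmul_add, TensorProduct.add_tmul]
    abel
  zero_mem' := by
    simp only [Set.mem_ofPred_eq]
    rw [map_zero, TensorProduct.tmul_zero, TensorProduct.zero_tmul, add_zero]
  smul_mem' := by
    intro c x hx
    simp only [Set.mem_ofPred_eq] at hx ⊢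
    rw [map_smul, hx, smul_add, TensorProduct.smul_tmul', TensorProduct.smul_tmul', TensorProduct.smul_tmul]

variable {g ψ}

theorem mem_Pw {m : M} {a : A} : a ∈ Pw g ψ m ↔
    CoalgebraStruct.comul (R := k) a = (1 : A) ⊗ₜ[k] a + a ⊗ₜ[k] ψ (g.b m) := Iff.rfl

theorem counit_g (m : M) : Coalgebra.counit (R := k) (g.b m) = 1 := (g.gl m).counit_eq_one

theorem Pw_counit {m : M} {a : A} (ha : a ∈ Pw g ψ m) : Coalgebra.counit (R := k) a = 0 := by
  have h := Coalgebra.rTensor_counit_comul (R := k) a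
  have hx' : Coalgebra.comul (R := k) a = (1 : A) ⊗ₜ[k] a + a ⊗ₜ[k] ψ (g.b m) := ha
  rw [hx', map_add, LinearMap.rTensor_tmul, LinearMap.rTensor_tmul, Bialgebra.counit_one] at h
  have h2 := congrArg (fun z => Coalgebra.counit (R := k) (TensorProduct.lid k A z)) h
  simp only [map_add, TensorProduct.lid_tmul, map_smul, one_smul, smul_eq_mul] at h2
  rw [CoalgHomClass.counit_comp_apply, counit_g, mul_one] at h2
  exact add_eq_left.1 h2

theorem Pw_pow {p : ℕ} [Fact p.Prime] [CharP k p] {m : M} {a : A} (ha : a ∈ Pw g ψ m) :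
    a ^ p ∈ Pw g ψ (m ^ p) := by
  rcases subsingleton_or_nontrivial (A ⊗[k] A) with hA | hA
  · exact Subsingleton.elim _ _
  have hp : CharP (A ⊗[k] A) p := charP_of_injective_algebraMap (algebraMap k (A ⊗[k] A)).injective p
  have hpow : ∀ (n : M) (j : ℕ), g.b n ^ j = g.b (n ^ j) := by
    intro n j
    induction j with
    | zero => rw [pow_zero, pow_zero, g.one]
    | succ j ih => rw [pow_succ, pow_succ, g.mul, ih]
  have h1 : Bialgebra.comulAlgHom k A a = (1 : A) ⊗ₜ[k] a + a ⊗ₜ[k] ψ (g.b m) := ha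
  have h2 : Bialgebra.comulAlgHom k A (a ^ p) = (1 : A) ⊗ₜ[k] (a ^ p) + (a ^ p) ⊗ₜ[k] ψ (g.b (m ^ p)) := by
    rw [map_pow, h1, add_pow_char, Algebra.TensorProduct.tmul_pow, Algebra.TensorProduct.tmul_pow, one_pow,
      ← map_pow, hpow]
  exact h2

theorem psi_sub_mem (m : M) : ψ (g.b m - 1) ∈ Pw g ψ m := by
  have h1 : CoalgebraStruct.comul (R := k) (g.b m) = g.b m ⊗ₜ[k] g.b m := (g.gl m).comul_eq_tmul_self
  have h2 : CoalgebraStruct.comul (R := k) (ψ (g.b m)) = ψ (g.b m) ⊗ₜ[k] ψ (g.b m) := by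
    refine (CoalgHomClass.map_comp_comul_apply ψ (g.b m)).symm.trans ?_
    rw [h1]
    rfl
  have h3 : CoalgebraStruct.comul (R := k) (1 : A) = (1 : A) ⊗ₜ[k] (1 : A) := Bialgebra.comul_one
  rw [mem_Pw, map_sub, map_one, map_sub, h2, h3, TensorProduct.tmul_sub, TensorProduct.sub_tmul]
  abel

end defs

section ext

variable {g : GBasis k B M} {ψ : B →ₐc[k] A} {π : A →ₐc[k] C}

theorem Pw_mem_P (h : Ext ψ π) {m : M} {a : A} (ha : a ∈ Pw g ψ m) : a ∈ P π := by
  rw [mem_P, Groth.Agent.Books.NormalKer.rho_apply]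
  have hx' : Coalgebra.comul (R := k) a = (1 : A) ⊗ₜ[k] a + a ⊗ₜ[k] ψ (g.b m) := ha
  rw [hx', map_add, LinearMap.lTensor_tmul, LinearMap.lTensor_tmul]
  have h1 : (π : A →ₐ[k] C).toLinearMap (ψ (g.b m)) = 1 := by
    change π (ψ (g.b m)) = 1
    rw [h.pi_psi, counit_g, map_one]
  rw [h1, add_comm]
  rfl

theorem exists_sum (h : Ext ψ π) {a : A} (ha : a ∈ P π) : ∃ (s : Finset M) (φ : M → A),
    (∀ m, φ m ∈ Pw g ψ m) ∧ a = ∑ m ∈ s, φ m := by
  let _ := comodP h
  obtain ⟨s, hs⟩ := exists_decomp g (⟨a, ha⟩ : P π)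
  refine ⟨s, fun m => (dact (P π) (g.b.coord m) (⟨a, ha⟩ : P π) : P π), fun m => ?_, ?_⟩
  · have h1 : coactP h (dact (P π) (g.b.coord m) (⟨a, ha⟩ : P π)) = _ := coact_dact g m (⟨a, ha⟩ : P π)
    have h2 := incl_coactP h (dact (P π) (g.b.coord m) (⟨a, ha⟩ : P π))
    rw [h1, incl_tmul, D_apply] at h2
    exact (sub_eq_iff_eq_add'.1 h2.symm)
  · have h1 := congrArg (P π).subtype hs
    rw [map_sum] at h1
    exact h1

/-- images of skew primitive functions under a retraction -/
theorem isSkew_r {r : A →ₐc[k] B} (hr : ∀ b, r (ψ b) = b) {m : M} {a : A} (ha : a ∈ Pw g ψ m) :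
    IsSkew g m (r a) := by
  change CoalgebraStruct.comul (R := k) (r a) = _
  refine (CoalgHomClass.map_comp_comul_apply r a).symm.trans ?_
  have hx' : Coalgebra.comul (R := k) a = (1 : A) ⊗ₜ[k] a + a ⊗ₜ[k] ψ (g.b m) := ha
  rw [hx', map_add, TensorProduct.map_tmul, TensorProduct.map_tmul]
  change (r 1) ⊗ₜ[k] (r a) + (r a) ⊗ₜ[k] (r (ψ (g.b m))) = _
  rw [map_one, hr]

/-- a skew primitive function of trivial weight in the kernel ideal vanishes -/
theorem eq_zero_of_one (h : Ext ψ π) {r : A →ₐc[k] B} (hr : ∀ b, r (ψ b) = b) {a : A} (ha : a ∈ Pw g ψ 1)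
    (h0 : π a = 0) : a = 0 := by
  obtain ⟨b, rfl, _⟩ := exists_psi h (Pw_mem_P h ha) h0
  have h1 := (isSkew_r hr ha).eq_zero
  rw [hr] at h1
  rw [h1, map_zero]

/-- the component of weight `m` -/
noncomputable def Lam (g : GBasis k B M) (r : A →ₐc[k] B) (m : M) : A →ₗ[k] A :=
  slice A (g.b.coord m ∘ₗ (r : A →ₐ[k] B).toLinearMap) ∘ₗ D k A

theorem Lam_of_mem [DecidableEq M] {r : A →ₐc[k] B} (hr : ∀ b, r (ψ b) = b) {m n : M} {a : A}
    (ha : a ∈ Pw g ψ n) : Lam g r m a = if n = m then a else 0 := by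
  have hx' : Coalgebra.comul (R := k) a = (1 : A) ⊗ₜ[k] a + a ⊗ₜ[k] ψ (g.b n) := ha
  rw [Lam, LinearMap.comp_apply, D_apply, hx', add_sub_cancel_left, slice_tmul]
  change g.b.coord m (r (ψ (g.b n))) • a = _
  rw [hr, coord_b]
  split_ifs
  · rw [one_smul]
  · rw [zero_smul]

theorem pi_Lam (h : Ext ψ π) {r : A →ₐc[k] B} (m : M) {a : A} (ha : a ∈ P π) (h0 : π a = 0) :
    π (Lam g r m a) = 0 := by
  obtain ⟨b, rfl, hb⟩ := exists_psi h ha h0
  have h1 : (π : A →ₐ[k] C).toLinearMap (Lam g r m (ψ b)) =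
      slice C (g.b.coord m ∘ₗ (r : A →ₐ[k] B).toLinearMap)
        ((π : A →ₐ[k] C).toLinearMap.rTensor A (D k A (ψ b))) := by
    rw [Lam, LinearMap.comp_apply, slice_rTensor]
  change (π : A →ₐ[k] C).toLinearMap (Lam g r m (ψ b)) = 0
  rw [h1, D_apply, map_sub, LinearMap.rTensor_tmul]
  have h2 : Coalgebra.comul (R := k) (ψ b) = TensorProduct.map (ψ : B →ₐ[k] A).toLinearMap
      (ψ : B →ₐ[k] A).toLinearMap (Coalgebra.comul (R := k) b) := (CoalgHomClass.map_comp_comul_apply ψ b).symm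
  have h3 : ∀ z : B ⊗[k] B, (π : A →ₐ[k] C).toLinearMap.rTensor A (TensorProduct.map
      (ψ : B →ₐ[k] A).toLinearMap (ψ : B →ₐ[k] A).toLinearMap z) =
      TensorProduct.map (Algebra.linearMap k C) (ψ : B →ₐ[k] A).toLinearMap
        ((Coalgebra.counit (R := k) (A := B)).rTensor B z) := by
    intro z
    induction z with
    | zero => simp
    | add x y hx hy => simp only [map_add, hx, hy]
    | tmul x y =>
      rw [TensorProduct.map_tmul, LinearMap.rTensor_tmul, LinearMap.rTensor_tmul, TensorProduct.map_tmul]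
      congr 1
      exact h.pi_psi x
  rw [h2, h3, Coalgebra.rTensor_counit_comul, TensorProduct.map_tmul]
  have h4 : Algebra.linearMap k C 1 = (π : A →ₐ[k] C).toLinearMap 1 := by
    rw [Algebra.linearMap_apply, map_one]
    exact (map_one (π : A →ₐ[k] C)).symm
  rw [h4]
  have h5 : (ψ : B →ₐ[k] A).toLinearMap b = ψ b := rfl
  rw [h5, sub_self, map_zero]

/-- two retractions agree on the skew primitive functions vanishing on the kernel -/
theorem r_eq (h : Ext ψ π) {r r' : A →ₐc[k] B} (hr : ∀ b, r (ψ b) = b) (hr' : ∀ b, r' (ψ b) = b) {a : A}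
    (ha : a ∈ P π) (h0 : π a = 0) : r a = r' a := by
  obtain ⟨b, rfl, _⟩ := exists_psi h ha h0
  rw [hr, hr']

/-- the difference of two retractions -/
noncomputable def nu (g : GBasis k B M) (r r' : A →ₐc[k] B) : A →ₗ[k] k :=
  g.b.coord 1 ∘ₗ ((r : A →ₐ[k] B).toLinearMap - (r' : A →ₐ[k] B).toLinearMap)

theorem nu_apply (r r' : A →ₐc[k] B) (a : A) : nu g r r' a = g.b.coord 1 (r a - r' a) := rfl

theorem sub_eq {r r' : A →ₐc[k] B} (hr : ∀ b, r (ψ b) = b) (hr' : ∀ b, r' (ψ b) = b) {m : M} {a : A}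
    (ha : a ∈ Pw g ψ m) : r a - r' a = (- nu g r r' a) • (g.b m - 1) :=
  ((isSkew_r hr ha).sub (isSkew_r hr' ha)).eq

/-- sums of skew primitive functions -/
noncomputable def T (g : GBasis k B M) (ψ : B →ₐc[k] A) : Submodule k A := ⨆ m, Pw g ψ m

/-- sums of skew primitive functions of non-trivial weight -/
noncomputable def V (g : GBasis k B M) (ψ : B →ₐc[k] A) : Submodule k A := ⨆ (m : M) (_ : m ≠ 1), Pw g ψ m

theorem V_le_T : V g ψ ≤ T g ψ := iSup₂_le fun m _ => le_iSup (Pw g ψ) m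

theorem T_le_P (h : Ext ψ π) : T g ψ ≤ P π := iSup_le fun _ _ ha => Pw_mem_P h ha

theorem Lam_one_V {r : A →ₐc[k] B} (hr : ∀ b, r (ψ b) = b) {a : A} (ha : a ∈ V g ψ) : Lam g r 1 a = 0 := by
  classical
  have h1 : V g ψ ≤ LinearMap.ker (Lam g r 1) := iSup₂_le fun m hm x hx => by
    rw [LinearMap.mem_ker, Lam_of_mem hr hx, if_neg hm]
  exact h1 ha

theorem exists_sum_T {a : A} (ha : a ∈ T g ψ) : ∃ (s : Finset M) (φ : M → A),
    (∀ m, φ m ∈ Pw g ψ m) ∧ a = ∑ m ∈ s, φ m := by
  classical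
  obtain ⟨f, hf, h⟩ := (Submodule.mem_iSup_iff_exists_finsupp _ _).1 ha
  exact ⟨f.support, f, hf, by rw [← h]; rfl⟩

variable {p : ℕ} [Fact p.Prime] [CharP k p]

theorem T_pow {a : A} (ha : a ∈ T g ψ) : a ^ p ∈ T g ψ := by
  rcases subsingleton_or_nontrivial A with hA | hA
  · rw [Subsingleton.elim (a ^ p) 0]
    exact Submodule.zero_mem _
  have hp : CharP A p := charP_of_injective_algebraMap (algebraMap k A).injective p
  obtain ⟨s, φ, hφ, rfl⟩ := exists_sum_T ha
  rw [sum_pow_char]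
  exact Submodule.sum_mem _ fun m _ => (le_iSup (Pw g ψ) (m ^ p)) (Pw_pow (hφ m))

theorem T_pow_pow {a : A} (ha : a ∈ T g ψ) (j : ℕ) : a ^ p ^ j ∈ T g ψ := by
  induction j with
  | zero => rwa [pow_zero, pow_one]
  | succ j ih => rw [pow_succ, pow_mul]; exact T_pow ih

/-- the key step: `v + G ^ p` in the kernel ideal -/
theorem step (h : Ext ψ π) [IsReduced C] {r r' : A →ₐc[k] B} (hr : ∀ b, r (ψ b) = b) (hr' : ∀ b, r' (ψ b) = b)
    {v G : A} (hv : v ∈ V g ψ) (hG : G ∈ T g ψ) (h0 : π (v + G ^ p) = 0) :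
    G ∈ V g ψ ∧ nu g r r' v = - nu g r r' G ^ p := by
  classical
  have hnt : Nontrivial A := (Bialgebra.counitAlgHom k A).toRingHom.domain_nontrivial
  have hp : CharP A p := charP_of_injective_algebraMap (algebraMap k A).injective p
  have hntB : Nontrivial B := (Bialgebra.counitAlgHom k B).toRingHom.domain_nontrivial
  have hpB : CharP B p := charP_of_injective_algebraMap (algebraMap k B).injective p
  have hp0 : p ≠ 0 := (Fact.out : p.Prime).ne_zero
  obtain ⟨s, φ, hφ, hGs⟩ := exists_sum_T hG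
  have hGp : G ^ p = ∑ m ∈ s, φ m ^ p := by rw [hGs, sum_pow_char]
  have hT : v + G ^ p ∈ T g ψ := Submodule.add_mem _ (V_le_T hv) (T_pow hG)
  -- the components of weight `m` with `m ^ p = 1`
  let y : A := ∑ m ∈ s.filter (fun m => m ^ p = 1), φ m
  have hy1 : Lam g r 1 (v + G ^ p) = y ^ p := by
    rw [map_add, Lam_one_V hr hv, zero_add, hGp, map_sum]
    have h2 : ∀ m ∈ s, Lam g r 1 (φ m ^ p) = if m ^ p = 1 then φ m ^ p else 0 :=
      fun m _ => Lam_of_mem hr (Pw_pow (hφ m))
    rw [Finset.sum_congr rfl h2, ← Finset.sum_filter, sum_pow_char]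
  have hy2 : π y = 0 := by
    have h2 := pi_Lam (g := g) h (r := r) 1 (T_le_P h hT) h0
    rw [hy1, map_pow] at h2
    exact eq_zero_of_pow_eq_zero h2
  have hyT : y ∈ T g ψ := Submodule.sum_mem _ fun m _ => (le_iSup (Pw g ψ) m) (hφ m)
  have hφ0 : ∀ m ∈ s, m ^ p = 1 → π (φ m) = 0 := by
    intro m hm hmp
    have h2 := pi_Lam (g := g) h (r := r) m (T_le_P h hyT) hy2
    have h3 : Lam g r m y = φ m := by
      simp only [y]
      rw [map_sum]
      rw [Finset.sum_congr rfl fun n _ => Lam_of_mem hr (hφ n)]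
      rw [Finset.sum_ite_eq', if_pos]
      exact Finset.mem_filter.2 ⟨hm, hmp⟩
    rwa [h3] at h2
  constructor
  · rw [hGs]
    refine Submodule.sum_mem _ fun m hm => ?_
    by_cases h1 : m = 1
    · subst h1
      rw [eq_zero_of_one h hr (hφ 1) (hφ0 1 hm (one_pow _))]
      exact Submodule.zero_mem _
    · exact (le_iSup₂_of_le (f := fun (m : M) (_ : m ≠ 1) => Pw g ψ m) m h1 le_rfl) (hφ m)
  · have h1 : nu g r r' (v + G ^ p) = 0 := by
      rw [nu_apply, r_eq h hr hr' (T_le_P h hT) h0, sub_self, map_zero]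
    have h2 : nu g r r' (G ^ p) = nu g r r' G ^ p := by
      rw [nu_apply, nu_apply, map_pow, map_pow, ← sub_pow_char]
      apply coord_pow
      intro n hn hnp
      rw [hGs, map_sum, map_sum, ← Finset.sum_sub_distrib, map_sum]
      refine Finset.sum_eq_zero fun m hm => ?_
      by_cases hmp : m ^ p = 1
      · rw [r_eq h hr hr' (Pw_mem_P h (hφ m)) (hφ0 m hm hmp), sub_self, map_zero]
      · exact ((isSkew_r hr (hφ m)).sub (isSkew_r hr' (hφ m))).coord_eq_zero hn (fun h3 => hmp (h3 ▸ hnp))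
    rw [map_add, h2] at h1
    exact eq_neg_of_add_eq_zero_left h1

/-- compatibility of `nu` with relations between `p`-powers -/
theorem relation (h : Ext ψ π) [IsReduced C] {r r' : A →ₐc[k] B} (hr : ∀ b, r (ψ b) = b)
    (hr' : ∀ b, r' (ψ b) = b) (n : ℕ) : ∀ v : ℕ → A, (∀ j, v j ∈ V g ψ) →
    π (∑ j ∈ Finset.range n, v j ^ p ^ j) = 0 → ∑ j ∈ Finset.range n, nu g r r' (v j) ^ p ^ j = 0 := by
  have hnt : Nontrivial A := (Bialgebra.counitAlgHom k A).toRingHom.domain_nontrivial
  have hp : CharP A p := charP_of_injective_algebraMap (algebraMap k A).injective p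
  induction n with
  | zero => intro v _ _; simp
  | succ n ih =>
    intro v hv h0
    let G : A := ∑ j ∈ Finset.range n, v (j + 1) ^ p ^ j
    have hG : G ∈ T g ψ := Submodule.sum_mem _ fun j _ => T_pow_pow (V_le_T (hv _)) j
    have h1 : ∑ j ∈ Finset.range (n + 1), v j ^ p ^ j = v 0 + G ^ p := by
      rw [Finset.sum_range_succ', add_comm, pow_zero, pow_one, sum_pow_char]
      congr 1
      exact Finset.sum_congr rfl fun j _ => by rw [pow_succ, pow_mul]
    rw [h1] at h0
    obtain ⟨hGV, hnu⟩ := step h hr hr' (hv 0) hG h0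
    have h2 : ∑ j ∈ Finset.range n, nu g r r' (v (j + 1)) ^ p ^ j = nu g r r' G := by
      cases n with
      | zero => simp [G]
      | succ n =>
        have h3 := ih (fun j => if j = 0 then v 1 - G else v (j + 1)) (fun j => by
            split_ifs
            · exact Submodule.sub_mem _ (hv 1) hGV
            · exact hv _) (by
            rw [Finset.sum_range_succ']
            simp only [Nat.add_eq_zero_iff, one_ne_zero, and_false, if_false, if_true, pow_zero, pow_one]
            have h4 : G = ∑ j ∈ Finset.range n, v (j + 1 + 1) ^ p ^ (j + 1) + v 1 := by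
              simp only [G]
              rw [Finset.sum_range_succ']
              simp
            have h5 : ∑ j ∈ Finset.range n, v (j + 1 + 1) ^ p ^ (j + 1) + (v 1 - G) = 0 := by
              rw [← add_sub_assoc, ← h4, sub_self]
            rw [h5, map_zero])
        rw [Finset.sum_range_succ'] at h3
        simp only [Nat.add_eq_zero_iff, one_ne_zero, and_false, if_false, if_true, pow_zero, pow_one] at h3
        rw [Finset.sum_range_succ']
        simp only [pow_zero, pow_one]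
        rw [map_sub, ← add_sub_assoc, sub_eq_zero] at h3
        exact h3
    rw [Finset.sum_range_succ', pow_zero, pow_one, hnu, ← h2, sum_pow_char]
    rw [← sub_eq_add_neg, sub_eq_zero]
    exact Finset.sum_congr rfl fun j _ => by rw [pow_succ, pow_mul]

end ext

end K203.RetP
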