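import Groth.Agent.SGA3.K203.RetP

/-!
# A point of the kernel conjugating two retractions on the skew primitive functions

`exists_u`: over an algebraically closed field of characteristic `p`, if the algebra `C` of the kernel is reduced,
there is a point `u : C → k` with `u (π v) = ν(v)` for all sums `v` of skew primitive functions of non-trivial weight.
-/

set_option autoImplicit false

universe u

open TensorProduct HopfRep

namespace K203.RetU

open Groth.Agent.Sga3A.MTBasis Groth.Agent.Books.CharZeroUnip2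
open K503.Frame K503.CrMod K203.RetB K203.RetP

variable {k : Type u} [Field k] {A B C : Type u} [CommRing A] [HopfAlgebra k A] [CommRing B] [HopfAlgebra k B]
  [CommRing C] [HopfAlgebra k C] {M : Type u} [CommGroup M]

lemma sum_pad {R : Type*} [CommRing R] {p : ℕ} [Fact p.Prime] {v : ℕ → R} {n N : ℕ} (hv : ∀ j, n ≤ j → v j = 0) (hN : n ≤ N) :
    ∑ j ∈ Finset.range N, v j ^ p ^ j = ∑ j ∈ Finset.range n, v j ^ p ^ j := by
  symm
  apply Finset.sum_subset (Finset.range_mono hN)
  intro j _ hj
  rw [hv j (not_lt.1 fun h => hj (Finset.mem_range.2 h)),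
    zero_pow (pow_pos (Fact.out : p.Prime).pos j).ne']

/-- the space of pairs `(Σ π(vⱼ)^(p^j), Σ ν(vⱼ)^(p^j))` -/
noncomputable def W [IsAlgClosed k] (g : GBasis k B M) (ψ : B →ₐc[k] A) (π : A →ₐc[k] C) (r r' : A →ₐc[k] B) (p : ℕ)
    [Fact p.Prime] [CharP k p] : Submodule k (C × k) where
  carrier := {w | ∃ (n : ℕ) (v : ℕ → A), (∀ j, v j ∈ V g ψ) ∧ (∀ j, n ≤ j → v j = 0) ∧
    w = (π (∑ j ∈ Finset.range n, v j ^ p ^ j), ∑ j ∈ Finset.range n, nu g r r' (v j) ^ p ^ j)}
  zero_mem' := ⟨0, fun _ => 0, fun _ => Submodule.zero_mem _, fun _ _ => rfl, by simp; rfl⟩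
  add_mem' := by
    rintro _ _ ⟨n, v, hv, hn, rfl⟩ ⟨n', v', hv', hn', rfl⟩
    have hnt : Nontrivial A := (Bialgebra.counitAlgHom k A).toRingHom.domain_nontrivial
    have hp : CharP A p := charP_of_injective_algebraMap (algebraMap k A).injective p
    refine ⟨n + n', fun j => v j + v' j, fun j => Submodule.add_mem _ (hv j) (hv' j), fun j hj => ?_, ?_⟩
    · change v j + v' j = 0
      rw [hn j (by omega), hn' j (by omega), add_zero]
    · rw [Prod.mk_add_mk]
      congr 1
      · rw [← map_add, ← sum_pad (p := p) hn (Nat.le_add_right n n'), ← sum_pad (p := p) hn' (Nat.le_add_left n' n),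
          ← Finset.sum_add_distrib]
        congr 1
        exact Finset.sum_congr rfl fun j _ => (add_pow_char_pow (v j) (v' j) p j).symm
      · rw [← sum_pad (p := p) (v := fun j => nu g r r' (v j)) (fun j hj => by rw [hn j hj, map_zero])
            (Nat.le_add_right n n'),
          ← sum_pad (p := p) (v := fun j => nu g r r' (v' j)) (fun j hj => by rw [hn' j hj, map_zero])
            (Nat.le_add_left n' n), ← Finset.sum_add_distrib]
        exact Finset.sum_congr rfl fun j _ => by rw [map_add, add_pow_char_pow]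
  smul_mem' := by
    rintro c _ ⟨n, v, hv, hn, rfl⟩
    have hc : ∀ j : ℕ, ∃ z : k, z ^ p ^ j = c := fun j =>
      IsAlgClosed.exists_pow_nat_eq c (pow_pos (Fact.out : p.Prime).pos j)
    choose z hz using hc
    refine ⟨n, fun j => z j • v j, fun j => Submodule.smul_mem _ _ (hv j), fun j hj => ?_, ?_⟩
    · change z j • v j = 0
      rw [hn j hj, smul_zero]
    · rw [Prod.smul_mk]
      congr 1
      · have h1 : π (c • ∑ j ∈ Finset.range n, v j ^ p ^ j) = c • π (∑ j ∈ Finset.range n, v j ^ p ^ j) :=
          map_smul (π : A →ₐ[k] C) c _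
        rw [← h1, Finset.smul_sum]
        congr 1
        exact Finset.sum_congr rfl fun j _ => by rw [smul_pow, hz]
      · rw [Finset.smul_sum]
        exact Finset.sum_congr rfl fun j _ => by rw [map_smul, smul_eq_mul, smul_eq_mul, mul_pow, hz]

variable {g : GBasis k B M} {ψ : B →ₐc[k] A} {π : A →ₐc[k] C} {p : ℕ} [Fact p.Prime] [CharP k p]

theorem mem_W [IsAlgClosed k] {r r' : A →ₐc[k] B} {w : C × k} : w ∈ W g ψ π r r' p ↔
    ∃ (n : ℕ) (v : ℕ → A), (∀ j, v j ∈ V g ψ) ∧ (∀ j, n ≤ j → v j = 0) ∧
    w = (π (∑ j ∈ Finset.range n, v j ^ p ^ j), ∑ j ∈ Finset.range n, nu g r r' (v j) ^ p ^ j) := Iff.rfl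

/-- **The conjugating point.** -/
theorem exists_u (p : ℕ) [Fact p.Prime] [CharP k p] [IsAlgClosed k] [Algebra.FiniteType k C] (h : Ext ψ π) [IsReduced C] {r r' : A →ₐc[k] B}
    (hr : ∀ b, r (ψ b) = b) (hr' : ∀ b, r' (ψ b) = b) :
    ∃ u : C →ₐ[k] k, ∀ v ∈ V g ψ, u (π v) = nu g r r' v := by
  have hnt : Nontrivial A := (Bialgebra.counitAlgHom k A).toRingHom.domain_nontrivial
  have hp : CharP A p := charP_of_injective_algebraMap (algebraMap k A).injective p
  obtain ⟨u, hu⟩ := K203.RetPt.exists_point (W g ψ π r r' p) (by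
      rintro w hw
      obtain ⟨n, v, hv, hn, rfl⟩ := mem_W.1 hw
      exact prim_of_mem (T_le_P h (Submodule.sum_mem _ fun j _ => T_pow_pow (V_le_T (hv j)) j))) (by
      rintro w hw h0
      obtain ⟨n, v, hv, hn, rfl⟩ := mem_W.1 hw
      have h1 : π (∑ j ∈ Finset.range n, v j ^ p ^ j) = 0 := h0
      have h2 := relation h hr hr' n v hv h1
      rw [h1, h2]
      rfl) (by
      intro q hq hqk w hw
      obtain rfl : q = p := CharP.eq k hqk ‹CharP k p›
      obtain ⟨n, v, hv, hn, rfl⟩ := mem_W.1 hw
      refine mem_W.2 ⟨n + 1, fun j => if j = 0 then 0 else v (j - 1), fun j => ?_, fun j hj => ?_, ?_⟩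
      · change (if j = 0 then 0 else v (j - 1)) ∈ _
        split_ifs
        · exact Submodule.zero_mem _
        · exact hv _
      · change (if j = 0 then 0 else v (j - 1)) = 0
        rw [if_neg (by omega)]
        exact hn _ (by omega)
      · rw [Prod.pow_mk]
        congr 1
        · rw [← map_pow, sum_pow_char, Finset.sum_range_succ']
          congr 1
          simp only [Nat.add_eq_zero_iff, one_ne_zero, and_false, if_false, if_true, pow_zero, pow_one, add_zero,
            Nat.add_sub_cancel]
          exact Finset.sum_congr rfl fun j _ => by rw [pow_succ, pow_mul]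
        · rw [sum_pow_char, Finset.sum_range_succ']
          simp only [Nat.add_eq_zero_iff, one_ne_zero, and_false, if_false, if_true, pow_zero, pow_one, add_zero,
            Nat.add_sub_cancel, map_zero]
          exact Finset.sum_congr rfl fun j _ => by rw [pow_succ, pow_mul])
  refine ⟨u, fun v hv => ?_⟩
  have h1 : ((π v, nu g r r' v) : C × k) ∈ W g ψ π r r' p := by
    refine mem_W.2 ⟨1, fun j => if j = 0 then v else 0, fun j => ?_, fun j hj => if_neg (by omega), by simp⟩
    change (if j = 0 then v else 0) ∈ _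
    split_ifs
    · exact hv
    · exact Submodule.zero_mem _
  exact hu _ h1

end K203.RetU
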