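import Groth.Agent.SGA3.K203.Pts
import Groth.Agent.SGA3.K203.CharSep
import Groth.Agent.Sga3A.MTBasis
import Groth.Agent.Sga3.H785.GalDesc
import Groth.Agent.Ega43.SmoothReduced

/-!
# Torsion points of groups of multiplicative type

`B` a Hopf algebra over a field `k`, `g` a group-like basis of `K ⊗ B`, `K` algebraically closed.

* `extPt`: points of `B` with values in a `K`-algebra as points of `K ⊗ B`;
* `ptOf`: the point defined by a character;
* `exists_lift_tors`: torsion points with values in a local `K`-algebra come from `K`;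
* `tors`: the finite group of points of `B` in `K` killed by `N`, of order invertible in `K`;
* `eq_zero_of_tors`: density of the torsion points.
-/

set_option autoImplicit false

universe u

open TensorProduct WithConv

namespace K203.TorsPts

open K203.Pts Groth.Agent.Books.DynBasic Groth.Agent.Sga3A.MTBasis

section ext

variable {k : Type u} [Field k] {B : Type u} [CommRing B] [HopfAlgebra k B]
  {K : Type u} [Field K] [Algebra k K] {L : Type u} [CommRing L] [Algebra k L] [Algebra K L]
  [IsScalarTower k K L]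

variable (K) in
/-- extension of a point to `K ⊗ B` (as an algebra map) -/
noncomputable def extHom (x : B →ₐ[k] L) : (K ⊗[k] B) →ₐ[K] L :=
  Algebra.TensorProduct.lift (Algebra.ofId K L) x (fun _ _ ↦ .all _ _)

lemma extHom_tmul (x : B →ₐ[k] L) (c : K) (b : B) :
    extHom K x (c ⊗ₜ b) = algebraMap K L c * x b := by
  rw [extHom, Algebra.TensorProduct.lift_tmul]; rfl

lemma hom_ext_one_tmul {X Y : (K ⊗[k] B) →ₐ[K] L} (h : ∀ b, X (1 ⊗ₜ b) = Y (1 ⊗ₜ b)) : X = Y := by
  apply Algebra.TensorProduct.ext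
  · ext
  · apply AlgHom.ext
    intro b
    exact h b

variable (K) in
/-- extension of a point to `K ⊗ B` -/
noncomputable def extPt : WithConv (B →ₐ[k] L) →* WithConv ((K ⊗[k] B) →ₐ[K] L) where
  toFun x := toConv (extHom K x.ofConv)
  map_one' := by
    apply WithConv.ext
    apply hom_ext_one_tmul
    intro b
    rw [show (toConv (extHom K (1 : WithConv (B →ₐ[k] L)).ofConv)).ofConv =
      extHom K (1 : WithConv (B →ₐ[k] L)).ofConv from rfl, extHom_tmul, map_one, one_mul, one_apply,
      one_apply, TensorProduct.counit_tmul, CommSemiring.counit_apply, Algebra.smul_def, map_mul,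
      ← IsScalarTower.algebraMap_apply, map_one, mul_one]
  map_mul' x y := by
    apply WithConv.ext
    apply hom_ext_one_tmul
    intro b
    rw [show (toConv (extHom K (x * y).ofConv)).ofConv = extHom K (x * y).ofConv from rfl,
      extHom_tmul, map_one, one_mul, mul_apply, mul_apply, comul_one_tmul]
    generalize (CoalgebraStruct.comul (R := k) b : B ⊗[k] B) = z
    induction z with
    | zero => simp
    | add u v hu hv => rw [map_add, hu, hv, TensorProduct.tmul_add, map_add, map_add]
    | tmul u v =>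
      rw [Algebra.TensorProduct.lift_tmul]
      simp only [TensorProduct.AlgebraTensorModule.distribBaseChange]
      simp [extHom_tmul]

lemma extPt_apply (x : WithConv (B →ₐ[k] L)) (c : K) (b : B) :
    (extPt K x).ofConv (c ⊗ₜ b) = algebraMap K L c * x.ofConv b := extHom_tmul _ _ _

lemma mul_groupLike {k : Type u} [CommRing k] {B : Type u} [CommRing B] [HopfAlgebra k B]
    {L : Type u} [CommRing L] [Algebra k L] (X Y : WithConv (B →ₐ[k] L)) {γ : B}
    (hγ : IsGroupLikeElem k γ) : (X * Y).ofConv γ = X.ofConv γ * Y.ofConv γ := by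
  rw [mul_apply, hγ.comul_eq_tmul_self, Algebra.TensorProduct.lift_tmul]

lemma one_groupLike {k : Type u} [CommRing k] {B : Type u} [CommRing B] [HopfAlgebra k B]
    {L : Type u} [CommRing L] [Algebra k L] {γ : B}
    (hγ : IsGroupLikeElem k γ) : (1 : WithConv (B →ₐ[k] L)).ofConv γ = 1 := by
  rw [one_apply, hγ.counit_eq_one, map_one]

lemma pow_groupLike {k : Type u} [CommRing k] {B : Type u} [CommRing B] [HopfAlgebra k B]
    {L : Type u} [CommRing L] [Algebra k L] (X : WithConv (B →ₐ[k] L)) {γ : B}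
    (hγ : IsGroupLikeElem k γ) (n : ℕ) : (X ^ n).ofConv γ = X.ofConv γ ^ n := by
  induction n with
  | zero => rw [pow_zero, pow_zero, one_groupLike hγ]
  | succ n ih => rw [pow_succ, pow_succ, mul_groupLike _ _ hγ, ih]

end ext

section basis

variable {k : Type u} [Field k] {B : Type u} [CommRing B] [HopfAlgebra k B]
  {K : Type u} [Field K] [Algebra k K] {M : Type u} [CommGroup M] (g : GBasis K (K ⊗[k] B) M)
  {L : Type u} [CommRing L] [Algebra k L] [Algebra K L] [IsScalarTower k K L]

/-- the value of a point at a character -/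
noncomputable def chi (x : WithConv (B →ₐ[k] L)) (m : M) : L := (extPt K x).ofConv (g.b m)

lemma chi_mul (x y : WithConv (B →ₐ[k] L)) (m : M) : chi g (x * y) m = chi g x m * chi g y m := by
  rw [chi, map_mul, mul_groupLike _ _ (g.gl m)]; rfl

lemma chi_one (m : M) : chi g (1 : WithConv (B →ₐ[k] L)) m = 1 := by
  rw [chi, map_one, one_groupLike (g.gl m)]

lemma chi_pow (x : WithConv (B →ₐ[k] L)) (n : ℕ) (m : M) : chi g (x ^ n) m = chi g x m ^ n := by
  rw [chi, map_pow, pow_groupLike _ (g.gl m)]; rfl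

lemma chi_mul' (x : WithConv (B →ₐ[k] L)) (m m' : M) : chi g x (m * m') = chi g x m * chi g x m' := by
  rw [chi, g.mul, map_mul]; rfl

lemma chi_one' (x : WithConv (B →ₐ[k] L)) : chi g x 1 = 1 := by
  rw [chi, g.one, map_one]

lemma chi_mapPt {L' : Type u} [CommRing L'] [Algebra k L'] [Algebra K L'] [IsScalarTower k K L']
    (f : L →ₐ[K] L') (x : WithConv (B →ₐ[k] L)) (m : M) :
    chi g (mapPt (f.restrictScalars k) x) m = f (chi g x m) := by
  have h1 : (extPt K (mapPt (f.restrictScalars k) x)).ofConv = f.comp (extPt K x).ofConv := by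
    apply hom_ext_one_tmul
    intro b
    rw [extPt_apply, AlgHom.comp_apply, extPt_apply, map_one, map_one, one_mul, one_mul]
    rfl
  exact DFunLike.congr_fun h1 (g.b m)

lemma ext_chi {x y : WithConv (B →ₐ[k] L)} (h : ∀ m, chi g x m = chi g y m) : x = y := by
  have h1 : (extPt K x).ofConv.toLinearMap = (extPt K y).ofConv.toLinearMap := g.b.ext h
  apply Pts.ext
  intro b
  have h2 := LinearMap.congr_fun h1 (1 ⊗ₜ b)
  change (extPt K x).ofConv (1 ⊗ₜ b) = (extPt K y).ofConv (1 ⊗ₜ b) at h2
  rwa [extPt_apply, extPt_apply, map_one, one_mul, one_mul] at h2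

include g in
lemma mul_comm_pt (x y : WithConv (B →ₐ[k] L)) : x * y = y * x := by
  apply ext_chi g
  intro m
  rw [chi_mul, chi_mul, mul_comm]

/-- the point defined by a character -/
noncomputable def ptOf (χ : M →* L) : WithConv (B →ₐ[k] L) :=
  toConv ((((MonoidAlgebra.lift K L M χ).comp
    ((g.bialgEquiv.symm : (K ⊗[k] B) ≃ₐc[K] MonoidAlgebra K M) :
      (K ⊗[k] B) →ₐ[K] MonoidAlgebra K M)).restrictScalars k).comp
      Algebra.TensorProduct.includeRight)

lemma chi_ptOf (χ : M →* L) (m : M) : chi g (ptOf g χ) m = χ m := by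
  have h1 : (extPt K (ptOf g χ)).ofConv = (MonoidAlgebra.lift K L M χ).comp
    ((g.bialgEquiv.symm : (K ⊗[k] B) ≃ₐc[K] MonoidAlgebra K M) :
      (K ⊗[k] B) →ₐ[K] MonoidAlgebra K M) := by
    apply hom_ext_one_tmul
    intro b
    rw [extPt_apply, map_one, one_mul]
    rfl
  rw [chi, h1]
  have h2 : g.bialgEquiv.symm (g.b m) = MonoidAlgebra.single m 1 := by
    rw [← g.bialgEquiv.apply_symm_apply (g.b m)]
    have h2 := g.bialgEquiv_single m 1
    rw [one_smul] at h2
    rw [← h2, BialgEquiv.symm_apply_apply, BialgEquiv.symm_apply_apply]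
  change MonoidAlgebra.lift K L M χ (g.bialgEquiv.symm (g.b m)) = _
  rw [h2]
  simp

/-- the structure map -/
noncomputable def stm (k K L : Type u) [Field k] [Field K] [Algebra k K] [CommRing L] [Algebra k L]
    [Algebra K L] [IsScalarTower k K L] : K →ₐ[k] L := (Algebra.ofId K L).restrictScalars k

lemma chi_stm (x : WithConv (B →ₐ[k] K)) (m : M) :
    chi g (mapPt (stm k K L) x) m = algebraMap K L (chi g x m) := chi_mapPt g (Algebra.ofId K L) x m

include g in
/-- Torsion points with values in a local `K`-algebra come from `K`. -/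
theorem exists_lift_tors [IsAlgClosed K] [IsLocalRing L] (n : ℕ) (hn : (n : K) ≠ 0)
    (x : WithConv (B →ₐ[k] L)) (hx : x ^ n = 1) :
    ∃ y : WithConv (B →ₐ[k] K), y ^ n = 1 ∧ mapPt (stm k K L) y = x := by
  have h1 : ∀ m, ∃ ζ : K, ζ ^ n = 1 ∧ algebraMap K L ζ = chi g x m := fun m ↦
    CharSep.exists_root_of_unity n hn _ (by rw [← chi_pow, hx, chi_one])
  choose ζ hζ hζ' using h1
  have hinj : Function.Injective (algebraMap K L) := (algebraMap K L).injective
  let χ : M →* K :=
    { toFun := ζ
      map_one' := hinj (by rw [hζ', chi_one', map_one])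
      map_mul' := fun m m' ↦ hinj (by rw [hζ', chi_mul', map_mul, hζ', hζ']) }
  have h2 : mapPt (stm k K L) (ptOf g χ) = x := by
    apply ext_chi g
    intro m
    rw [chi_stm, chi_ptOf]
    exact hζ' m
  refine ⟨ptOf g χ, ?_, h2⟩
  apply mapPt_injective (stm k K L) hinj
  rw [map_pow, h2, hx, map_one]

/-- The character of a point. -/
noncomputable def chiHom (x : WithConv (B →ₐ[k] L)) : M →* L where
  toFun := chi g x
  map_one' := chi_one' g x
  map_mul' := chi_mul' g x

/-- The points killed by `N`. -/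
noncomputable def tors (L : Type u) [CommRing L] [Algebra k L] [Algebra K L] [IsScalarTower k K L]
    (N : ℕ) : Subgroup (WithConv (B →ₐ[k] L)) where
  carrier := {x | x ^ N = 1}
  one_mem' := one_pow N
  mul_mem' {x y} hx hy := by
    change (x * y) ^ N = 1
    rw [Commute.mul_pow (mul_comm_pt g x y), show x ^ N = 1 from hx, show y ^ N = 1 from hy, one_mul]
  inv_mem' {x} hx := by
    change x⁻¹ ^ N = 1
    rw [inv_pow, show x ^ N = 1 from hx, inv_one]

lemma mem_tors {N : ℕ} {x : WithConv (B →ₐ[k] L)} : x ∈ tors g L N ↔ x ^ N = 1 := Iff.rfl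

theorem finite_tors (hM : Group.FG M) (N : ℕ) (hN : (N : K) ≠ 0) : Finite (tors g K N) := by
  classical
  have hN0 : 0 < N := Nat.pos_of_ne_zero (by rintro rfl; simp at hN)
  obtain ⟨S, hS⟩ := hM.out
  let Z := {ζ : K // ζ ^ N = 1}
  have hZ : Finite Z := by
    have : Finite (Polynomial.nthRootsFinset N (1 : K)) := inferInstance
    refine Finite.of_injective (fun z : Z ↦ (⟨z.1, (Polynomial.mem_nthRootsFinset hN0 _).mpr z.2⟩ :
      Polynomial.nthRootsFinset N (1 : K))) fun a b h ↦ ?_
    have h' : a.1 = b.1 := congrArg (fun q : Polynomial.nthRootsFinset N (1 : K) ↦ q.1) h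
    exact Subtype.ext h'
  refine Finite.of_injective (β := S → Z) (fun x s ↦ ⟨chi g x.1 s, by
    rw [← chi_pow, show x.1 ^ N = 1 from x.2, chi_one]⟩) fun x y h ↦ ?_
  apply Subtype.ext
  apply ext_chi g
  have h1 : chiHom g x.1 = chiHom g y.1 := by
    refine MonoidHom.eq_of_eqOn_dense hS fun s hs ↦ ?_
    exact congrArg Subtype.val (congrFun h ⟨s, hs⟩)
  exact fun m ↦ DFunLike.congr_fun h1 m

theorem card_tors_ne_zero (N : ℕ) (hN : (N : K) ≠ 0) [Fintype (tors g K N)] :
    (Fintype.card (tors g K N) : K) ≠ 0 := by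
  intro h0
  obtain ⟨p, hp⟩ := CharP.exists K
  have h1 := (CharP.cast_eq_zero_iff K p _).mp h0
  rcases CharP.char_is_prime_or_zero K p with h2 | h2
  · have : Fact p.Prime := ⟨h2⟩
    obtain ⟨x, hx⟩ := exists_prime_orderOf_dvd_card p h1
    have h3 : x ^ N = 1 := Subtype.ext x.2
    have h4 := orderOf_dvd_of_pow_eq_one h3
    rw [hx] at h4
    exact hN ((CharP.cast_eq_zero_iff K p N).mpr h4)
  · rw [h2] at h1
    exact Fintype.card_ne_zero (zero_dvd_iff.mp h1)

include g in
theorem fg_of_gbasis [Algebra.FiniteType k B] : Group.FG M := by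
  have h1 : Algebra.FiniteType K (K ⊗[k] B) := inferInstance
  have h2 : Algebra.FiniteType K (MonoidAlgebra K M) :=
    h1.of_surjective ((g.bialgEquiv.symm : (K ⊗[k] B) ≃ₐc[K] MonoidAlgebra K M) :
      (K ⊗[k] B) →ₐ[K] MonoidAlgebra K M) g.bialgEquiv.symm.surjective
  have h3 := MonoidAlgebra.fg_of_finiteType (R := K) (M := M)
  exact Group.fg_iff_monoid_fg.mpr h3

include g in
theorem no_torsion_of_isReduced [IsReduced (K ⊗[k] B)] (p : ℕ) (hp : p.Prime) (hpK : (p : K) = 0)
    (x : M) (hx : x ^ p = 1) : x = 1 := by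
  have : Nontrivial (K ⊗[k] B) :=
    (Bialgebra.counitAlgHom K (K ⊗[k] B)).toRingHom.domain_nontrivial
  have : Fact p.Prime := ⟨hp⟩
  have hc : CharP K p := (CharP.charP_iff_prime_eq_zero hp).mpr hpK
  have hc' : CharP (K ⊗[k] B) p := charP_of_injective_algebraMap (algebraMap K (K ⊗[k] B)).injective p
  have h1 : (g.b x - 1) ^ p = 0 := by
    rw [sub_pow_char, one_pow, ← g.hom_apply, ← map_pow, hx, map_one, sub_self]
  have h2 : g.b x = g.b 1 := by
    rw [g.one]
    exact sub_eq_zero.mp (pow_eq_zero_iff hp.ne_zero |>.mp h1)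
  exact g.b_injective h2

/-- evaluation at a point -/
noncomputable def evPt (x : B →ₐ[k] L) : (L ⊗[k] B) →ₐ[L] L :=
  Algebra.TensorProduct.lift (Algebra.ofId L L) x (fun _ _ ↦ .all _ _)

lemma evPt_tmul (x : B →ₐ[k] L) (c : L) (b : B) : evPt x (c ⊗ₜ b) = c * x b := by
  rw [evPt, Algebra.TensorProduct.lift_tmul]; rfl

lemma evPt_bc (x : WithConv (B →ₐ[k] L)) (w : K ⊗[k] B) :
    evPt x.ofConv (bc B (stm k K L) w) = (extPt K x).ofConv w := by
  induction w with
  | zero => simp
  | add u v hu hv => rw [map_add, map_add, map_add, hu, hv]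
  | tmul c b =>
    rw [bc_tmul, evPt_tmul, extPt_apply]
    rfl

include g in
/-- Density of the torsion points. -/
theorem eq_zero_of_tors [IsAlgClosed K] (hM : Group.FG M)
    (hp : ∀ p : ℕ, p.Prime → (p : K) = 0 → ∀ x : M, x ^ p = 1 → x = 1) (z : L ⊗[k] B)
    (hz : ∀ N : ℕ, (N : K) ≠ 0 → ∀ y : WithConv (B →ₐ[k] K), y ^ N = 1 →
      evPt (mapPt (stm k K L) y).ofConv z = 0) : z = 0 := by
  classical
  let G := g.bc (stm k K L)
  apply G.b.repr.injective
  rw [map_zero]
  by_contra hne
  obtain ⟨N, hN, hsep⟩ := CharSep.exists_char_finset hp (G.b.repr z).support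
  -- the functions on the torsion points
  let f : (G.b.repr z).support → (tors g K N →* K) := fun m ↦
    { toFun := fun x ↦ chi g x.1 m.1
      map_one' := chi_one g _
      map_mul' := fun x y ↦ chi_mul g _ _ _ }
  have hf : Function.Injective f := by
    intro m m' h
    by_contra hmm
    obtain ⟨χ, h1, h2⟩ := hsep m.1 m.2 m'.1 m'.2 (fun h ↦ hmm (Subtype.ext h))
    let χ' : M →* K := (Units.coeHom K).comp χ
    have h3 : (ptOf (L := K) g χ') ^ N = 1 := by
      apply ext_chi g
      intro m
      rw [chi_pow, chi_ptOf, chi_one]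
      exact congrArg Units.val (h1 m)
    have h4 := DFunLike.congr_fun h ⟨ptOf g χ', h3⟩
    change chi g (ptOf g χ') m.1 = chi g (ptOf g χ') m'.1 at h4
    rw [chi_ptOf, chi_ptOf] at h4
    exact h2 (Units.ext h4)
  have hli : LinearIndependent K (fun m ↦ (f m : tors g K N → K)) :=
    (linearIndependent_monoidHom (tors g K N) K).comp f hf
  -- the relations
  have hrel : ∀ x : tors g K N, ∑ m ∈ (G.b.repr z).support,
      G.b.repr z m * algebraMap K L (chi g x.1 m) = 0 := by
    intro x
    have h1 := hz N hN x.1 x.2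
    have h2 : z = ∑ m ∈ (G.b.repr z).support, G.b.repr z m • G.b m :=
      (G.b.linearCombination_repr z).symm
    rw [h2, map_sum] at h1
    rw [← h1]
    refine Finset.sum_congr rfl fun m _ ↦ ?_
    rw [map_smul, smul_eq_mul, GBasis.bc_b, evPt_bc]
    congr 1
    exact (chi_stm g x.1 m).symm
  apply hne
  ext m
  by_cases hm : m ∈ (G.b.repr z).support
  · rw [Finsupp.zero_apply, ← Module.forall_dual_apply_eq_zero_iff K]
    intro ℓ
    have h1 := Fintype.linearIndependent_iff.mp hli (fun m ↦ ℓ (G.b.repr z m.1)) (by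
      funext x
      rw [Finset.sum_apply]
      change ∑ m : (G.b.repr z).support, ℓ (G.b.repr z m.1) * chi g x.1 m.1 = (0 : K)
      rw [Finset.sum_coe_sort (G.b.repr z).support (fun m ↦ ℓ (G.b.repr z m) * chi g x.1 m)]
      have h2 := congrArg ℓ (hrel x)
      rw [map_sum, map_zero] at h2
      rw [← h2]
      refine Finset.sum_congr rfl fun m _ ↦ ?_
      rw [mul_comm (G.b.repr z m), ← Algebra.smul_def, map_smul, smul_eq_mul, mul_comm])
    exact h1 ⟨m, hm⟩
  · rw [Finsupp.zero_apply]
    exact Finsupp.notMem_support_iff.mp hm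

end basis

end K203.TorsPts
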